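import Mathlib

/-!
Elementary counting for group actions, as used in Tsuzuku's theorem on primitive rank three groups
with a Frobenius suborbit.
-/

set_option autoImplicit false

namespace Cfsg.Agent.Tsuzuku

/-- If all stabilisers have order `d` then every orbit has the same size `|U| / d`. -/
theorem orbits_mul_card {U Y : Type*} [Group U] [Finite U] [Finite Y] [MulAction U Y] (d : ℕ)
    (h : ∀ y : Y, Nat.card (MulAction.stabilizer U y) = d) :
    Nat.card (MulAction.orbitRel.Quotient U Y) * Nat.card U = d * Nat.card Y := by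
  classical
  have := Fintype.ofFinite Y
  have := Fintype.ofFinite (MulAction.orbitRel.Quotient U Y)
  rw [← Nat.card_prod, ← Nat.card_congr (MulAction.sigmaFixedByEquivOrbitsProdGroup U Y)]
  have e : (Σ g : U, MulAction.fixedBy Y g) ≃ (Σ y : Y, MulAction.stabilizer U y) :=
    { toFun := fun p => ⟨p.2.1, p.1, p.2.2⟩
      invFun := fun p => ⟨p.2.1, p.1, p.2.2⟩
      left_inv := fun p => rfl
      right_inv := fun p => rfl }
  rw [Nat.card_congr e, Nat.card_sigma, Finset.sum_congr rfl fun y _ => h y]
  simp [Nat.card_eq_fintype_card, mul_comm]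

/-- A group acting freely has order dividing the number of points. -/
theorem card_dvd_of_free {U Y : Type*} [Group U] [Finite U] [Finite Y] [MulAction U Y]
    (h : ∀ (u : U) (y : Y), u • y = y → u = 1) : Nat.card U ∣ Nat.card Y := by
  have h1 : ∀ y : Y, Nat.card (MulAction.stabilizer U y) = 1 := fun y => by
    rw [Subgroup.card_eq_one]
    exact eq_bot_iff.2 fun u hu => Subgroup.mem_bot.2 (h u y hu)
  exact ⟨Nat.card (MulAction.orbitRel.Quotient U Y), by
    have := orbits_mul_card 1 h1
    rw [one_mul] at this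
    rw [← this, mul_comm]⟩

/-- A subgroup acting freely on an invariant set has order dividing its size. -/
theorem subgroup_card_dvd_of_free {G Y : Type*} [Group G] [Finite G] [Finite Y] [MulAction G Y]
    (U : Subgroup G) (s : Y → Prop) (hs : ∀ u ∈ U, ∀ y, s y → s (u • y))
    (h : ∀ u ∈ U, ∀ y, s y → u • y = y → u = 1) :
    Nat.card U ∣ Nat.card {y : Y // s y} := by
  let a : MulAction U {y : Y // s y} :=
    { smul := fun u y => ⟨(u : G) • y.1, hs u u.2 y.1 y.2⟩
      one_smul := fun y => Subtype.ext (one_smul G y.1)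
      mul_smul := fun u v y => Subtype.ext (mul_smul (u : G) (v : G) y.1) }
  exact card_dvd_of_free fun u y hy => Subtype.ext (h u u.2 y.1 y.2 (congrArg Subtype.val hy))

/-- An involutive map without fixed points forces an even number of points. -/
theorem even_card_of_involutive {Y : Type*} [Finite Y] (f : Y → Y) (hf : ∀ y, f (f y) = y)
    (h : ∀ y, f y ≠ y) : Even (Nat.card Y) := by
  classical
  have := Fintype.ofFinite Y
  by_contra hne
  have : Fact (Nat.Prime 2) := ⟨Nat.prime_two⟩
  have hodd : ¬ 2 ∣ Fintype.card Y := by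
    rwa [Nat.card_eq_fintype_card, even_iff_two_dvd] at hne
  obtain ⟨y, hy⟩ := Equiv.Perm.exists_fixed_point_of_prime (p := 2) (n := 1) hodd
    (σ := (⟨f, f, hf, hf⟩ : Equiv.Perm Y)) (Equiv.ext fun y => by simp [pow_two, hf])
  exact h y hy

/-- An involutive map of an odd set has a fixed point. -/
theorem exists_fixed_of_involutive {Y : Type*} [Finite Y] (f : Y → Y) (hf : ∀ y, f (f y) = y)
    (hodd : Odd (Nat.card Y)) : ∃ y, f y = y := by
  by_contra h
  push Not at h
  exact Nat.not_even_iff_odd.2 hodd (even_card_of_involutive f hf h)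

/-- An involutive map with exactly one fixed point acts on an odd set. -/
theorem odd_card_of_involutive_unique {Y : Type*} [Finite Y] (f : Y → Y) (hf : ∀ y, f (f y) = y)
    {y₀ : Y} (h₀ : f y₀ = y₀) (h : ∀ y, f y = y → y = y₀) : Odd (Nat.card Y) := by
  classical
  have := Fintype.ofFinite Y
  have hmaps : ∀ y, y ≠ y₀ → f y ≠ y₀ := fun y hy e => hy (by rw [← hf y, e, h₀])
  have he : Even (Nat.card {y : Y // y ≠ y₀}) :=
    even_card_of_involutive (fun y => ⟨f y.1, hmaps y.1 y.2⟩) (fun y => Subtype.ext (hf y.1))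
      (fun y e => y.2 (h y.1 (congrArg Subtype.val e)))
  have h1 : Nat.card {y : Y // y ≠ y₀} + 1 = Nat.card Y := by
    rw [Nat.card_eq_fintype_card, Nat.card_eq_fintype_card, Fintype.card_subtype_compl,
      Fintype.card_subtype_eq]
    have : 0 < Fintype.card Y := Fintype.card_pos_iff.2 ⟨y₀⟩
    omega
  rw [← h1]
  exact he.add_one

/-- A group of even order has an odd number of involutions; an involutive automorphism fixes one. -/
theorem exists_fixed_involution {U : Type*} [Group U] [Finite U] (he : Even (Nat.card U))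
    (φ : U ≃* U) (hφ : ∀ u, φ (φ u) = u) : ∃ y : U, orderOf y = 2 ∧ φ y = y := by
  classical
  have := Fintype.ofFinite U
  have hiff : ∀ y : U, orderOf y = 2 ↔ y ≠ 1 ∧ y⁻¹ = y := fun y => by
    rw [orderOf_eq_prime_iff, pow_two, mul_eq_one_iff_inv_eq, and_comm]
  have hnot : ∀ y : U, ¬ orderOf y = 2 → ¬ orderOf y⁻¹ = 2 := fun y h => by rwa [orderOf_inv]
  -- the non-involutions pair off except for the identity
  have hodd : Odd (Nat.card {y : U // ¬ orderOf y = 2}) :=
    odd_card_of_involutive_unique (fun y => ⟨y.1⁻¹, hnot y.1 y.2⟩)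
      (fun y => Subtype.ext (inv_inv y.1)) (y₀ := ⟨1, by simp⟩) (Subtype.ext inv_one)
      (fun y e => Subtype.ext (by
        have e' : (y.1)⁻¹ = y.1 := congrArg Subtype.val e
        by_contra hne
        exact y.2 ((hiff y.1).2 ⟨hne, e'⟩)))
  have hinv : Odd (Nat.card {y : U // orderOf y = 2}) := by
    have hsum : Nat.card {y : U // orderOf y = 2} + Nat.card {y : U // ¬ orderOf y = 2} =
        Nat.card U := by
      rw [← Nat.card_sum]; exact Nat.card_congr (Equiv.sumCompl _)
    rw [← hsum] at he
    rcases Nat.even_or_odd (Nat.card {y : U // orderOf y = 2}) with h | h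
    · exact absurd he (Nat.not_even_iff_odd.2 (h.add_odd hodd))
    · exact h
  obtain ⟨⟨y, hy⟩, hy'⟩ := exists_fixed_of_involutive
    (fun y : {y : U // orderOf y = 2} => ⟨φ y.1, by
      exact (orderOf_injective φ.toMonoidHom φ.injective y.1).trans y.2⟩)
    (fun y => Subtype.ext (hφ y.1)) hinv
  exact ⟨y, hy, congrArg Subtype.val hy'⟩

end Cfsg.Agent.Tsuzuku
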