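import Mathlib

/-!
Tsuzuku's theorem: the arithmetic. Only three parameter sets survive.
-/

set_option autoImplicit false

namespace Cfsg.Agent.Tsuzuku.Arith

/-- The numerical conditions on a rank three group with a Frobenius suborbit. -/
structure Data where
  (n k l h c q d e f u w' F M Q p w : ℕ)
  hn : n = 1 + k + l
  hh : h = q * c
  hql : q * k = d * l
  hk : k = 1 + h * (e + f)
  d_odd : Odd d
  d_dvd : d ∣ k
  k_odd : Odd k
  q_even : Even q
  q_pos : 0 < q
  c_pos : 0 < c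
  e_pos : 0 < e
  split : n = F + u * F + M
  hM : M * k = l * w' * F
  u_le : u ≤ h
  w_le : w' ≤ d * c
  c_dvd : c ∣ d - 1
  sq_dvd : 1 < c → d * d ∣ k
  c_dvd_Q : d = 1 → c ∣ Q
  Q_zero : 1 < d → Q = 0
  F_odd : Odd c → F = 2
  F_even : Even c → F = q + 2
  N₁_even : Even c → u * F = h * f + q * Q
  p_pos : 0 < p
  w_pos : 0 < w
  hsum : h * f + w = d * c * e + p
  hprod : k = d * c * e + p * w
  mult : ∃ N, N * (p + w) + k = w * (k + l)
  mult₁ : ∃ N, 0 < N ∧ N * (p + w) + k = h * f + q * Q + w * (q + 1)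
  mult₂ : ∃ N, 0 < N ∧ N * (p + w) + (h * f + q * Q) = k + p * (q + 1)
  small : 1 < d → Even c → f = 0 →
    ∃ N φ, 0 < φ ∧ N * (p + w) = w * φ ∧ φ * (k - 1) + (q + 2) ≤ n
  coset₁ : d = 1 → Even c → (3 * c < 4 * w' ∨ (c = 4 ∧ 2 < w')) → w' = c
  u_le_c : 1 < d → Even c → u ≤ c
  u_full : 1 < d → Even c → 3 * c < 4 * u → u = c
  no_two_four : 1 < d → q = 2 → c = 4 → u = 4 → False

namespace Data

variable (D : Data)

theorem root_eq : (D.p + 1) * (D.w - 1) = D.h * D.e := by
  obtain ⟨w₀, hw⟩ : ∃ w₀, D.w = w₀ + 1 := ⟨D.w - 1, by have := D.w_pos; omega⟩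
  have h1 := D.hsum
  have h2 := D.hprod
  have h3 := D.hk
  rw [hw] at h1 h2 ⊢
  rw [Nat.add_sub_cancel]
  nlinarith

theorem d_pos : 0 < D.d := D.d_odd.pos

theorem one_lt_d_of_ne (h : D.d ≠ 1) : 3 ≤ D.d := by
  obtain ⟨r, hr⟩ := D.d_odd
  omega

theorem p_lt_q (hd : 1 < D.d) : D.p + 1 ≤ D.q := by
  obtain ⟨N, hN, h1⟩ := D.mult₁
  have h2 := D.hsum
  have h3 := D.hprod
  rw [D.Q_zero hd, Nat.mul_zero, Nat.add_zero] at h1
  have h4 : D.p + D.w ≤ N * (D.p + D.w) := Nat.le_mul_of_pos_left _ hN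
  have h5 : D.w * (D.p + 1) ≤ D.w * D.q := by nlinarith
  exact Nat.le_of_mul_le_mul_left h5 D.w_pos

theorem q_two_le : 2 ≤ D.q := by
  obtain ⟨r, hr⟩ := D.q_even
  have := D.q_pos
  omega

theorem two_le_w : 2 ≤ D.w := by
  by_contra h
  have h1 := D.root_eq
  rw [show D.w - 1 = 0 by omega, Nat.mul_zero, D.hh] at h1
  have := Nat.mul_pos (Nat.mul_pos D.q_pos D.c_pos) D.e_pos
  omega

set_option maxHeartbeats 1000000 in
/-- the odd index case -/
theorem odd_case (hc : Odd D.c) : D.n = 10 ∧ D.k * D.h = 6 := by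
  have hq2 := D.q_two_le
  have hd0 := D.d_pos
  have hc0 := D.c_pos
  have hF := D.F_odd hc
  have hh := D.hh
  have hql := D.hql
  have hk := D.hk
  have hk0 : 0 < D.k := by omega
  have hld : D.l * D.d * D.c = D.k * D.h := by rw [hh, mul_comm D.l, ← hql]; ring
  have hMle : D.M ≤ 2 * D.h := by
    refine Nat.le_of_mul_le_mul_right ?_ hk0
    rw [D.hM, hF]
    have := Nat.mul_le_mul_left (D.l * 2) D.w_le
    nlinarith
  have hbound : D.k + D.l ≤ 4 * D.h + 1 := by
    have h1 := D.split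
    rw [D.hn, hF] at h1
    have := D.u_le
    omega
  have hl0 : 0 < D.l := by
    rcases Nat.eq_zero_or_pos D.l with h | h
    · rw [h, Nat.mul_zero] at hql
      have := Nat.mul_pos D.q_pos hk0
      omega
    · exact h
  have hU : D.e + D.f ≤ 3 := by
    by_contra h
    have : D.h * 4 ≤ D.h * (D.e + D.f) := Nat.mul_le_mul_left _ (by omega)
    omega
  have he := D.e_pos
  have hsum := D.hsum
  have hroot := D.root_eq
  have hp := D.p_pos
  have hw2 := D.two_le_w
  by_cases hd1 : D.d = 1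
  · rw [hd1, one_mul] at hql
    have hU1 : D.e + D.f = 1 := by
      by_contra h
      have h1 : D.h * 2 ≤ D.h * (D.e + D.f) := Nat.mul_le_mul_left _ (by omega)
      have h2 : 2 * D.k ≤ D.q * D.k := Nat.mul_le_mul_right _ hq2
      omega
    have he1 : D.e = 1 := by omega
    have hf0 : D.f = 0 := by omega
    rw [he1] at hk hroot hsum
    rw [hf0] at hk hsum
    rw [hd1] at hsum
    simp only [Nat.mul_one, Nat.mul_zero, one_mul, Nat.add_zero, Nat.zero_add] at hk hroot hsum
    have hq : D.q = 2 := by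
      by_contra h
      have h3 : 4 ≤ D.q := by obtain ⟨r, hr⟩ := D.q_even; omega
      have h4 : 4 * D.k ≤ D.q * D.k := Nat.mul_le_mul_right _ h3
      omega
    rw [hq] at hh hql
    have hp1 : D.p = 1 := by
      by_contra h
      have h5 : 3 * (D.c + 1) ≤ (D.p + 1) * (D.w - 1) := Nat.mul_le_mul (by omega) (by omega)
      omega
    obtain ⟨N, hN⟩ := D.mult
    rw [hp1] at hN
    have hw : D.w = D.c + 1 := by omega
    have hk' : D.k = 2 * D.c + 1 := by omega
    rw [hw, hk', show D.l = 2 * (2 * D.c + 1) by omega] at hN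
    have h12 : D.c + 2 ∣ 12 := by
      have e1 : (2 * D.c + 1) * (3 * D.c + 2) = (D.c + 2) * N := by nlinarith
      have e2 : (2 * D.c + 1) * (3 * D.c + 2) + (D.c + 2) * 5 = (D.c + 2) * (6 * D.c) + 12 := by ring
      have e3 : D.c + 2 ∣ (D.c + 2) * (6 * D.c) + 12 := ⟨N + 5, by rw [← e2, e1]; ring⟩
      exact (Nat.dvd_add_right (Dvd.intro _ rfl)).1 e3
    have := Nat.le_of_dvd (by norm_num) h12
    obtain ⟨r, hr⟩ := hc
    have hr4 : r ≤ 4 := by omega
    have hc1 : D.c = 1 := by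
      interval_cases r <;> simp_all <;> norm_num at h12
    refine ⟨?_, ?_⟩
    · rw [D.hn]; omega
    · rw [hk', hh, hc1]
  · exfalso
    have hd3 := D.one_lt_d_of_ne hd1
    have hlt := D.p_lt_q (by omega)
    -- `q k ≤ (4 - U) h d`
    have hl : D.q * D.k + D.d * (D.h * (D.e + D.f)) ≤ D.d * (4 * D.h) := by
      rw [hql, ← Nat.mul_add]
      exact Nat.mul_le_mul_left _ (by omega)
    rw [hh] at hl
    have hkd : D.k + D.d * (D.c * (D.e + D.f)) ≤ D.d * (4 * D.c) :=
      Nat.le_of_mul_le_mul_left (by linarith) D.q_pos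
    rw [hk, hh] at hkd
    by_cases hf : D.f = 0
    · rw [hf, Nat.mul_zero, Nat.zero_add] at hsum
      rw [hf, Nat.add_zero] at hkd
      have h1 : (D.p + 1) * (D.d * D.c * D.e) ≤ (D.p + 1) * (D.w - 1) :=
        Nat.mul_le_mul_left _ (by omega)
      rw [hroot, hh] at h1
      have h2 : (D.p + 1) * D.d ≤ D.q :=
        Nat.le_of_mul_le_mul_right (by linarith : (D.p + 1) * D.d * (D.c * D.e) ≤ D.q * (D.c * D.e))
          (Nat.mul_pos hc0 he)
      by_cases hp1 : D.p = 1
      · rw [hp1] at hroot hsum h2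
        rw [show D.w - 1 = D.d * D.c * D.e by omega, hh] at hroot
        have hq : D.q = 2 * D.d :=
          Nat.eq_of_mul_eq_mul_right (Nat.mul_pos hc0 he) (by linarith)
        obtain ⟨j, hj⟩ := D.d_dvd
        rw [hk, hh, hf, hq, Nat.add_zero] at hj
        have h3 : D.d ∣ 1 := (Nat.dvd_add_left ⟨2 * D.c * D.e, by ring⟩).1 ⟨j, hj⟩
        have := Nat.le_of_dvd (by norm_num) h3
        omega
      · have h3 : 3 * D.d ≤ D.q := le_trans (Nat.mul_le_mul_right _ (by omega)) h2
        have h4 : 3 * D.d * (D.c * D.e) ≤ D.q * (D.c * D.e) := Nat.mul_le_mul_right _ h3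
        have h5 : D.d * D.c * 4 ≤ D.d * D.c * (4 * D.e) := Nat.mul_le_mul_left _ (by omega)
        nlinarith
    · have hsub : (D.p + 1) * (D.w - 1) = D.q * D.c * D.e := by rw [hroot, hh]
      have h1 : 2 * (D.w - 1) ≤ (D.p + 1) * (D.w - 1) := Nat.mul_le_mul_right _ (by omega)
      rw [hsub] at h1
      rw [hh] at hsum
      have h2 : 2 * (D.d * D.e) ≤ D.q * (D.e + 2 * D.f) := by
        refine Nat.le_of_mul_le_mul_right ?_ hc0
        have : 2 * (D.d * D.c * D.e) ≤ 2 * (D.q * D.c * D.f) + 2 * (D.w - 1) := by omega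
        linarith
      have hef : (D.e = 1 ∧ D.f = 1) ∨ (D.e = 2 ∧ D.f = 1) ∨ (D.e = 1 ∧ D.f = 2) := by omega
      rcases hef with ⟨he1, hf1⟩ | ⟨he1, hf1⟩ | ⟨he1, hf1⟩ <;> rw [he1, hf1] at h2 hkd
      · -- `k = 2 c q + 1`
        have hkk : D.k = 2 * (D.q * D.c) + 1 := by rw [hk, hh, he1, hf1]; ring
        obtain ⟨j, hj⟩ := D.d_dvd
        have hjodd : Odd j := (Nat.odd_mul.1 (hj ▸ D.k_odd)).2
        have hqd : D.q < D.d := by
          by_contra h
          have : D.d * D.c ≤ D.q * D.c := Nat.mul_le_mul_right _ (by omega)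
          linarith
        by_cases hc1 : D.c = 1
        · rw [hc1] at hkk
          obtain ⟨r, hr⟩ := hjodd
          rcases Nat.eq_zero_or_pos r with hr0 | hr0
          · rw [hr, hr0] at hj
            omega
          · have h3 : D.d * 3 ≤ D.d * j := Nat.mul_le_mul_left _ (by omega)
            omega
        · obtain ⟨t, ht⟩ := D.sq_dvd (by omega)
          have h2c : 2 * D.c ∣ D.d - 1 := by
            have hev : 2 ∣ D.d - 1 := by obtain ⟨r, hr⟩ := D.d_odd; exact ⟨r, by omega⟩
            exact Nat.Coprime.mul_dvd_of_dvd_of_dvd (Nat.coprime_two_left.2 hc) hev D.c_dvd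
          have h3 := Nat.le_of_dvd (by omega) h2c
          have ht0 : 0 < t := by
            rcases Nat.eq_zero_or_pos t with h | h
            · rw [h, Nat.mul_zero] at ht; omega
            · exact h
          have h4 : D.d * D.d ≤ D.d * D.d * t := Nat.le_mul_of_pos_right _ ht0
          have h5 : D.d * (2 * D.c + 1) ≤ D.d * D.d := Nat.mul_le_mul_left _ (by omega)
          linarith
      · have hqd : 3 * D.q < D.d := by
          by_contra h
          have : D.d * D.c ≤ 3 * D.q * D.c := Nat.mul_le_mul_right _ (by omega)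
          linarith
        omega
      · have hqd : 3 * D.q < D.d := by
          by_contra h
          have : D.d * D.c ≤ 3 * D.q * D.c := Nat.mul_le_mul_right _ (by omega)
          linarith
        omega

set_option maxHeartbeats 1000000 in
/-- the even index case with trivial kernel part -/
theorem even_case_one (hc : Even D.c) (hd : D.d = 1) : D.n = 16 ∧ D.k * D.h = 20 := by
  have hq2 := D.q_two_le
  have hc0 := D.c_pos
  have hc2 : 2 ≤ D.c := by obtain ⟨r, hr⟩ := hc; omega
  have hF := D.F_even hc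
  have hh := D.hh
  have hk := D.hk
  have hN1 := D.N₁_even hc
  have hw' := D.w_le
  rw [hd, one_mul] at hw'
  have hl : D.l = D.q * D.k := by rw [D.hql, hd, one_mul]
  have hM : D.M = D.q * D.w' * (D.q + 2) := by
    refine Nat.eq_of_mul_eq_mul_right (show 0 < D.k by omega) ?_
    rw [D.hM, hF, hl]; ring
  obtain ⟨m, hm⟩ := D.c_dvd_Q hd
  -- the basic equation
  have heq : D.c * (D.e + D.f) * (D.q + 1) = D.c * D.f + D.c * m + D.w' * (D.q + 2) := by
    refine Nat.eq_of_mul_eq_mul_left D.q_pos ?_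
    have h1 := D.split
    rw [D.hn, hl, hM, hN1, hF, hk, hh, hm] at h1
    linarith
  have hU : D.e + D.f ≤ 2 := by
    by_contra h
    have h1 : D.q * D.c * 3 * (D.q + 1) ≤ D.h * (D.e + D.f) * (D.q + 1) := by
      rw [hh]; exact Nat.mul_le_mul_right _ (Nat.mul_le_mul_left _ (by omega))
    have h2 := D.split
    rw [D.hn, hl, hM, hF, hk] at h2
    have h3 : D.u * (D.q + 2) ≤ D.q * D.c * (D.q + 2) := Nat.mul_le_mul_right _ (hh ▸ D.u_le)
    have h4 : D.q * D.w' * (D.q + 2) ≤ D.q * D.c * (D.q + 2) :=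
      Nat.mul_le_mul_right _ (Nat.mul_le_mul_left _ hw')
    have h5 : D.q * D.c * 2 ≤ D.q * D.c * D.q := Nat.mul_le_mul_left _ hq2
    have h6 : 0 < D.q * D.c := Nat.mul_pos D.q_pos hc0
    linarith
  have hb := Nat.mul_le_mul_right (D.q + 2) hw'
  have he := D.e_pos
  have hsum := D.hsum
  rw [hd] at hsum
  have hp := D.p_pos
  have hw2 := D.two_le_w
  have hroot := D.root_eq
  obtain ⟨N₂, hN₂, h22⟩ := D.mult₂
  rw [hm] at h22
  have hv : D.p + D.w ≤ N₂ * (D.p + D.w) := Nat.le_mul_of_pos_left _ hN₂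
  obtain ⟨he1, hf1⟩ | ⟨he1, hf1⟩ | ⟨he1, hf1⟩ :
      (D.e = 1 ∧ D.f = 0) ∨ (D.e = 2 ∧ D.f = 0) ∨ (D.e = 1 ∧ D.f = 1) := by omega
  · rw [he1] at heq hsum hroot hk
    rw [hf1] at heq hsum hk
    rw [hf1] at hN1 h22
    rw [hh] at hk hroot
    simp only [Nat.mul_one, Nat.mul_zero, one_mul, Nat.add_zero, Nat.zero_add] at *
    have hw : D.w = D.c + D.p := by omega
    obtain ⟨p₀, hp₀⟩ : ∃ p₀, D.p = p₀ + 1 := ⟨D.p - 1, by omega⟩
    rw [show D.w - 1 = D.c + p₀ by omega] at hroot
    -- `q + 2` divides `2 c`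
    have hdvd : D.q + 2 ∣ 2 * D.c := by
      have h1 : D.q + 2 ∣ D.q * (D.c * m) := ⟨D.u, by rw [← hm, ← hN1, hF]; ring⟩
      have h2 : D.q + 2 ∣ 2 * (D.c * m) := by
        have h3 : D.q + 2 ∣ D.q * (D.c * m) + 2 * (D.c * m) := ⟨D.c * m, by ring⟩
        exact (Nat.dvd_add_right h1).1 h3
      have h5 : D.q + 2 ∣ 2 * (D.c * m) + 2 * D.c := by
        have h7 : D.q + 2 ∣ (2 * (D.c * m) + 2 * D.c) + 2 * (D.w' * (D.q + 2)) :=
          ⟨2 * D.c, by linarith⟩
        exact (Nat.dvd_add_left ⟨2 * D.w', by ring⟩).1 h7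
      exact (Nat.dvd_add_right h2).1 h5
    have hq2c : D.q + 2 ≤ 2 * D.c := Nat.le_of_dvd (by omega) hdvd
    have hpc : D.p < D.c := by
      by_contra h
      have h1 : (D.c + 1) * (D.c + (D.c - 1)) ≤ (D.p + 1) * (D.c + p₀) :=
        Nat.mul_le_mul (by omega) (by omega)
      rw [hroot] at h1
      have h2 : D.c * (D.q + 2) ≤ D.c * (2 * D.c) := Nat.mul_le_mul_left _ hq2c
      obtain ⟨c₀, hc₀⟩ : ∃ c₀, D.c = c₀ + 1 := ⟨D.c - 1, by omega⟩
      rw [show D.c - 1 = c₀ by omega] at h1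
      rw [hc₀] at h1 h2
      linarith
    have hm1 : m ≤ 1 := by
      by_contra h
      have h1 : D.q * (D.c * 2) ≤ D.q * (D.c * m) := Nat.mul_le_mul_left _ (Nat.mul_le_mul_left _ (by omega))
      have h2 : D.p * D.q ≤ D.c * D.q := Nat.mul_le_mul_right _ hpc.le
      linarith
    by_cases hp1 : D.p = 1
    · have hq : D.q = 2 := by
        rw [hp1, show p₀ = 0 by omega, Nat.add_zero] at hroot
        exact Nat.eq_of_mul_eq_mul_right hc0 hroot.symm
      rw [hq] at heq hh hk hl
      obtain ⟨N, hN⟩ := D.mult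
      rw [hp1, hw, hp1, hl, hk] at hN
      have h12 : D.c + 2 ∣ 12 := by
        have e1 : (2 * D.c + 1) * (3 * D.c + 2) = (D.c + 2) * N := by linarith
        have e2 : (2 * D.c + 1) * (3 * D.c + 2) + (D.c + 2) * 5 = (D.c + 2) * (6 * D.c) + 12 := by ring
        have e3 : D.c + 2 ∣ (D.c + 2) * (6 * D.c) + 12 := ⟨N + 5, by rw [← e2, e1]; ring⟩
        exact (Nat.dvd_add_right (Dvd.intro _ rfl)).1 e3
      interval_cases m
      · exfalso
        have hc4 : D.c = 4 := by
          have := Nat.le_of_dvd (by norm_num) h12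
          have : D.c ≤ 10 := by omega
          interval_cases hc' : D.c <;> first | rfl | omega | norm_num at h12
        have := D.coset₁ hd hc (Or.inr ⟨hc4, by omega⟩)
        omega
      · obtain ⟨N₁, hN₁p, h21⟩ := D.mult₁
        rw [hm, hp1, hw, hp1, hq, hk, hh, hf1] at h21
        have h4 : D.c + 2 ∣ 4 := by
          have e1 : D.c + 2 ∣ 3 * D.c + 2 := ⟨N₁, by linarith⟩
          have e2 : D.c + 2 ∣ (3 * D.c + 2) + 4 := ⟨3, by ring⟩
          exact (Nat.dvd_add_right e1).1 e2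
        have := Nat.le_of_dvd (by norm_num) h4
        refine ⟨?_, ?_⟩
        · rw [D.hn, hl, hk]; omega
        · rw [hk, hh]; have : D.c = 2 := by omega
          rw [this]
    · exfalso
      have hq3 : D.p + 1 < D.q := by
        by_contra h
        have h1 : D.q * D.c ≤ (D.p + 1) * D.c := Nat.mul_le_mul_right _ (by omega)
        have h2 : 0 < (D.p + 1) * p₀ := Nat.mul_pos (by omega) (by omega)
        linarith
      have hq4 : 4 ≤ D.q := by obtain ⟨r, hr⟩ := D.q_even; omega
      interval_cases m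
      · have := D.coset₁ hd hc (Or.inl (by nlinarith))
        rw [this] at heq
        linarith
      · by_cases hq7 : 6 < D.q
        · have := D.coset₁ hd hc (Or.inl (by nlinarith))
          rw [this] at heq
          linarith
        · obtain ⟨r, hr⟩ := D.q_even
          obtain ⟨s, hs⟩ := hc
          obtain hq | hq : D.q = 4 ∨ D.q = 6 := by omega
          · have hp2 : D.p = 2 := by omega
            rw [hp2, hq, show p₀ = 1 by omega] at hroot
            omega
          · rw [hq] at hroot heq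
            have hp5 : D.p = 2 ∨ D.p = 3 ∨ D.p = 4 := by omega
            rcases hp5 with h | h | h
            · rw [h, show p₀ = 1 by omega] at hroot
              omega
            · rw [h, show p₀ = 2 by omega] at hroot
              have hc4 : D.c = 4 := by omega
              have := D.coset₁ hd ⟨s, hs⟩ (Or.inr ⟨hc4, by omega⟩)
              omega
            · rw [h, show p₀ = 3 by omega] at hroot
              omega
  · exfalso
    rw [he1] at heq hsum hroot
    rw [hf1] at heq hsum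
    rw [hf1] at h22
    rw [hk, hh, he1, hf1] at h22
    rw [hh] at hroot
    simp only [Nat.mul_one, Nat.mul_zero, one_mul, Nat.add_zero, Nat.zero_add] at *
    have hw : D.w = 2 * D.c + D.p := by linarith
    have hmq : D.q ≤ m := by
      by_contra h
      have : D.c * (m + 1) ≤ D.c * D.q := Nat.mul_le_mul_left _ (by omega)
      linarith
    have h1 : D.q * (D.c * D.q) ≤ D.q * (D.c * m) := Nat.mul_le_mul_left _ (Nat.mul_le_mul_left _ hmq)
    have h2 : D.q * (D.c * D.q) + 2 * D.c + D.p ≤ 1 + 2 * (D.q * D.c) + D.p * D.q := by linarith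
    obtain ⟨p₀, hp₀⟩ : ∃ p₀, D.p = p₀ + 1 := ⟨D.p - 1, by omega⟩
    rw [show D.w - 1 = 2 * D.c + p₀ by omega] at hroot
    by_cases hq : D.q = 2
    · rw [hq] at h2 hroot
      have h3 : (2 * D.c) * (2 * D.c + p₀) ≤ (D.p + 1) * (2 * D.c + p₀) :=
        Nat.mul_le_mul_right _ (by omega)
      have h4 : 4 * (2 * D.c) ≤ (2 * D.c + p₀) * (2 * D.c) := Nat.mul_le_mul_right _ (by omega)
      linarith
    · have hq4 : 4 ≤ D.q := by obtain ⟨r, hr⟩ := D.q_even; omega
      obtain ⟨q₁, hq₁⟩ : ∃ q₁, D.q = q₁ + 1 := ⟨D.q - 1, by omega⟩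
      have h3 : D.q * D.c * (2 * q₁) ≤ D.q * D.c * (3 * (q₁ - 1)) :=
        Nat.mul_le_mul_left _ (by omega)
      obtain ⟨q₂, hq₂⟩ : ∃ q₂, q₁ = q₂ + 1 := ⟨q₁ - 1, by omega⟩
      rw [show q₁ - 1 = q₂ by omega] at h3
      have h4 : D.q * D.c * q₂ < D.p * q₁ := by
        rw [hq₁, hq₂] at h2 ⊢
        linarith
      have h5 : 2 * (D.q * D.c) * q₁ < 3 * D.p * q₁ := by linarith
      have h6 : 2 * (D.q * D.c) < 3 * D.p := Nat.lt_of_mul_lt_mul_right h5
      have h8 : 0 < (D.p + 1) * (2 * D.c) := Nat.mul_pos (by omega) (by omega)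
      have h7 : (D.p + 1) * p₀ + 1 < 3 * D.p + 1 := by linarith
      have h9 : 8 ≤ D.q * D.c := le_trans (by norm_num) (Nat.mul_le_mul hq4 hc2)
      have hp3 : D.p ≤ 3 := by
        by_contra h
        have : (D.p + 1) * 3 ≤ (D.p + 1) * p₀ := Nat.mul_le_mul_left _ (by omega)
        omega
      omega
  · exfalso
    rw [he1] at hsum hroot
    rw [hf1] at hsum
    rw [hh] at hroot hsum
    simp only [Nat.mul_one, Nat.mul_zero, one_mul, Nat.add_zero, Nat.zero_add] at hroot hsum
    by_cases hw3 : D.w = 2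
    · rw [hw3] at hroot hsum
      obtain ⟨r, hr⟩ := hc
      omega
    · have h1 : (D.p + 1) * 2 ≤ (D.p + 1) * (D.w - 1) := Nat.mul_le_mul_left _ (by omega)
      rw [hroot] at h1
      have h2 : 2 * D.c ≤ D.q * D.c := Nat.mul_le_mul_right _ hq2
      omega

/-- the even index case, nontrivial kernel part and no triangles -/
theorem no_triangle_case (hc : Even D.c) (hd : 1 < D.d) (hf : D.f = 0) : False := by
  have hd3 := D.one_lt_d_of_ne (by omega)
  have hc2 : 2 ≤ D.c := by obtain ⟨r, hr⟩ := hc; have := D.c_pos; omega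
  obtain ⟨E, hE⟩ : ∃ E, E = D.c * D.e := ⟨_, rfl⟩
  have hE2 : 2 ≤ E := hE ▸ le_trans (by omega) (Nat.le_mul_of_pos_right _ D.e_pos)
  have hsum := D.hsum
  rw [hf, Nat.mul_zero, Nat.zero_add, mul_assoc, ← hE] at hsum
  have hroot := D.root_eq
  rw [D.hh, mul_assoc, ← hE] at hroot
  obtain ⟨p₀, hp₀⟩ : ∃ p₀, D.p = p₀ + 1 := ⟨D.p - 1, by have := D.p_pos; omega⟩
  rw [show D.w - 1 = D.d * E + p₀ by omega] at hroot
  have hprod := D.hprod
  rw [mul_assoc, ← hE, hsum] at hprod
  -- `p * p = d * Π`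
  have hdp : D.d ∣ D.p * D.p := by
    obtain ⟨j, hj⟩ := D.d_dvd
    have h1 : D.d ∣ D.p * D.p + D.d * (E + D.p * E) := ⟨j, by rw [← hj, hprod]; ring⟩
    exact (Nat.dvd_add_left (Dvd.intro _ rfl)).1 h1
  obtain ⟨P, hP⟩ := hdp
  have hE1 : E ∣ (D.p + 1) * p₀ := by
    have : E ∣ (D.p + 1) * p₀ + E * ((D.p + 1) * D.d) := ⟨D.q, by linarith⟩
    exact (Nat.dvd_add_left (Dvd.intro _ rfl)).1 this
  have hcop : Nat.Coprime D.p (E * (D.p + 1)) := by
    refine Nat.Coprime.mul_right ?_ (by simp)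
    refine Nat.coprime_of_dvd fun l hl h1 h2 => ?_
    have h3 : l ∣ (D.p + 1) * p₀ + 1 := by
      rw [show (D.p + 1) * p₀ + 1 = D.p * D.p by rw [hp₀]; ring]
      exact h1.mul_right _
    exact hl.not_dvd_one ((Nat.dvd_add_right (h2.trans hE1)).1 h3)
  have hdE : D.d ∣ E * (D.p + 1) + P := by
    obtain ⟨t, ht⟩ := D.sq_dvd (by omega)
    refine ⟨t, Nat.eq_of_mul_eq_mul_left D.d_pos ?_⟩
    rw [← mul_assoc, ← ht, hprod, Nat.mul_add, ← hP]; ring
  have hcdE : Nat.Coprime D.d (E * (D.p + 1)) :=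
    Nat.Coprime.coprime_dvd_left (Dvd.intro _ hP.symm) (Nat.Coprime.mul_left hcop hcop)
  have hdP : Nat.Coprime D.d P := by
    refine Nat.coprime_of_dvd fun l hl h1 h2 => hl.not_dvd_one ?_
    have h3 : l ∣ E * (D.p + 1) := (Nat.dvd_add_left h2).1 (h1.trans hdE)
    rw [← hcdE.gcd_eq_one]
    exact Nat.dvd_gcd h1 h3
  obtain ⟨δ, hδ⟩ := exists_eq_pow_of_mul_eq_pow (a := D.d) (b := P) (c := D.p) (k := 2)
    (by rw [Nat.isUnit_iff]; exact hdP) (by rw [pow_two, hP])
  obtain ⟨π, hπ⟩ := exists_eq_pow_of_mul_eq_pow (a := P) (b := D.d) (c := D.p) (k := 2)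
    (by rw [Nat.isUnit_iff]; exact hdP.symm) (by rw [pow_two, hP, mul_comm])
  rw [pow_two] at hδ hπ
  have hpp : D.p = δ * π := by
    refine Nat.mul_self_inj.1 ?_
    rw [hP, hδ, hπ]; ring
  have hδ3 : 3 ≤ δ := by
    obtain ⟨r, hr⟩ := (Nat.odd_mul.1 (hδ ▸ D.d_odd)).1
    rcases Nat.eq_zero_or_pos r with h | h
    · rw [hr, h] at hδ
      omega
    · omega
  have hπ0 : 0 < π := by
    rcases Nat.eq_zero_or_pos π with h | h
    · rw [h, Nat.mul_zero] at hpp; have := D.p_pos; omega
    · exact h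
  have hπcop : Nat.Coprime π (δ * E) := by
    refine Nat.Coprime.mul_right ?_ ?_
    · exact Nat.Coprime.coprime_dvd_left (Dvd.intro _ hπ.symm)
        (Nat.Coprime.coprime_dvd_right (Dvd.intro _ hδ.symm) hdP.symm)
    · exact Nat.Coprime.coprime_dvd_left ⟨δ, by rw [hpp, mul_comm]⟩
        (Nat.Coprime.coprime_dvd_right (Dvd.intro _ rfl) hcop)
  obtain ⟨N, φ, hφ, hN, hle⟩ := D.small hd hc hf
  -- the divisor of `φ`
  have hN' : N * (δ * E + 2 * π) = (δ * E + π) * φ := by
    refine Nat.eq_of_mul_eq_mul_left (show 0 < δ by omega) ?_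
    rw [hsum, hpp, hδ] at hN
    linarith
  have hdivφ : δ * E + 2 * π ∣ φ := by
    refine Nat.Coprime.dvd_of_dvd_mul_left ?_ ⟨N, by rw [← hN']; ring⟩
    refine Nat.coprime_of_dvd fun l hl h1 h2 => hl.not_dvd_one ?_
    have h3 : l ∣ π := by
      have : δ * E + 2 * π = δ * E + π + π := by ring
      rw [this] at h1
      exact (Nat.dvd_add_right h2).1 h1
    have h4 : l ∣ δ * E := (Nat.dvd_add_left h3).1 h2
    rw [← hπcop.gcd_eq_one]
    exact Nat.dvd_gcd h3 h4
  have hφ' := Nat.le_of_dvd hφ hdivφ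
  -- `(φ - 1) d < q`
  obtain ⟨φ₀, hφ₀⟩ : ∃ φ₀, φ = φ₀ + 1 := ⟨φ - 1, by omega⟩
  obtain ⟨k₀, hk₀⟩ : ∃ k₀, D.k = k₀ + 1 := ⟨D.k - 1, by have := D.k_odd.pos; omega⟩
  have hlt : φ₀ * D.d < D.q := by
    by_contra h
    have h1 : D.q * k₀ ≤ φ₀ * D.d * k₀ := Nat.mul_le_mul_right _ (by omega)
    have h2 : φ₀ * k₀ + (D.q + 2) ≤ D.l + 2 := by
      rw [D.hn, hφ₀, hk₀, Nat.add_sub_cancel] at hle
      linarith
    have h3 : D.d * (φ₀ * k₀ + D.q) ≤ D.d * D.l := Nat.mul_le_mul_left _ (by omega)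
    rw [← D.hql, hk₀] at h3
    have h4 : D.q * 2 ≤ D.q * D.d := Nat.mul_le_mul_left _ (by omega)
    have := D.q_pos
    linarith
  have hEπ : E ≤ π := by
    by_contra h
    have h1 : φ₀ * D.d * E + E ≤ D.q * E := by
      have : (φ₀ * D.d + 1) * E ≤ D.q * E := Nat.mul_le_mul_right _ hlt
      linarith
    have h2 : (δ * E + 2 * π) * D.d * E ≤ (φ₀ + 1) * D.d * E :=
      Nat.mul_le_mul_right _ (Nat.mul_le_mul_right _ (by omega))
    have h3 : (D.p + 1) * p₀ + 1 = D.p * D.p := by rw [hp₀]; ring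
    have h4 : D.d * E * (δ * E + 2 * π) < D.d * E + D.d * E * (δ * π + 1) + D.d * (π * π) := by
      rw [hP, hπ] at h3
      rw [← hpp]
      linarith
    have h5 : E * (δ * E + 2 * π) < E + E * (δ * π + 1) + π * π :=
      Nat.lt_of_mul_lt_mul_left (a := D.d) (by linarith)
    obtain ⟨t, ht⟩ : ∃ t, E = π + 1 + t := ⟨E - π - 1, by omega⟩
    rw [ht] at h5
    have h6 : 3 * (π + 1 + t) ≤ δ * (π + 1 + t) := Nat.mul_le_mul_right _ hδ3
    have h7 : 0 ≤ δ * (t * (π + 1 + t)) := Nat.zero_le _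
    have h8 : 0 ≤ 2 * π * t + π * π := Nat.zero_le _
    linarith
  -- the counting equation
  have heq : D.w' * (D.q + 2) + D.d = D.d * E + D.k := by
    have hN1 := D.N₁_even hc
    rw [hf, D.Q_zero hd, Nat.mul_zero, Nat.mul_zero, Nat.zero_add] at hN1
    have h1 := D.split
    rw [D.F_even hc, D.hn] at h1
    rw [D.F_even hc] at hN1
    rw [hN1] at h1
    have h2 := D.hM
    rw [D.F_even hc] at h2
    refine Nat.eq_of_mul_eq_mul_left (Nat.mul_pos D.q_pos (show 0 < D.k by omega)) ?_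
    have h3 : D.k = 1 + D.q * E := by rw [D.hk, D.hh, hf, hE]; ring
    have hql := D.hql
    have e1 : D.q * D.k * (D.w' * (D.q + 2)) = D.d * (D.M * D.k) := by rw [hql, h2]; ring
    have e2 : D.M + D.q = D.q * E + D.l := by omega
    calc D.q * D.k * (D.w' * (D.q + 2) + D.d) = D.d * D.k * (D.M + D.q) := by
          rw [Nat.mul_add, e1]; ring
      _ = D.k * (D.d * (D.q * E) + D.d * D.l) := by rw [e2]; ring
      _ = D.q * D.k * (D.d * E + D.k) := by rw [← hql]; ring
  have hk3 : D.k = 1 + D.q * E := by rw [D.hk, D.hh, hf, hE]; ring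
  rw [hk3] at heq
  have hd9 : 9 ≤ D.d := by
    rw [hδ]; exact Nat.mul_le_mul hδ3 hδ3
  rcases Nat.lt_or_ge E D.w' with h | h
  · have h1 : D.q * (E + 1) ≤ D.q * D.w' := Nat.mul_le_mul_left _ h
    have h2 : (D.p + 1) * D.d ≤ D.q := by
      refine Nat.le_of_mul_le_mul_right ?_ (show 0 < E by omega)
      have := Nat.zero_le ((D.p + 1) * p₀)
      linarith
    have h3 : π ≤ δ * π := Nat.le_mul_of_pos_left _ (by omega)
    have h4 : (E + 1) * D.d ≤ (D.p + 1) * D.d := Nat.mul_le_mul_right _ (by omega)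
    linarith
  · have h1 : D.w' * (D.q + 2) ≤ E * (D.q + 2) := Nat.mul_le_mul_right _ h
    have h2 : (E - 1) * 7 ≤ (E - 1) * (D.d - 2) := Nat.mul_le_mul_left _ (by omega)
    obtain ⟨E₀, hE₀⟩ : ∃ E₀, E = E₀ + 1 := ⟨E - 1, by omega⟩
    obtain ⟨d₀, hd₀⟩ : ∃ d₀, D.d = d₀ + 2 := ⟨D.d - 2, by omega⟩
    rw [show E - 1 = E₀ by omega, show D.d - 2 = d₀ by omega] at h2
    rw [hE₀] at h1 heq
    rw [hd₀] at heq
    linarith

/-- the even index case with nontrivial kernel part -/
theorem even_case_gt (hc : Even D.c) (hd : 1 < D.d) : D.n = 16 ∧ D.k * D.h = 36 := by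
  have hq2 := D.q_two_le
  have hd3 := D.one_lt_d_of_ne (by omega)
  have hc0 := D.c_pos
  have hN1 := D.N₁_even hc
  rw [D.Q_zero hd, Nat.mul_zero, Nat.add_zero, D.F_even hc, D.hh] at hN1
  have hu := D.u_le_c hd hc
  have hcd := Nat.le_of_dvd (by omega) D.c_dvd
  have hbound : D.q * D.f ≤ D.q + 2 := by
    refine Nat.le_of_mul_le_mul_left ?_ hc0
    have := Nat.mul_le_mul_right (D.q + 2) hu
    linarith
  have hf0 : D.f ≠ 0 := fun h => D.no_triangle_case hc hd h
  have hlt := D.p_lt_q hd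
  have hroot := D.root_eq
  rw [D.hh] at hroot
  have hsum := D.hsum
  rw [D.hh] at hsum
  have hk := D.hk
  rw [D.hh] at hk
  have hw2 := D.two_le_w
  have hp := D.p_pos
  by_cases hq : D.q = 2
  · rw [hq] at hroot hsum hk hN1 hlt hbound
    have hp1 : D.p = 1 := by omega
    rw [hp1] at hroot hsum
    have hw : D.w = D.c * D.e + 1 := by
      have : D.w - 1 = D.c * D.e := by linarith
      omega
    have hde : 2 * D.f + D.e = D.d * D.e := by
      refine Nat.eq_of_mul_eq_mul_left hc0 ?_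
      rw [hw] at hsum
      linarith
    have hed : 3 * D.e ≤ D.d * D.e := Nat.mul_le_mul_right _ hd3
    obtain ⟨rd, hrd⟩ := D.d_odd
    obtain ⟨rc, hrc⟩ := hc
    obtain ⟨j, hj⟩ := D.d_dvd
    have hf2 : D.f = 1 ∨ D.f = 2 := by omega
    have he2 : D.e = 1 ∨ D.e = 2 := by have := D.e_pos; omega
    obtain ⟨t, ht⟩ := D.c_dvd
    rcases hf2 with hf | hf <;> rcases he2 with he | he <;>
      rw [hf, he] at hde hk <;> rw [hf] at hN1
    · have hd' : D.d = 3 := by omega
      have hc2 : D.c = 2 := by omega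
      refine ⟨?_, ?_⟩
      · have h1 := D.hql
        rw [hq, hd', hk, hc2] at h1
        rw [D.hn, hk, hc2]; omega
      · rw [hk, D.hh, hq, hc2]
    · omega
    · exfalso
      have hd' : D.d = 5 := by omega
      have hc' : D.c = 2 ∨ D.c = 4 := by omega
      rcases hc' with h | h
      · rw [hk, hd', h] at hj; omega
      · exact D.no_two_four hd hq h (by rw [h] at hN1; omega)
    · exfalso
      have hd' : D.d = 3 := by omega
      have hc2 : D.c = 2 := by omega
      rw [hk, hd', hc2] at hj; omega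
  · exfalso
    have hq4 : 4 ≤ D.q := by obtain ⟨r, hr⟩ := D.q_even; omega
    have hf1 : D.f = 1 := by
      by_contra h
      have : D.q * 2 ≤ D.q * D.f := Nat.mul_le_mul_left _ (by omega)
      omega
    rw [hf1, Nat.mul_one] at hN1 hsum
    rw [hf1] at hk
    by_cases hq6 : 6 < D.q
    · have h1 : 3 * D.c * (D.q + 2) < 4 * D.u * (D.q + 2) := by
        have : D.c * 7 ≤ D.c * D.q := Nat.mul_le_mul_left _ hq6
        linarith
      have := D.u_full hd hc (Nat.lt_of_mul_lt_mul_right h1)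
      rw [this] at hN1
      linarith
    · have hq46 : D.q = 4 ∨ D.q = 6 := by obtain ⟨r, hr⟩ := D.q_even; omega
      obtain ⟨p₀, hp₀⟩ : ∃ p₀, D.p = p₀ + 1 := ⟨D.p - 1, by omega⟩
      -- `r (d c e + p - c q - 1) = c q e`, written additively
      have hkey : (D.p + 1) * (D.d * D.c * D.e + p₀) =
          D.q * D.c * D.e + (D.p + 1) * (D.q * D.c) := by
        rw [← hroot, ← Nat.mul_add]
        congr 1
        omega
      have hcdvd : D.c ∣ (D.p + 1) * p₀ := by
        have : D.c ∣ (D.p + 1) * p₀ + D.c * ((D.p + 1) * (D.d * D.e)) :=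
          ⟨D.q * D.e + (D.p + 1) * D.q, by linarith⟩
        exact (Nat.dvd_add_left (Dvd.intro _ rfl)).1 this
      obtain ⟨jd, hjd⟩ := D.d_dvd
      obtain ⟨rd, hrd⟩ := D.d_odd
      obtain ⟨rc, hrc⟩ := hc
      obtain ⟨t, ht⟩ := D.c_dvd
      have he := D.e_pos
      have hed : D.e ≤ D.d * D.e := Nat.le_mul_of_pos_left _ (by omega)
      rcases hq46 with hq' | hq' <;> rw [hq'] at hkey hN1 hk hlt
      · -- six divides `c`
        rcases Nat.eq_or_lt_of_le hp with h1 | h1
        · rw [← h1, show p₀ = 0 by omega] at hkey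
          have h2 : D.e * D.d = 2 * D.e + 4 := by
            refine Nat.eq_of_mul_eq_mul_left hc0 ?_
            linarith
          have h3 : D.d ≤ 6 := by
            by_contra h
            have : D.e * 7 ≤ D.e * D.d := Nat.mul_le_mul_left _ (by omega)
            omega
          have h6 : 6 ≤ D.c := by omega
          omega
        · have hp23 : D.p = 2 ∨ D.p = 3 := by omega
          rcases hp23 with h | h
          · rw [h, show p₀ = 1 by omega] at hcdvd
            have := Nat.le_of_dvd (by norm_num) hcdvd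
            omega
          · rw [h, show p₀ = 2 by omega] at hcdvd
            have h8 := Nat.le_of_dvd (by norm_num) hcdvd
            interval_cases hc' : D.c <;> first | omega | norm_num at hcdvd
      · -- four divides `c`
        have hp5 : D.p = 1 ∨ D.p = 2 ∨ D.p = 3 ∨ D.p = 4 ∨ D.p = 5 := by omega
        rcases hp5 with h | h | h | h | h
        · rw [h, show p₀ = 0 by omega] at hkey
          have h2 : D.e * D.d = 3 * D.e + 6 := by
            refine Nat.eq_of_mul_eq_mul_left hc0 ?_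
            linarith
          have h3 : D.d ≤ 9 := by
            by_contra h
            have : D.e * 10 ≤ D.e * D.d := Nat.mul_le_mul_left _ (by omega)
            omega
          have h4 : D.d = 3 ∨ D.d = 5 ∨ D.d = 7 ∨ D.d = 9 := by omega
          rcases h4 with h5 | h5 | h5 | h5 <;> rw [h5] at h2 hjd ht
          · omega
          · have : D.e = 3 := by omega
            have hc4 : D.c = 4 := by omega
            rw [hk, hc4, this] at hjd; omega
          · omega
          · have : D.e = 1 := by omega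
            have hc4 : D.c = 4 ∨ D.c = 8 := by omega
            rcases hc4 with hc4 | hc4 <;> rw [hk, hc4, this] at hjd <;> omega
        · rw [h, show p₀ = 1 by omega] at hcdvd
          have := Nat.le_of_dvd (by norm_num) hcdvd
          omega
        · rw [h, show p₀ = 2 by omega] at hcdvd hkey
          have := Nat.le_of_dvd (by norm_num) hcdvd
          have hc48 : D.c = 4 ∨ D.c = 8 := by omega
          rcases hc48 with hc4 | hc4 <;> rw [hc4] at hkey ht
          · have h2 : 2 * (D.d * D.e) = 3 * D.e + 11 := by linarith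
            have h3 : D.d ≤ 7 := by
              by_contra h
              have : 8 * D.e ≤ D.d * D.e := Nat.mul_le_mul_right _ (by omega)
              omega
            have h4 : D.d = 5 := by omega
            rw [h4] at h2
            omega
          · have h2 : 8 * (D.d * D.e) + 2 = 12 * D.e + 48 := by linarith
            omega
        · rw [h, show p₀ = 3 by omega] at hcdvd
          have := Nat.le_of_dvd (by norm_num) hcdvd
          interval_cases hc' : D.c <;> first | omega | norm_num at hcdvd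
        · rw [h, show p₀ = 4 by omega] at hcdvd hkey
          have h4 : D.c ∣ 4 := by
            have h5 : D.c * (6 * (D.d * D.e)) + 24 = D.c * (6 * D.e + 36) := by linarith
            have h6 : D.c ∣ D.c * (D.d * D.e) + 4 := ⟨D.e + 6, by linarith⟩
            exact (Nat.dvd_add_right (Dvd.intro _ rfl)).1 h6
          have := Nat.le_of_dvd (by norm_num) h4
          have hc4 : D.c = 4 := by omega
          rw [hc4] at hkey ht
          have h2 : D.d * D.e = D.e + 5 := by linarith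
          have h3 : D.d ≤ 6 := by
            by_contra h
            have : 7 * D.e ≤ D.d * D.e := Nat.mul_le_mul_right _ (by omega)
            omega
          have h7 : D.d = 5 := by omega
          rw [h7] at h2
          omega

/-- Only three parameter sets survive. -/
theorem conclusion : (D.n = 10 ∧ D.k * D.h = 6) ∨ (D.n = 16 ∧ (D.k * D.h = 20 ∨ D.k * D.h = 36)) := by
  rcases Nat.even_or_odd D.c with hc | hc
  · by_cases hd : D.d = 1
    · obtain ⟨h1, h2⟩ := D.even_case_one hc hd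
      exact Or.inr ⟨h1, Or.inl h2⟩
    · obtain ⟨h1, h2⟩ := D.even_case_gt hc (by have := D.d_pos; omega)
      exact Or.inr ⟨h1, Or.inr h2⟩
  · exact Or.inl (D.odd_case hc)

end Data

end Cfsg.Agent.Tsuzuku.Arith
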