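import Mathlib
import Cfsg.Agent.Lib.Tsuzuku.Counting

/-!
A large conjugation-invariant set of involutions inside one coset of a group with one involution
fills the coset.
-/

set_option autoImplicit false

namespace Cfsg.Agent.Tsuzuku

/-- An automorphism inverting more than three quarters of the elements inverts all of them. -/
theorem inverted_all {L : Type*} [Group L] [Finite L] (φ : L ≃* L)
    (h : 3 * Nat.card L < 4 * Nat.card {x : L // φ x = x⁻¹}) :
    (∀ a b : L, a * b = b * a) ∧ ∀ x, φ x = x⁻¹ := by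
  classical
  have := Fintype.ofFinite L
  let s : Finset L := Finset.univ.filter fun x => φ x = x⁻¹
  have hs : 3 * Fintype.card L < 4 * s.card := by
    simpa [s, Nat.card_eq_fintype_card, Fintype.card_subtype] using h
  have hcent : ∀ a ∈ s, a ∈ Subgroup.center L := by
    intro a ha
    let C : Subgroup L := Subgroup.centralizer {a}
    let s' := s.map ⟨(a * ·), mul_right_injective a⟩
    have hsub : ∀ b ∈ s, a * b ∈ s → b ∈ C := by
      intro b hb hab
      simp only [s, Finset.mem_filter, Finset.mem_univ, true_and] at ha hb hab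
      rw [map_mul, ha, hb, mul_inv_rev] at hab
      rw [Subgroup.mem_centralizer_singleton_iff]
      have := congrArg (·⁻¹) hab
      simp only [mul_inv_rev, inv_inv] at this
      exact this
    have h1 : (s ∪ s').card + (s ∩ s').card = s.card + s'.card := Finset.card_union_add_card_inter _ _
    have h2 : (s ∪ s').card ≤ Fintype.card L := Finset.card_le_univ _
    have h3 : s'.card = s.card := Finset.card_map _
    have h4 : (s ∩ s').card ≤ Nat.card C := by
      rw [Nat.card_eq_fintype_card, ← Finset.card_univ]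
      refine Finset.card_le_card_of_surjOn (fun c : C => a * (c : L)) fun x hx => ?_
      rw [Finset.mem_coe, Finset.mem_inter] at hx
      obtain ⟨b, hb, rfl⟩ := Finset.mem_map.1 hx.2
      exact ⟨⟨b, hsub b hb hx.1⟩, by simp, rfl⟩
    have h5 : C = ⊤ := by
      rcases Nat.lt_or_ge C.index 2 with h6 | h6
      · exact Subgroup.index_eq_one.1 (by have := C.index_ne_zero_of_finite; omega)
      · have h7 := Nat.mul_le_mul_left (Nat.card C) h6
        rw [Subgroup.card_mul_index, Nat.card_eq_fintype_card (α := L)] at h7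
        omega
    rw [Subgroup.mem_center_iff]
    intro g
    exact Subgroup.mem_centralizer_singleton_iff.1 (show g ∈ C by rw [h5]; exact Subgroup.mem_top g)
  have htop : Subgroup.center L = ⊤ := by
    rcases Nat.lt_or_ge (Subgroup.center L).index 2 with h6 | h6
    · exact Subgroup.index_eq_one.1
        (by have := (Subgroup.center L).index_ne_zero_of_finite; omega)
    · have h7 := Nat.mul_le_mul_left (Nat.card (Subgroup.center L)) h6
      rw [Subgroup.card_mul_index, Nat.card_eq_fintype_card (α := L)] at h7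
      have h8 : s.card ≤ Nat.card (Subgroup.center L) := by
        rw [← Nat.card_eq_finsetCard]
        exact Nat.card_le_card_of_injective (fun x => ⟨x.1, hcent x.1 x.2⟩)
          fun x y e => Subtype.ext (congrArg Subtype.val e :)
      omega
  have hcomm : ∀ a b : L, a * b = b * a := fun a b =>
    Subgroup.mem_center_iff.1 (htop ▸ Subgroup.mem_top b) a
  refine ⟨hcomm, fun x => ?_⟩
  let W : Subgroup L :=
    { carrier := {x | φ x = x⁻¹}
      one_mem' := by simp
      mul_mem' := fun {a b} ha hb => by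
        show φ (a * b) = (a * b)⁻¹
        rw [map_mul, ha, hb, mul_inv_rev, hcomm]
      inv_mem' := fun {a} ha => by
        show φ a⁻¹ = a⁻¹⁻¹
        rw [map_inv, ha] }
  have hW : W = ⊤ := by
    rcases Nat.lt_or_ge W.index 2 with h6 | h6
    · exact Subgroup.index_eq_one.1 (by have := W.index_ne_zero_of_finite; omega)
    · have h7 := Nat.mul_le_mul_left (Nat.card W) h6
      rw [Subgroup.card_mul_index] at h7
      have h8 : Nat.card W = Nat.card {x : L // φ x = x⁻¹} := rfl
      omega
  exact (hW ▸ Subgroup.mem_top x : x ∈ W)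

/-- An automorphism of an abelian group inverting more than half inverts all. -/
theorem inverted_all_comm {L : Type*} [Group L] [Finite L] (hc : ∀ a b : L, a * b = b * a)
    (φ : L ≃* L) (h : Nat.card L < 2 * Nat.card {x : L // φ x = x⁻¹}) : ∀ x, φ x = x⁻¹ := by
  intro x
  let W : Subgroup L :=
    { carrier := {x | φ x = x⁻¹}
      one_mem' := by simp
      mul_mem' := fun {a b} ha hb => by
        show φ (a * b) = (a * b)⁻¹
        rw [map_mul, ha, hb, mul_inv_rev, hc]
      inv_mem' := fun {a} ha => by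
        show φ a⁻¹ = a⁻¹⁻¹
        rw [map_inv, ha] }
  have hW : W = ⊤ := by
    rcases Nat.lt_or_ge W.index 2 with h6 | h6
    · exact Subgroup.index_eq_one.1 (by have := W.index_ne_zero_of_finite; omega)
    · have h7 := Nat.mul_le_mul_left (Nat.card W) h6
      rw [Subgroup.card_mul_index] at h7
      have h8 : Nat.card W = Nat.card {x : L // φ x = x⁻¹} := rfl
      omega
  exact (hW ▸ Subgroup.mem_top x : x ∈ W)

variable {G : Type*} [Group G] [Finite G]

/-- A large class of involutions in a coset of `L` fills the coset, and inverts `L`. -/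
theorem coset_full (L : Subgroup G) (t : G → Prop) (hsq : ∀ σ, t σ → σ * σ = 1)
    (hcoset : ∀ σ σ', t σ → t σ' → σ * σ' ∈ L) (hnorm : ∀ σ, t σ → ∀ x ∈ L, σ * x * σ ∈ L)
    (hconj : ∀ σ, t σ → ∀ y ∈ L, t (y * σ * y⁻¹))
    (huniq : Nat.card {x : L // x * x = 1} = 2)
    (hbig : 3 * Nat.card L < 4 * Nat.card {σ : G // t σ} ∨
      ((∀ a b : L, a * b = b * a) ∧ Nat.card L < 2 * Nat.card {σ : G // t σ})) :
    Nat.card {σ : G // t σ} = Nat.card L ∧ (∀ a b : L, a * b = b * a) ∧
      ∀ σ, t σ → ∀ x ∈ L, σ * x * σ = x⁻¹ := by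
  classical
  have hpos : 0 < Nat.card {σ : G // t σ} := by
    have : 0 < Nat.card L := Nat.card_pos
    rcases hbig with h | ⟨-, h⟩ <;> omega
  obtain ⟨⟨⟨τ, hτ⟩⟩, -⟩ := Nat.card_pos_iff.1 hpos
  let φ : ∀ σ, t σ → L ≃* L := fun σ hσ =>
    { toFun := fun x => ⟨σ * x.1 * σ, hnorm σ hσ x x.2⟩
      invFun := fun x => ⟨σ * x.1 * σ, hnorm σ hσ x x.2⟩
      left_inv := fun x => Subtype.ext (by
        show σ * (σ * x.1 * σ) * σ = x.1
        rw [← mul_assoc, ← mul_assoc, hsq σ hσ, one_mul, mul_assoc, hsq σ hσ, mul_one])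
      right_inv := fun x => Subtype.ext (by
        show σ * (σ * x.1 * σ) * σ = x.1
        rw [← mul_assoc, ← mul_assoc, hsq σ hσ, one_mul, mul_assoc, hsq σ hσ, mul_one])
      map_mul' := fun x y => Subtype.ext (by
        show σ * (x.1 * y.1) * σ = σ * x.1 * σ * (σ * y.1 * σ)
        calc σ * (x.1 * y.1) * σ = σ * x.1 * (σ * σ) * y.1 * σ := by rw [hsq σ hσ]; group
          _ = _ := by group) }
  -- the coset sits inside the inverted elements
  have hle : ∀ σ (hσ : t σ),
      Nat.card {σ' : G // t σ'} ≤ Nat.card {x : L // φ σ hσ x = x⁻¹} := fun σ hσ => by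
    refine Nat.card_le_card_of_injective (fun σ' =>
      ⟨⟨σ * σ'.1, hcoset σ σ'.1 hσ σ'.2⟩, Subtype.ext ?_⟩)
      fun x y e => Subtype.ext (mul_left_cancel (congrArg (fun q => q.1.1) e))
    show σ * (σ * σ'.1) * σ = (σ * σ'.1)⁻¹
    rw [← mul_assoc σ σ σ'.1, hsq σ hσ, one_mul, mul_inv_rev,
      inv_eq_of_mul_eq_one_right (hsq σ hσ), inv_eq_of_mul_eq_one_right (hsq σ'.1 σ'.2)]
  have hinv : (∀ a b : L, a * b = b * a) ∧ ∀ σ (hσ : t σ), ∀ x, φ σ hσ x = x⁻¹ := by
    rcases hbig with h | ⟨hc, h⟩
    · have key : ∀ σ hσ, _ := fun σ hσ => inverted_all (φ σ hσ)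
        (lt_of_lt_of_le h (Nat.mul_le_mul_left 4 (hle σ hσ)))
      exact ⟨(key τ hτ).1, fun σ hσ => (key σ hσ).2⟩
    · exact ⟨hc, fun σ hσ => inverted_all_comm hc _
        (lt_of_lt_of_le h (Nat.mul_le_mul_left 2 (hle σ hσ)))⟩
  obtain ⟨hc, hi⟩ := hinv
  refine ⟨?_, hc, fun σ hσ x hx => congrArg Subtype.val (hi σ hσ ⟨x, hx⟩)⟩
  let sq : L →* L :=
    { toFun := fun x => x * x
      map_one' := one_mul 1
      map_mul' := fun x y => by
        calc x * y * (x * y) = x * (y * x) * y := by group
          _ = x * (x * y) * y := by rw [hc y x]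
          _ = x * x * (y * y) := by group }
  have hker : Nat.card sq.ker = 2 := by
    rw [← huniq]
    exact Nat.card_congr
      { toFun := fun x => ⟨x.1, x.2⟩
        invFun := fun x => ⟨x.1, x.2⟩
        left_inv := fun _ => rfl
        right_inv := fun _ => rfl }
  have hcard : Nat.card L = 2 * Nat.card sq.range := by
    rw [← hker, ← Subgroup.index_ker, Subgroup.card_mul_index]
  let T : L → Prop := fun x => t (τ * x)
  have hT : Nat.card {σ : G // t σ} = Nat.card {x : L // T x} :=
    Nat.card_congr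
      { toFun := fun σ => ⟨⟨τ * σ.1, hcoset τ σ.1 hτ σ.2⟩, by
          show t (τ * (τ * σ.1))
          rw [← mul_assoc, hsq τ hτ, one_mul]; exact σ.2⟩
        invFun := fun x => ⟨τ * x.1.1, x.2⟩
        left_inv := fun σ => Subtype.ext (by
          show τ * (τ * σ.1) = σ.1
          rw [← mul_assoc, hsq τ hτ, one_mul])
        right_inv := fun x => Subtype.ext (Subtype.ext (by
          show τ * (τ * x.1.1) = x.1.1
          rw [← mul_assoc, hsq τ hτ, one_mul])) }
  have hstep : ∀ u ∈ sq.range, ∀ x : L, T x → T (u * x) := by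
    rintro _ ⟨y, rfl⟩ x hx
    have h1 := hconj _ hx (y⁻¹ : L).1 (y⁻¹ : L).2
    have h2 : (τ * (y : G) * τ) = (y : G)⁻¹ := congrArg Subtype.val (hi τ hτ y)
    have h3 : (y : G)⁻¹ * τ = τ * y := by
      rw [← h2, mul_assoc, hsq τ hτ, mul_one]
    have e : τ * ((sq y * x : L) : G) = (y⁻¹ : L).1 * (τ * x.1) * ((y⁻¹ : L).1)⁻¹ := by
      have h4 : (y : G) * x.1 * y = y * y * x.1 := by
        rw [mul_assoc, show x.1 * (y : G) = y * x.1 from congrArg Subtype.val (hc x y), ← mul_assoc]
      show τ * ((y : G) * y * x.1) = (y : G)⁻¹ * (τ * x.1) * ((y : G)⁻¹)⁻¹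
      rw [inv_inv, ← h4, ← mul_assoc _ τ x.1, h3]
      group
    show t _
    rw [e]
    exact h1
  have hdvd : Nat.card sq.range ∣ Nat.card {σ : G // t σ} := by
    rw [hT]
    let a : MulAction sq.range {x : L // T x} :=
      { smul := fun u x => ⟨(u : L) * x.1, hstep u u.2 x.1 x.2⟩
        one_smul := fun x => Subtype.ext (one_mul x.1)
        mul_smul := fun u v x => Subtype.ext (mul_assoc (u : L) (v : L) x.1) }
    exact card_dvd_of_free fun u x e =>
      Subtype.ext (mul_eq_right.1 (congrArg Subtype.val e :))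
  obtain ⟨r, hr⟩ := hdvd
  have hle' : Nat.card {σ : G // t σ} ≤ Nat.card L :=
    (hle τ hτ).trans (Nat.card_le_card_of_injective Subtype.val Subtype.val_injective)
  have hp : 0 < Nat.card sq.range := Nat.card_pos
  have hr2 : 2 ≤ r := by
    by_contra hlt
    have h9 : Nat.card sq.range * r ≤ Nat.card sq.range * 1 := Nat.mul_le_mul_left _ (by omega)
    rcases hbig with h | ⟨-, h⟩ <;> omega
  have h10 : Nat.card sq.range * 2 ≤ Nat.card sq.range * r := Nat.mul_le_mul_left _ hr2
  omega

end Cfsg.Agent.Tsuzuku
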