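import Mathlib
import Cfsg.Agent.S0035
import Cfsg.Agent.S0042
import Cfsg.Agent.Lib.Tsuzuku.Counting

/-!
Setting for Tsuzuku's theorem: a group of even order with two orbitals, the point stabiliser acting
on one suborbit as a Frobenius group. The kernel of that Frobenius group and the basic divisibility
facts.
-/

set_option autoImplicit false
set_option linter.unusedSectionVars false
set_option linter.style.haveILetI false

open Cfsg MulAction

namespace Cfsg.Agent.Tsuzuku

/-- The data of a rank three group of even order with a Frobenius suborbit, read as a graph. -/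
structure Setup (G X : Type*) [Group G] [MulAction G X] where
  /-- the orbital of the Frobenius suborbit -/
  adj : X → X → Prop
  symm : ∀ {x y}, adj x y → adj y x
  irrefl : ∀ x, ¬ adj x x
  smul_adj : ∀ (g : G) {x y}, adj x y → adj (g • x) (g • y)
  edge_trans : ∀ {x y x' y'}, adj x y → adj x' y' → ∃ g : G, g • x = x' ∧ g • y = y'
  far_trans : ∀ {x y x' y'}, x ≠ y → ¬ adj x y → x' ≠ y' → ¬ adj x' y' →
    ∃ g : G, g • x = x' ∧ g • y = y'
  trans : ∀ x y : X, ∃ g : G, g • x = y
  frob : ∀ (g : G) {P Q R}, adj P Q → adj P R → Q ≠ R → g • P = P → g • Q = Q → g • R = R → g = 1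
  edge_fix : ∀ {P Q}, adj P Q → ∃ g : G, g ≠ 1 ∧ g • P = P ∧ g • Q = Q
  two_step : ∀ P, ∃ Q R, adj P Q ∧ adj Q R ∧ P ≠ R ∧ ¬ adj P R
  far_edge : ∀ P, ∃ R R', P ≠ R ∧ ¬ adj P R ∧ adj R R' ∧ P ≠ R' ∧ ¬ adj P R'
  even : Even (Nat.card G)
  /-- base point -/
  a : X
  /-- a neighbour of the base point -/
  b : X
  /-- a point far from the base point -/
  c : X
  hab : adj a b
  hac : a ≠ c
  nac : ¬ adj a c

variable {G X : Type*} [Group G] [MulAction G X]

/-- the pointwise stabiliser of two points -/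
def pairStab (G : Type*) [Group G] {X : Type*} [MulAction G X] (P Q : X) : Subgroup G :=
  stabilizer G P ⊓ stabilizer G Q

theorem mem_pairStab {P Q : X} {g : G} : g ∈ pairStab G P Q ↔ g • P = P ∧ g • Q = Q := Iff.rfl

theorem pairStab_comm (P Q : X) : pairStab G P Q = pairStab G Q P := inf_comm _ _

theorem card_pairStab_smul (g : G) (P Q : X) :
    Nat.card (pairStab G (g • P) (g • Q)) = Nat.card (pairStab G P Q) := by
  refine Nat.card_congr
    { toFun := fun x => ⟨g⁻¹ * x.1 * g, ?_⟩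
      invFun := fun x => ⟨g * x.1 * g⁻¹, ?_⟩
      left_inv := fun x => Subtype.ext (by group)
      right_inv := fun x => Subtype.ext (by group) }
  · obtain ⟨h1, h2⟩ := mem_pairStab.1 x.2
    exact mem_pairStab.2 ⟨by rw [mul_smul, mul_smul, h1, inv_smul_smul],
      by rw [mul_smul, mul_smul, h2, inv_smul_smul]⟩
  · obtain ⟨h1, h2⟩ := mem_pairStab.1 x.2
    exact mem_pairStab.2 ⟨by rw [mul_smul, mul_smul, inv_smul_smul, h1],
      by rw [mul_smul, mul_smul, inv_smul_smul, h2]⟩

namespace Setup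

variable (S : Setup G X)

theorem smul_adj_iff (g : G) {x y : X} : S.adj (g • x) (g • y) ↔ S.adj x y :=
  ⟨fun h => by simpa using S.smul_adj g⁻¹ h, S.smul_adj g⟩

theorem ne_of_adj {x y : X} (h : S.adj x y) : x ≠ y := fun e => S.irrefl y (e ▸ h)

theorem not_adj_symm {x y : X} (h : ¬ S.adj x y) : ¬ S.adj y x := fun h' => h (S.symm h')

theorem adj_smul_of_fix {g : G} {P Q : X} (hP : g • P = P) (h : S.adj P Q) : S.adj P (g • Q) := by
  simpa [hP] using S.smul_adj g h

theorem exists_other_nbr {P Q : X} (_h : S.adj P Q) : ∃ R, S.adj P R ∧ R ≠ Q := by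
  obtain ⟨Q₀, R₀, h1, h2, h3, -⟩ := S.two_step S.a
  obtain ⟨g, hg⟩ := S.trans Q₀ P
  by_cases hQ : g • R₀ = Q
  · refine ⟨g • S.a, hg ▸ S.smul_adj g (S.symm h1), fun e => h3 ?_⟩
    exact (MulAction.injective g (e.trans hQ.symm))
  · exact ⟨g • R₀, hg ▸ S.smul_adj g h2, hQ⟩

/-- A non-identity element fixing a point fixes at most one of its neighbours. -/
theorem fixed_nbr_unique {g : G} (hg : g ≠ 1) {P Q R : X} (hP : g • P = P) (hQ : S.adj P Q)
    (hR : S.adj P R) (hgQ : g • Q = Q) (hgR : g • R = R) : Q = R :=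
  by_contra fun hne => hg (S.frob g hQ hR hne hP hgQ hgR)

/-- the valency -/
noncomputable def k (S : Setup G X) : ℕ := Nat.card {y // S.adj S.a y}

/-- the number of points far from a point -/
noncomputable def l (S : Setup G X) : ℕ := Nat.card {y // S.a ≠ y ∧ ¬ S.adj S.a y}

/-- the order of the stabiliser of an edge -/
noncomputable def h (S : Setup G X) : ℕ := Nat.card (pairStab G S.a S.b)

/-- the order of the stabiliser of two far points -/
noncomputable def m (S : Setup G X) : ℕ := Nat.card (pairStab G S.a S.c)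

/-- the number of common neighbours of two adjacent points -/
noncomputable def lam (S : Setup G X) : ℕ := Nat.card {z // S.adj S.a z ∧ S.adj S.b z}

/-- the number of common neighbours of two far points -/
noncomputable def mu (S : Setup G X) : ℕ := Nat.card {z // S.adj S.a z ∧ S.adj S.c z}

theorem card_nbr (P : X) : Nat.card {y // S.adj P y} = S.k := by
  obtain ⟨g, hg⟩ := S.trans S.a P
  exact (Nat.card_congr ((MulAction.toPerm g).subtypeEquiv fun y => by
    rw [MulAction.toPerm_apply, ← hg, S.smul_adj_iff])).symm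

theorem card_far (P : X) : Nat.card {y // P ≠ y ∧ ¬ S.adj P y} = S.l := by
  obtain ⟨g, hg⟩ := S.trans S.a P
  exact (Nat.card_congr ((MulAction.toPerm g).subtypeEquiv fun y => by
    rw [MulAction.toPerm_apply, ← hg, S.smul_adj_iff, (MulAction.injective g).ne_iff])).symm

theorem card_edge_stab {P Q : X} (hPQ : S.adj P Q) : Nat.card (pairStab G P Q) = S.h := by
  obtain ⟨g, rfl, rfl⟩ := S.edge_trans S.hab hPQ
  exact card_pairStab_smul g _ _

theorem card_far_stab {P R : X} (hne : P ≠ R) (hn : ¬ S.adj P R) :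
    Nat.card (pairStab G P R) = S.m := by
  obtain ⟨g, rfl, rfl⟩ := S.far_trans S.hac S.nac hne hn
  exact card_pairStab_smul g _ _

theorem card_common_adj {P Q : X} (hPQ : S.adj P Q) :
    Nat.card {z // S.adj P z ∧ S.adj Q z} = S.lam := by
  obtain ⟨g, rfl, rfl⟩ := S.edge_trans S.hab hPQ
  exact (Nat.card_congr ((MulAction.toPerm g).subtypeEquiv fun y => by
    rw [MulAction.toPerm_apply, S.smul_adj_iff, S.smul_adj_iff])).symm

theorem card_common_far {P R : X} (hne : P ≠ R) (hn : ¬ S.adj P R) :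
    Nat.card {z // S.adj P z ∧ S.adj R z} = S.mu := by
  obtain ⟨g, rfl, rfl⟩ := S.far_trans S.hac S.nac hne hn
  exact (Nat.card_congr ((MulAction.toPerm g).subtypeEquiv fun y => by
    rw [MulAction.toPerm_apply, S.smul_adj_iff, S.smul_adj_iff])).symm

variable [Finite G] [Fintype X]

theorem k_pos : 0 < S.k := Nat.card_pos_iff.2 ⟨⟨⟨S.b, S.hab⟩⟩, inferInstance⟩

theorem l_pos : 0 < S.l := Nat.card_pos_iff.2 ⟨⟨⟨S.c, S.hac, S.nac⟩⟩, inferInstance⟩

theorem mu_pos : 0 < S.mu := by
  obtain ⟨Q, R, h1, h2, h3, h4⟩ := S.two_step S.a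
  rw [← S.card_common_far h3 h4]
  exact Nat.card_pos_iff.2 ⟨⟨⟨Q, h1, S.symm h2⟩⟩, inferInstance⟩

theorem one_lt_h : 1 < S.h := by
  obtain ⟨g, hg, h1, h2⟩ := S.edge_fix S.hab
  haveI : Nontrivial (pairStab G S.a S.b) :=
    ⟨⟨1, one_mem _⟩, ⟨g, h1, h2⟩, fun e => hg (congrArg Subtype.val e).symm⟩
  exact Finite.one_lt_card

omit [Fintype X] in
theorem card_stab_eq {P : X} {s : X → Prop} (hs : ∀ g : G, g • P = P → ∀ y, s y → s (g • y))
    {Q : X} (hQ : s Q) (htr : ∀ y, s y → ∃ g : G, g • P = P ∧ g • Q = y) :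
    Nat.card {y // s y} * Nat.card (pairStab G P Q) = Nat.card (stabilizer G P) := by
  have e1 : orbit (stabilizer G P) Q = {y | s y} := by
    ext y
    refine ⟨?_, fun hy => ?_⟩
    · rintro ⟨g, rfl⟩
      exact hs g g.2 Q hQ
    · obtain ⟨g, h1, h2⟩ := htr y hy
      exact ⟨⟨g, h1⟩, h2⟩
  have e2 : Nat.card (stabilizer (stabilizer G P) Q) = Nat.card (pairStab G P Q) :=
    Nat.card_congr
      { toFun := fun x => ⟨x.1.1, x.1.2, x.2⟩
        invFun := fun x => ⟨⟨x.1, x.2.1⟩, x.2.2⟩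
        left_inv := fun _ => rfl
        right_inv := fun _ => rfl }
  rw [← e2, ← (stabilizer (stabilizer G P) Q).card_mul_index, index_stabilizer, e1, mul_comm]
  rfl

theorem card_stab (P : X) : Nat.card (stabilizer G P) = S.k * S.h := by
  obtain ⟨g, hg⟩ := S.trans S.a P
  have hQ : S.adj P (g • S.b) := hg ▸ S.smul_adj g S.hab
  rw [← card_stab_eq (G := G) (s := S.adj P) (fun x hx y hy => S.adj_smul_of_fix hx hy) hQ
    (fun y hy => S.edge_trans hQ hy), S.card_nbr, S.card_edge_stab hQ]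

theorem l_mul_m : S.l * S.m = S.k * S.h := by
  rw [← S.card_stab S.a]
  refine card_stab_eq (G := G) (s := fun y => S.a ≠ y ∧ ¬ S.adj S.a y) (fun x hx y hy => ⟨?_, ?_⟩)
    ⟨S.hac, S.nac⟩ (fun y hy => S.far_trans S.hac S.nac hy.1 hy.2)
  · exact fun e => hy.1 (MulAction.injective x (hx.trans e))
  · exact fun e => hy.2 ((S.smul_adj_iff x).1 (hx.symm ▸ e : S.adj (x • S.a) (x • y)))

theorem card_group : Nat.card G = Fintype.card X * (S.k * S.h) := by
  haveI : IsPretransitive G X := ⟨S.trans⟩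
  rw [← S.card_stab S.a, ← (stabilizer G S.a).card_mul_index, index_stabilizer, mul_comm,
    MulAction.orbit_eq_univ, Set.ncard_univ, Nat.card_eq_fintype_card]

theorem card_X : Fintype.card X = 1 + S.k + S.l := by
  classical
  rw [k, l, Nat.card_eq_fintype_card, Nat.card_eq_fintype_card, Fintype.card_subtype,
    Fintype.card_subtype, ← Finset.card_univ]
  have h1 : (Finset.univ.filter fun y => S.a ≠ y ∧ ¬ S.adj S.a y) =
      ((Finset.univ.filter fun y => S.adj S.a y) ∪ {S.a})ᶜ := by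
    ext y; simp [eq_comm]
  rw [h1, Finset.card_compl, Finset.card_union_of_disjoint, Finset.card_singleton, Finset.card_univ]
  · have : (Finset.univ.filter fun y => S.adj S.a y).card + 1 ≤ Fintype.card X := by
      rw [← Finset.card_singleton S.a, ← Finset.card_union_of_disjoint]
      · exact Finset.card_le_univ _
      · simp [S.irrefl]
    omega
  · simp [S.irrefl]

/-! ### the Frobenius kernel -/

theorem isFrobeniusComplement {P Q : X} (hPQ : S.adj P Q) :
    IsFrobeniusComplement ((stabilizer G Q).subgroupOf (stabilizer G P)) := by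
  obtain ⟨R, hR, hne⟩ := S.exists_other_nbr hPQ
  obtain ⟨g, hgP, hgQ⟩ := S.edge_trans hPQ hR
  obtain ⟨x, hx, hxP, hxQ⟩ := S.edge_fix hPQ
  refine ⟨fun e => ?_, fun e => ?_, fun u hu => ?_⟩
  · have hmem : (⟨x, hxP⟩ : stabilizer G P) ∈ (stabilizer G Q).subgroupOf (stabilizer G P) := hxQ
    rw [e, Subgroup.mem_bot] at hmem
    exact hx (congrArg Subtype.val hmem)
  · have hmem : (⟨g, hgP⟩ : stabilizer G P) ∈ (stabilizer G Q).subgroupOf (stabilizer G P) :=
      e ▸ Subgroup.mem_top _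
    exact hne (hgQ.symm.trans hmem)
  · refine eq_bot_iff.2 fun y hy => Subgroup.mem_bot.2 (Subtype.ext ?_)
    obtain ⟨h1, h2⟩ := Subgroup.mem_inf.1 hy
    rw [Subgroup.mem_pointwise_smul_iff_inv_smul_mem] at h2
    have h2' : ((u⁻¹ * y * u : stabilizer G P) : G) • Q = Q := by
      simpa [MulAut.smul_def, MulAut.conj_inv_apply, Subgroup.mem_subgroupOf] using h2
    have h3 : (y : G) • ((u : G) • Q) = (u : G) • Q := by
      rw [Subgroup.coe_mul, Subgroup.coe_mul, mul_smul, mul_smul, Subgroup.coe_inv,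
        inv_smul_eq_iff] at h2'
      exact h2'
    exact S.frob (y : G) hPQ (S.adj_smul_of_fix u.2 hPQ) (fun e => hu e.symm) y.2 h1 h3

/-- the Frobenius kernel at `P`, as a set -/
def kerSet (S : Setup G X) (P : X) : Set G :=
  {g | g • P = P ∧ ∀ Q, S.adj P Q → g • Q = Q → g = 1}

theorem exists_kernel (P : X) : ∃ N : Subgroup G, (N : Set G) = S.kerSet P ∧
    Nat.card N = S.k ∧ Group.IsNilpotent N := by
  obtain ⟨g, hg⟩ := S.trans S.a P
  have hQ : S.adj P (g • S.b) := hg ▸ S.smul_adj g S.hab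
  set Q := g • S.b
  set H := (stabilizer G Q).subgroupOf (stabilizer G P) with hH
  obtain ⟨N, hN, -, hnil⟩ := Cfsg.Agent.S0042.result H (S.isFrobeniusComplement hQ)
  obtain ⟨N', hN', -, hcompl⟩ := Cfsg.Agent.S0035.result H (S.isFrobeniusComplement hQ)
  obtain rfl : N' = N := SetLike.coe_injective (hN'.trans hN.symm)
  refine ⟨N'.map (stabilizer G P).subtype, ?_, ?_, ?_⟩
  · ext x
    rw [Subgroup.coe_map, Subgroup.coe_subtype, hN]
    constructor
    · rintro ⟨y, hy, rfl⟩
      refine ⟨y.2, fun R hR hyR => ?_⟩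
      obtain ⟨u, huP, huQ⟩ := S.edge_trans hQ hR
      rcases hy with rfl | hy
      · rfl
      · refine absurd ?_ (hy ⟨u, huP⟩)
        rw [Subgroup.mem_pointwise_smul_iff_inv_smul_mem, MulAut.smul_def, MulAut.conj_inv_apply,
          hH, Subgroup.mem_subgroupOf, mem_stabilizer_iff, Subgroup.coe_mul, Subgroup.coe_mul,
          Subgroup.coe_inv, mul_smul, mul_smul]
        show u⁻¹ • ((y : G) • (u • Q)) = Q
        rw [huQ, hyR, ← huQ, inv_smul_smul]
    · rintro ⟨hxP, hx⟩
      refine ⟨⟨x, hxP⟩, ?_, rfl⟩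
      by_cases h1 : x = 1
      · exact Or.inl (Subtype.ext h1)
      · refine Or.inr fun u hu => h1 (hx ((u : G) • Q) (S.adj_smul_of_fix u.2 hQ) ?_)
        rw [Subgroup.mem_pointwise_smul_iff_inv_smul_mem, MulAut.smul_def, MulAut.conj_inv_apply,
          hH, Subgroup.mem_subgroupOf, mem_stabilizer_iff, Subgroup.coe_mul, Subgroup.coe_mul,
          Subgroup.coe_inv, mul_smul, mul_smul, inv_smul_eq_iff] at hu
        exact hu
  · have hNH := hcompl.card_mul_card
    have e2 : Nat.card H = S.h := by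
      rw [← S.card_edge_stab hQ]
      exact Nat.card_congr
        { toFun := fun x => ⟨x.1.1, x.1.2, x.2⟩
          invFun := fun x => ⟨⟨x.1, x.2.1⟩, x.2.2⟩
          left_inv := fun _ => rfl
          right_inv := fun _ => rfl }
    rw [e2, S.card_stab] at hNH
    rw [Subgroup.card_map_of_injective (stabilizer G P).subtype_injective]
    exact Nat.eq_of_mul_eq_mul_right (lt_trans Nat.zero_lt_one S.one_lt_h) hNH
  · exact (Group.isNilpotent_congr
      (N'.equivMapOfInjective _ (stabilizer G P).subtype_injective)).1 hnil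

/-- the Frobenius kernel at `P` -/
noncomputable def K (S : Setup G X) (P : X) : Subgroup G := (S.exists_kernel P).choose

theorem mem_K {P : X} {g : G} :
    g ∈ S.K P ↔ g • P = P ∧ ∀ Q, S.adj P Q → g • Q = Q → g = 1 :=
  Set.ext_iff.1 (S.exists_kernel P).choose_spec.1 g

theorem card_K (P : X) : Nat.card (S.K P) = S.k := (S.exists_kernel P).choose_spec.2.1

theorem K_nilpotent (P : X) : Group.IsNilpotent (S.K P) := (S.exists_kernel P).choose_spec.2.2

theorem K_fix {P : X} {g : G} (hg : g ∈ S.K P) : g • P = P := (S.mem_K.1 hg).1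

theorem K_no_fix {P Q : X} {g : G} (hg : g ∈ S.K P) (hQ : S.adj P Q) (h : g • Q = Q) : g = 1 :=
  (S.mem_K.1 hg).2 Q hQ h

/-- An element fixing `P` outside the kernel fixes a neighbour. -/
theorem exists_fixed_nbr {P : X} {g : G} (hP : g • P = P) (hg : g ∉ S.K P) :
    ∃ Q, S.adj P Q ∧ g • Q = Q ∧ g ≠ 1 := by
  by_contra hn
  push Not at hn
  exact hg (S.mem_K.2 ⟨hP, fun Q h1 h2 => hn Q h1 h2⟩)

theorem conj_mem_K {P : X} {u g : G} (hg : g ∈ S.K P) : u * g * u⁻¹ ∈ S.K (u • P) := by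
  refine S.mem_K.2 ⟨by rw [mul_smul, mul_smul, inv_smul_smul, S.K_fix hg], fun Q hQ hgQ => ?_⟩
  rw [mul_smul, mul_smul, smul_eq_iff_eq_inv_smul] at hgQ
  have h : S.adj P (u⁻¹ • Q) := by simpa using S.smul_adj u⁻¹ hQ
  rw [S.K_no_fix hg h hgQ, mul_one, mul_inv_cancel]

theorem conj_mem_K_fix {P : X} {u g : G} (hu : u • P = P) (hg : g ∈ S.K P) :
    u * g * u⁻¹ ∈ S.K P := by simpa [hu] using S.conj_mem_K (u := u) hg

theorem K_adj {P Q : X} {g : G} (hg : g ∈ S.K P) (h : S.adj P Q) : S.adj P (g • Q) :=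
  S.adj_smul_of_fix (S.K_fix hg) h

/-- The kernel is regular on the neighbours. -/
theorem K_regular {P Q R : X} (hQ : S.adj P Q) (hR : S.adj P R) :
    ∃ g ∈ S.K P, g • Q = R := by
  have hinj : Function.Injective
      (fun g : S.K P => (⟨(g : G) • Q, S.K_adj g.2 hQ⟩ : {y // S.adj P y})) := fun x y hxy => by
    have e : (x : G) • Q = (y : G) • Q := congrArg Subtype.val hxy
    exact Subtype.ext (inv_mul_eq_one.1 (S.K_no_fix ((S.K P).mul_mem ((S.K P).inv_mem x.2) y.2) hQ
      (by rw [mul_smul, ← e, inv_smul_smul])))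
  have hbij := (Nat.bijective_iff_injective_and_card _).2
    ⟨hinj, (S.card_K P).trans (S.card_nbr P).symm⟩
  obtain ⟨g, hg⟩ := hbij.2 ⟨R, hR⟩
  exact ⟨g, g.2, congrArg Subtype.val hg⟩

theorem h_dvd_pred : S.h ∣ S.k - 1 := by
  classical
  have h1 := subgroup_card_dvd_of_free (pairStab G S.a S.b) (fun y => S.adj S.a y ∧ y ≠ S.b)
    (fun u hu y hy => ⟨S.adj_smul_of_fix hu.1 hy.1, fun e => hy.2
      (MulAction.injective u (e.trans hu.2.symm))⟩)
    (fun u hu y hy e => S.frob u S.hab hy.1 (Ne.symm hy.2) hu.1 hu.2 e)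
  have h2 : Nat.card {y // S.adj S.a y ∧ y ≠ S.b} = S.k - 1 := by
    rw [k, Nat.card_eq_fintype_card, Nat.card_eq_fintype_card, Fintype.card_subtype,
      Fintype.card_subtype,
      ← Finset.card_erase_of_mem (a := S.b) (Finset.mem_filter.2 ⟨Finset.mem_univ _, S.hab⟩)]
    congr 1
    ext y; simp [and_comm]
  rw [h2] at h1
  exact h1

theorem coprime_k_h : S.k.Coprime S.h := by
  obtain ⟨t, ht⟩ := S.h_dvd_pred
  rw [show S.k = S.h * t + 1 by have := S.k_pos; omega]
  simp

/-- An element of the kernel which also fixes an edge is trivial. -/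
theorem orderOf_eq_one {P Q : X} {g : G} (hQ : S.adj P Q) (hP : g • P = P) (hgQ : g • Q = Q)
    {R : X} (hg : g ∈ S.K R) : g = 1 := by
  have h1 : orderOf g ∣ S.h := by
    rw [← S.card_edge_stab hQ]
    exact Subgroup.orderOf_dvd_natCard _ (⟨hP, hgQ⟩ : g ∈ pairStab G P Q)
  have h2 : orderOf g ∣ S.k := by
    rw [← S.card_K R]
    exact Subgroup.orderOf_dvd_natCard _ hg
  exact orderOf_eq_one_iff.1 (Nat.eq_one_of_dvd_coprimes S.coprime_k_h h2 h1)

/-- An element of a kernel lies in every kernel whose point it fixes. -/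
theorem mem_K_of_fix {P R : X} {g : G} (hg : g ∈ S.K R) (hP : g • P = P) : g ∈ S.K P :=
  S.mem_K.2 ⟨hP, fun _ hQ hgQ => S.orderOf_eq_one hQ hP hgQ hg⟩

theorem mem_K_of_orderOf {P : X} {g : G} (hP : g • P = P) (h : (orderOf g).Coprime S.h) :
    g ∈ S.K P :=
  S.mem_K.2 ⟨hP, fun Q hQ hgQ => orderOf_eq_one_iff.1
    (Nat.eq_one_of_dvd_coprimes h dvd_rfl (by
      rw [← S.card_edge_stab hQ]
      exact Subgroup.orderOf_dvd_natCard _ (⟨hP, hgQ⟩ : g ∈ pairStab G P Q)))⟩

/-- An element fixing two far points fixes none of their common neighbours. -/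
theorem no_common_fixed {P R Q : X} (hne : P ≠ R) {g : G} (hg : g ≠ 1) (hP : g • P = P)
    (hR : g • R = R) (h1 : S.adj P Q) (h2 : S.adj R Q) : g • Q ≠ Q := fun hQ =>
  hne (S.fixed_nbr_unique hg hQ (S.symm h1) (S.symm h2) hP hR)

/-- An element fixing an edge has no fixed common neighbour. -/
theorem no_third_fixed {P Q R : X} {g : G} (hg : g ≠ 1) (hP : g • P = P) (hQ : g • Q = Q)
    (h1 : S.adj P Q) (h2 : S.adj P R) (hne : R ≠ Q) : g • R ≠ R := fun hR =>
  hne (S.fixed_nbr_unique hg hP h2 h1 hR hQ)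

end Setup

end Cfsg.Agent.Tsuzuku
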