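import Mathlib
import Cfsg.Agent.Lib.Tsuzuku.Setup

/-!
Double counting of the pairs moved by a class of group elements.
-/

set_option autoImplicit false
set_option linter.unusedSectionVars false

open MulAction

namespace Cfsg.Agent.Tsuzuku

variable {G X : Type*} [Group G] [MulAction G X] [Finite G] [Fintype X]

/-- The moved pairs of a conjugation-invariant set, counted through an orbital. -/
theorem card_moved (t : G → Prop) (ht : ∀ g τ : G, t τ → t (g * τ * g⁻¹)) (rel : X → X → Prop)
    {P Q : X} (htr : ∀ x y, rel x y → ∃ g : G, g • P = x ∧ g • Q = y) :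
    Nat.card {p : G × X // t p.1 ∧ rel p.2 (p.1 • p.2)} =
      Nat.card {p : X × X // rel p.1 p.2} * Nat.card {τ : G // t τ ∧ τ • P = Q} := by
  classical
  have e : {p : G × X // t p.1 ∧ rel p.2 (p.1 • p.2)} ≃
      Σ p : {p : X × X // rel p.1 p.2}, {τ : G // t τ ∧ τ • p.1.1 = p.1.2} :=
    { toFun := fun p => ⟨⟨(p.1.2, p.1.1 • p.1.2), p.2.2⟩, p.1.1, p.2.1, rfl⟩
      invFun := fun s => ⟨(s.2.1, s.1.1.1), s.2.2.1, by rw [s.2.2.2]; exact s.1.2⟩
      left_inv := fun p => rfl
      right_inv := by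
        rintro ⟨⟨⟨x, y⟩, h⟩, τ, h1, h2⟩
        obtain rfl : τ • x = y := h2
        rfl }
  have := Fintype.ofFinite {p : X × X // rel p.1 p.2}
  rw [Nat.card_congr e, Nat.card_sigma, Finset.sum_const_nat (m := Nat.card {τ : G // t τ ∧ τ • P = Q}),
    Finset.card_univ, ← Nat.card_eq_fintype_card]
  intro p _
  obtain ⟨g, h1, h2⟩ := htr _ _ p.2
  refine Nat.card_congr
    { toFun := fun τ => ⟨g⁻¹ * τ.1 * g, ?_, ?_⟩
      invFun := fun τ => ⟨g * τ.1 * g⁻¹, ht g _ τ.2.1, ?_⟩
      left_inv := fun τ => Subtype.ext (by group)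
      right_inv := fun τ => Subtype.ext (by group) }
  · simpa using ht g⁻¹ _ τ.2.1
  · rw [mul_smul, mul_smul, h1, τ.2.2, ← h2, inv_smul_smul]
  · rw [mul_smul, mul_smul, ← h1, inv_smul_smul, τ.2.2, h2]

/-- The fixed pairs of a conjugation-invariant set in a transitive action. -/
theorem card_fixed (t : G → Prop) (ht : ∀ g τ : G, t τ → t (g * τ * g⁻¹)) {P : X}
    (htr : ∀ x : X, ∃ g : G, g • P = x) :
    Nat.card {p : G × X // t p.1 ∧ p.1 • p.2 = p.2} =
      Fintype.card X * Nat.card {τ : G // t τ ∧ τ • P = P} := by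
  have := card_moved (X := X) t ht (fun x y => y = x) (P := P) (Q := P)
    (fun x y h => by obtain ⟨g, hg⟩ := htr x; exact ⟨g, hg, hg.trans h.symm⟩)
  rw [this]
  congr 1
  rw [← Nat.card_eq_fintype_card]
  exact Nat.card_congr
    { toFun := fun p => p.1.1
      invFun := fun x => ⟨(x, x), rfl⟩
      left_inv := by rintro ⟨⟨x, y⟩, rfl : y = x⟩; rfl
      right_inv := fun _ => rfl }

/-- If every element of the set has the same number of points, the pairs are a product. -/
theorem card_pairs_const (t : G → Prop) (r : G → X → Prop) (N : ℕ)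
    (h : ∀ τ, t τ → Nat.card {x : X // r τ x} = N) :
    Nat.card {p : G × X // t p.1 ∧ r p.1 p.2} = Nat.card {τ : G // t τ} * N := by
  classical
  have e : {p : G × X // t p.1 ∧ r p.1 p.2} ≃ Σ τ : {τ : G // t τ}, {x : X // r τ.1 x} :=
    { toFun := fun p => ⟨⟨p.1.1, p.2.1⟩, p.1.2, p.2.2⟩
      invFun := fun s => ⟨(s.1.1, s.2.1), s.1.2, s.2.2⟩
      left_inv := fun _ => rfl
      right_inv := fun _ => rfl }
  have := Fintype.ofFinite {τ : G // t τ}
  rw [Nat.card_congr e, Nat.card_sigma, Finset.sum_const_nat (fun τ _ => h τ.1 τ.2),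
    Finset.card_univ, Nat.card_eq_fintype_card]

namespace Setup

variable (S : Setup G X)

/-- two points in the second orbital -/
def Far (S : Setup G X) (x y : X) : Prop := x ≠ y ∧ ¬ S.adj x y

theorem Far.symm {S : Setup G X} {x y : X} (h : S.Far x y) : S.Far y x :=
  ⟨h.1.symm, S.not_adj_symm h.2⟩

theorem far_smul (g : G) {x y : X} (h : S.Far x y) : S.Far (g • x) (g • y) :=
  ⟨fun e => h.1 (MulAction.injective g e), fun e => h.2 ((S.smul_adj_iff g).1 e)⟩

theorem far_smul_of_fix {g : G} {P R : X} (hP : g • P = P) (h : S.Far P R) : S.Far P (g • R) := by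
  simpa [hP] using S.far_smul g h

theorem far_of_K_fix {P R : X} {g : G} (hg : g ∈ S.K P) (hg1 : g ≠ 1) (hne : P ≠ R)
    (h : g • R = R) : S.Far P R :=
  ⟨hne, fun ha => hg1 (S.K_no_fix hg ha h)⟩

theorem card_adj_pairs : Nat.card {p : X × X // S.adj p.1 p.2} = Fintype.card X * S.k := by
  classical
  have e : {p : X × X // S.adj p.1 p.2} ≃ Σ x : X, {y : X // S.adj x y} :=
    Equiv.subtypeProdEquivSigmaSubtype _
  rw [Nat.card_congr e, Nat.card_sigma, Finset.sum_const_nat (fun x _ => S.card_nbr x),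
    Finset.card_univ]

theorem card_far_pairs : Nat.card {p : X × X // S.Far p.1 p.2} = Fintype.card X * S.l := by
  classical
  have e : {p : X × X // S.Far p.1 p.2} ≃ Σ x : X, {y : X // S.Far x y} :=
    Equiv.subtypeProdEquivSigmaSubtype _
  rw [Nat.card_congr e, Nat.card_sigma,
    Finset.sum_const_nat (m := S.l) (fun x _ => by exact S.card_far x), Finset.card_univ]

theorem card_moved_adj (t : G → Prop) (ht : ∀ g τ : G, t τ → t (g * τ * g⁻¹)) :
    Nat.card {p : G × X // t p.1 ∧ S.adj p.2 (p.1 • p.2)} =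
      Fintype.card X * S.k * Nat.card {τ : G // t τ ∧ τ • S.a = S.b} := by
  rw [card_moved t ht S.adj (fun x y h => S.edge_trans S.hab h), S.card_adj_pairs]

theorem card_moved_far (t : G → Prop) (ht : ∀ g τ : G, t τ → t (g * τ * g⁻¹)) :
    Nat.card {p : G × X // t p.1 ∧ S.Far p.2 (p.1 • p.2)} =
      Fintype.card X * S.l * Nat.card {τ : G // t τ ∧ τ • S.a = S.c} := by
  rw [card_moved t ht S.Far (fun x y h => S.far_trans S.hac S.nac h.1 h.2), S.card_far_pairs]

/-- Every point is fixed, moved to a neighbour, or moved far away. -/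
theorem card_split (g : G) :
    Nat.card {x : X // g • x = x} + Nat.card {x : X // S.adj x (g • x)} +
      Nat.card {x : X // S.Far x (g • x)} = Fintype.card X := by
  classical
  simp only [Nat.card_eq_fintype_card, Fintype.card_subtype]
  rw [← Finset.card_union_of_disjoint, ← Finset.card_union_of_disjoint, ← Finset.card_univ]
  · congr 1
    ext x
    simp only [Finset.mem_union, Finset.mem_filter, Finset.mem_univ, true_and, iff_true]
    by_cases h1 : g • x = x
    · exact Or.inl (Or.inl h1)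
    · by_cases h2 : S.adj x (g • x)
      · exact Or.inl (Or.inr h2)
      · exact Or.inr ⟨fun e => h1 e.symm, h2⟩
  · rw [Finset.disjoint_left]
    intro x hx hx'
    simp only [Finset.mem_union, Finset.mem_filter, Finset.mem_univ, true_and] at hx hx'
    rcases hx with h | h
    · exact hx'.1 h.symm
    · exact hx'.2 h
  · rw [Finset.disjoint_left]
    intro x hx hx'
    simp only [Finset.mem_filter, Finset.mem_univ, true_and] at hx hx'
    rw [hx] at hx'
    exact S.irrefl x hx'

/-- Involutions interchanging two points lie in one coset of their stabiliser. -/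
theorem card_swap_le (t : G → Prop) (ht : ∀ τ, t τ → τ * τ = 1) (P Q : X) :
    Nat.card {τ : G // t τ ∧ τ • P = Q} ≤ Nat.card (pairStab G P Q) := by
  rcases isEmpty_or_nonempty {τ : G // t τ ∧ τ • P = Q} with h | ⟨⟨τ₀, h0, h0'⟩⟩
  · simp
  have hswap : ∀ τ : G, t τ → τ • P = Q → τ • Q = P := fun τ hτ e => by
    rw [← e, ← mul_smul, ht τ hτ, one_smul]
  refine Nat.card_le_card_of_injective
    (fun τ => (⟨τ₀⁻¹ * τ.1, mem_pairStab.2
      ⟨by rw [mul_smul, τ.2.2, inv_smul_eq_iff, h0'],
       by rw [mul_smul, hswap _ τ.2.1 τ.2.2, inv_smul_eq_iff, hswap _ h0 h0']⟩⟩ : pairStab G P Q))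
    (fun x y h => Subtype.ext (mul_left_cancel (congrArg Subtype.val h)))

/-- Two far points have different neighbourhoods. -/
theorem exists_adj_not_adj {P R : X} (h : S.Far P R) : ∃ x, S.adj P x ∧ ¬ S.adj R x := by
  by_contra hn
  push Not at hn
  obtain ⟨R₀, R₁, h1, h2, h3, -, h5⟩ := S.far_edge P
  obtain ⟨g, hg1, hg2⟩ := S.far_trans h.1 h.2 h1 h2
  let f : {y // S.adj P y} → {y // S.adj R₀ y} := fun y => ⟨y.1, by
    have h' : S.adj P (g⁻¹ • y.1) := by
      simpa [show g⁻¹ • P = P from inv_smul_eq_iff.2 hg1.symm] using S.smul_adj g⁻¹ y.2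
    simpa [hg2] using S.smul_adj g (hn _ h')⟩
  have hbij := (Nat.bijective_iff_injective_and_card f).2
    ⟨fun x y e => Subtype.ext (congrArg Subtype.val e :), (S.card_nbr P).trans (S.card_nbr R₀).symm⟩
  obtain ⟨⟨y, hy⟩, e⟩ := hbij.2 ⟨R₁, h3⟩
  have e' : y = R₁ := congrArg Subtype.val e
  exact h5 (e' ▸ hy)

end Setup

end Cfsg.Agent.Tsuzuku
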