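import Mathlib
import Cfsg.Agent.Lib.Cores.Nilpotent
import Cfsg.Agent.Lib.Tsuzuku.Moved

/-!
Tsuzuku's theorem: the order of an edge stabiliser is even.
-/

set_option autoImplicit false
set_option linter.unusedSectionVars false

open MulAction

namespace Cfsg.Agent.Tsuzuku.Setup

variable {G X : Type*} [Group G] [MulAction G X] [Finite G] [Fintype X] (S : Setup G X)

theorem two_coprime_of_odd {n : ℕ} (hn : Odd n) : Nat.Coprime 2 n := Nat.coprime_two_left.2 hn

theorem involution_mem_K (hodd : Odd S.h) {P : X} {z : G} (hz : orderOf z = 2)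
    (hP : z • P = P) : z ∈ S.K P :=
  S.mem_K_of_orderOf hP (by rw [hz]; exact two_coprime_of_odd hodd)

theorem k_even (hodd : Odd S.h) : Even S.k := by
  by_contra hk
  have hk' : Odd S.k := Nat.not_even_iff_odd.1 hk
  have hl : Odd S.l := (Nat.odd_mul.1 (S.l_mul_m ▸ hk'.mul hodd)).1
  have hn : Odd (Fintype.card X) := by
    rw [S.card_X]; exact (odd_one.add_odd hk').add_odd hl
  exact Nat.not_even_iff_odd.2 (hn.mul (hk'.mul hodd)) (S.card_group ▸ S.even)

/-- If the number of far points is odd, involutions of the kernel fix all of them. -/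
theorem fix_far_of_odd_l (hodd : Odd S.h) (hl : Odd S.l) {P R : X} (hfar : S.Far P R) {z : G}
    (hz : orderOf z = 2) (hzK : z ∈ S.K P) : z • R = R := by
  have : Fact (Nat.Prime 2) := ⟨Nat.prime_two⟩
  have := S.K_nilpotent P
  let M := pairStab G P R
  let Q₂ : Sylow 2 M := default
  let V : Subgroup G := (Q₂ : Subgroup M).map M.subtype
  have hV : ∀ g ∈ V, g ∈ S.K P := by
    rintro g ⟨x, hx, rfl⟩
    obtain ⟨e, he⟩ := IsPGroup.iff_orderOf.1 Q₂.2 ⟨x, hx⟩
    refine S.mem_K_of_orderOf x.2.1 ?_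
    rw [Subgroup.coe_subtype, Subgroup.orderOf_coe, show orderOf x = 2 ^ e by
      rw [← he]; exact Subgroup.orderOf_coe (⟨x, hx⟩ : (Q₂ : Subgroup M))]
    exact Nat.Coprime.pow_left e (two_coprime_of_odd hodd)
  let V' : Subgroup (S.K P) := V.subgroupOf (S.K P)
  have hcV : Nat.card V' = Nat.card (Q₂ : Subgroup M) := by
    rw [Nat.card_congr (Subgroup.subgroupOfEquivOfLe (H := V) (K := S.K P) hV).toEquiv]
    exact Subgroup.card_map_of_injective M.subtype_injective
  obtain ⟨e, he⟩ := IsPGroup.iff_card.1 Q₂.2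
  have hpV : IsPGroup 2 V' := IsPGroup.of_card (n := e) (hcV.trans he)
  have hind : ¬ 2 ∣ V'.index := by
    have h1 : Nat.card V' * V'.index = S.k := (Subgroup.card_mul_index _).trans (S.card_K P)
    have h2 : Nat.card V' * (Q₂ : Subgroup M).index = S.m := by
      rw [hcV, Subgroup.card_mul_index]
      exact S.card_far_stab hfar.1 hfar.2
    have h3 : Nat.card V' * (V'.index * S.h) = Nat.card V' * (S.l * (Q₂ : Subgroup M).index) := by
      rw [← mul_assoc, h1, mul_left_comm, h2, S.l_mul_m]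
    have h4 := Nat.eq_of_mul_eq_mul_left Nat.card_pos h3
    intro hd
    have h5 : 2 ∣ S.l * (Q₂ : Subgroup M).index := h4 ▸ hd.mul_right _
    rcases (Nat.Prime.dvd_mul Nat.prime_two).1 h5 with h | h
    · exact Nat.not_even_iff_odd.2 hl (even_iff_two_dvd.2 h)
    · exact Q₂.not_dvd_index h
  have hzp : IsPGroup 2 (Subgroup.zpowers (⟨z, hzK⟩ : S.K P)) :=
    IsPGroup.of_card (n := 1) (by rw [Nat.card_zpowers, Subgroup.orderOf_mk, hz, pow_one])
  obtain ⟨P₁, hP₁⟩ := hzp.exists_le_sylow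
  have := P₁.unique_of_normal inferInstance
  have hmem : (⟨z, hzK⟩ : S.K P) ∈ hpV.toSylow hind := by
    rw [Subsingleton.elim (hpV.toSylow hind) P₁]
    exact hP₁ (Subgroup.mem_zpowers _)
  rw [IsPGroup.mem_toSylow, Subgroup.mem_subgroupOf] at hmem
  obtain ⟨x, -, hx⟩ := hmem
  rw [Subgroup.coe_subtype] at hx
  rw [← show (x : G) = z from hx]
  exact x.2.2

theorem exists_involution_K (hodd : Odd S.h) (P : X) : ∃ z ∈ S.K P, orderOf z = 2 := by
  obtain ⟨z, hz⟩ := exists_prime_orderOf_dvd_card' (G := S.K P) 2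
    (by rw [S.card_K]; exact even_iff_two_dvd.1 (S.k_even hodd))
  exact ⟨z, z.2, (Subgroup.orderOf_coe z).trans hz⟩

theorem l_even (hodd : Odd S.h) : Even S.l := by
  by_contra hl
  have hl' : Odd S.l := Nat.not_even_iff_odd.1 hl
  obtain ⟨z, hzK, hz⟩ := S.exists_involution_K hodd S.a
  obtain ⟨R, R', h1, h2, h3, h4, h5⟩ := S.far_edge S.a
  have hR := S.fix_far_of_odd_l hodd hl' ⟨h1, h2⟩ hz hzK
  have hR' := S.fix_far_of_odd_l hodd hl' ⟨h4, h5⟩ hz hzK
  have := S.K_no_fix (S.involution_mem_K hodd hz hR) h3 hR'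
  rw [this, orderOf_one] at hz
  exact absurd hz (by norm_num)

theorem exists_fixed_point (hodd : Odd S.h) {τ : G} (hτ : τ * τ = 1) : ∃ x : X, τ • x = x := by
  refine exists_fixed_of_involutive (fun x => τ • x) (fun x => by rw [← mul_smul, hτ, one_smul]) ?_
  rw [Nat.card_eq_fintype_card, S.card_X]
  exact (odd_one.add_even (S.k_even hodd)).add_even (S.l_even hodd)

/-- `z` is a central involution of the kernel at `P`. -/
def Central (S : Setup G X) (P : X) (z : G) : Prop :=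
  orderOf z = 2 ∧ z ∈ S.K P ∧ ∀ g ∈ S.K P, g * z = z * g

theorem Central.fix {S : Setup G X} {P : X} {z : G} (h : S.Central P z) : z • P = P :=
  S.K_fix h.2.1

theorem Central.ne_one {S : Setup G X} {P : X} {z : G} (h : S.Central P z) : z ≠ 1 := by
  intro e
  have := h.1
  rw [e, orderOf_one] at this
  exact absurd this (by norm_num)

theorem Central.sq {S : Setup G X} {P : X} {z : G} (h : S.Central P z) : z * z = 1 := by
  rw [← pow_two, ← h.1, pow_orderOf_eq_one]

theorem Central.swap {S : Setup G X} {P : X} {z : G} (h : S.Central P z) {x y : X}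
    (e : z • x = y) : z • y = x := by
  rw [← e, ← mul_smul, h.sq, one_smul]

theorem Central.conj {S : Setup G X} {P : X} {z : G} (h : S.Central P z) (u : G) :
    S.Central (u • P) (u * z * u⁻¹) := by
  refine ⟨?_, S.conj_mem_K h.2.1, fun g hg => ?_⟩
  · rw [← h.1]; exact orderOf_injective (MulAut.conj u).toMonoidHom (MulAut.conj u).injective z
  · have h2 := h.2.2 (u⁻¹ * g * u) (by simpa using S.conj_mem_K (u := u⁻¹) hg)
    calc g * (u * z * u⁻¹) = u * ((u⁻¹ * g * u) * z) * u⁻¹ := by group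
      _ = u * (z * (u⁻¹ * g * u)) * u⁻¹ := by rw [h2]
      _ = u * z * u⁻¹ * g := by group

theorem exists_central (hodd : Odd S.h) (P : X) : ∃ z, S.Central P z := by
  have : Fact (Nat.Prime 2) := ⟨Nat.prime_two⟩
  have := S.K_nilpotent P
  let P₂ : Sylow 2 (S.K P) := default
  have hne : (P₂ : Subgroup (S.K P)) ≠ ⊥ :=
    P₂.ne_bot_of_dvd_card (by rw [S.card_K]; exact even_iff_two_dvd.1 (S.k_even hodd))
  have h1 := Cores.inf_center_ne_bot (N := (P₂ : Subgroup (S.K P))) hne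
  let W : Subgroup (S.K P) := (P₂ : Subgroup (S.K P)) ⊓ Subgroup.center (S.K P)
  have : Nontrivial W := (Subgroup.nontrivial_iff_ne_bot _).2 h1
  obtain ⟨e, he0, he⟩ :=
    IsPGroup.nontrivial_iff_card (P₂.2.to_le (inf_le_left : W ≤ _)) |>.1 this
  obtain ⟨z, hz⟩ := exists_prime_orderOf_dvd_card' (G := W) 2 (he ▸ dvd_pow_self 2 (by omega))
  refine ⟨((z : S.K P) : G), ?_, z.1.2, fun g hg => ?_⟩
  · rw [Subgroup.orderOf_coe, Subgroup.orderOf_coe, hz]
  · exact congrArg Subtype.val (Subgroup.mem_center_iff.1 z.2.2 ⟨g, hg⟩)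

/-! ### central involutions fixing a single point -/

theorem unique_case (hodd : Odd S.h)
    (huniq : ∀ P z, S.Central P z → ∀ x : X, z • x = x → x = P) : False := by
  classical
  let t : G → Prop := fun τ => ∃ P, S.Central P τ
  have ht : ∀ g τ : G, t τ → t (g * τ * g⁻¹) := fun g τ ⟨P, hP⟩ => ⟨g • P, hP.conj g⟩
  have hsq : ∀ τ, t τ → τ * τ = 1 := fun τ ⟨P, hP⟩ => hP.sq
  let i₀ := Nat.card {τ : G // t τ ∧ τ • S.a = S.a}
  let u := Nat.card {τ : G // t τ ∧ τ • S.a = S.b}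
  let w := Nat.card {τ : G // t τ ∧ τ • S.a = S.c}
  have hfix : ∀ τ, t τ → Nat.card {x : X // τ • x = x} = 1 := by
    rintro τ ⟨P, hP⟩
    rw [Nat.card_eq_one_iff_unique]
    exact ⟨⟨fun x y => Subtype.ext ((huniq P τ hP x x.2).trans (huniq P τ hP y y.2).symm)⟩,
      ⟨⟨P, hP.fix⟩⟩⟩
  -- the counting equation
  have h1 := card_fixed (X := X) t ht (P := S.a) (fun x => S.trans S.a x)
  rw [card_pairs_const t (fun τ x => τ • x = x) 1 hfix, mul_one] at h1
  have h2 := S.card_moved_adj t ht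
  have h3 := S.card_moved_far t ht
  have := Fintype.ofFinite {τ : G // t τ}
  have h4 : Nat.card {p : G × X // t p.1 ∧ S.adj p.2 (p.1 • p.2)} +
      Nat.card {p : G × X // t p.1 ∧ S.Far p.2 (p.1 • p.2)} + Nat.card {τ : G // t τ} =
      Nat.card {τ : G // t τ} * Fintype.card X := by
    have e1 : ∀ r : G → X → Prop, Nat.card {p : G × X // t p.1 ∧ r p.1 p.2} =
        ∑ τ : {τ : G // t τ}, Nat.card {x : X // r τ.1 x} := fun r => by
      rw [← Nat.card_sigma]
      exact Nat.card_congr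
        { toFun := fun p => ⟨⟨p.1.1, p.2.1⟩, p.1.2, p.2.2⟩
          invFun := fun s => ⟨(s.1.1, s.2.1), s.1.2, s.2.2⟩
          left_inv := fun _ => rfl
          right_inv := fun _ => rfl }
    have e2 : Nat.card {τ : G // t τ} =
        ∑ τ : {τ : G // t τ}, Nat.card {x : X // τ.1 • x = x} := by
      rw [Finset.sum_const_nat (m := 1) (fun τ _ => hfix τ.1 τ.2), Finset.card_univ, mul_one,
        Nat.card_eq_fintype_card]
    rw [e1 (fun τ x => S.adj x (τ • x)), e1 (fun τ x => S.Far x (τ • x)), e2,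
      ← Finset.sum_add_distrib, ← Finset.sum_add_distrib, ← e2,
      Finset.sum_const_nat (m := Fintype.card X)
        (fun τ _ => by have := S.card_split τ.1; omega),
      Finset.card_univ, Nat.card_eq_fintype_card]
  rw [h2, h3, h1] at h4
  have hn : 0 < Fintype.card X := Fintype.card_pos_iff.2 ⟨S.a⟩
  have heq : S.k * u + S.l * w + i₀ = i₀ * (1 + S.k + S.l) := by
    rw [← S.card_X]
    refine Nat.eq_of_mul_eq_mul_left hn ?_
    calc _ = Fintype.card X * S.k * u + Fintype.card X * S.l * w + Fintype.card X * i₀ := by ring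
      _ = _ := by rw [h4]; ring
  -- the class is a multiple of `h`
  have hcentral : ∀ τ, t τ → τ • S.a = S.a → S.Central S.a τ := by
    rintro τ ⟨P, hP⟩ hτ
    rwa [huniq P τ hP S.a hτ]
  have hi : S.h ≤ i₀ := by
    obtain ⟨z, hz⟩ := S.exists_central hodd S.a
    have hpos : 0 < i₀ := Nat.card_pos_iff.2 ⟨⟨⟨z, ⟨S.a, hz⟩, hz.fix⟩⟩, inferInstance⟩
    refine Nat.le_of_dvd hpos ?_
    let a : MulAction (pairStab G S.a S.b) {τ : G // t τ ∧ τ • S.a = S.a} :=
      { smul := fun x τ => ⟨(x : G) * τ.1 * (x : G)⁻¹, ht _ _ τ.2.1, by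
          rw [mul_smul, mul_smul, inv_smul_eq_iff.2 x.2.1.symm, τ.2.2, x.2.1]⟩
        one_smul := fun τ => Subtype.ext (by
          show (1 : G) * τ.1 * (1 : G)⁻¹ = τ.1
          group)
        mul_smul := fun x y τ => Subtype.ext (by
          show (x : G) * (y : G) * τ.1 * ((x : G) * (y : G))⁻¹ =
            (x : G) * ((y : G) * τ.1 * (y : G)⁻¹) * (x : G)⁻¹
          group) }
    refine card_dvd_of_free fun x τ hx => Subtype.ext ?_
    have hc : (x : G) * τ.1 = τ.1 * x := mul_inv_eq_iff_eq_mul.1 (congrArg Subtype.val hx)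
    have hτ := hcentral τ.1 τ.2.1 τ.2.2
    by_contra hx1
    have hadj := S.K_adj hτ.2.1 S.hab
    have hfix' : (x : G) • (τ.1 • S.b) = τ.1 • S.b := by
      rw [← mul_smul, hc, mul_smul, x.2.2]
    exact hτ.ne_one (S.K_no_fix hτ.2.1 S.hab
      (S.fixed_nbr_unique hx1 x.2.1 hadj S.hab hfix' x.2.2))
  have hu : u ≤ S.h := (card_swap_le t hsq _ _).trans_eq (S.card_edge_stab S.hab)
  have hwm : w ≤ S.m := (card_swap_le t hsq _ _).trans_eq rfl
  have hw : S.h ≤ w := by
    by_contra hlt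
    have h5 : S.l * w < S.l * S.h := Nat.mul_lt_mul_of_pos_left (not_le.1 hlt) S.l_pos
    have h6 : S.k * u ≤ S.k * S.h := Nat.mul_le_mul_left _ hu
    have h7 : (S.k + S.l) * S.h ≤ (S.k + S.l) * i₀ := Nat.mul_le_mul_left _ hi
    nlinarith
  have h3w : 3 ≤ S.h := by
    obtain ⟨r, hr⟩ := hodd
    have := S.one_lt_h
    omega
  have hfar : S.Far S.a S.c := ⟨S.hac, S.nac⟩
  let D : Subgroup G := pairStab G S.a S.c ⊓ S.K S.a
  by_cases hD : D = ⊥
  · -- the kernel is regular on both suborbits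
    have hmh : S.m ≤ S.h := by
      have hinj : Function.Injective (fun p : pairStab G S.a S.c × S.K S.a =>
          (⟨(p.1 : G) * p.2, mul_mem (s := stabilizer G S.a) p.1.2.1 (S.K_fix p.2.2)⟩ :
            stabilizer G S.a)) := by
        rintro ⟨x, y⟩ ⟨x', y'⟩ e
        have e' : (x : G) * y = x' * y' := congrArg Subtype.val e
        have h8 : (x' : G)⁻¹ * x ∈ D := by
          refine Subgroup.mem_inf.2
            ⟨(pairStab G S.a S.c).mul_mem ((pairStab G S.a S.c).inv_mem x'.2) x.2, ?_⟩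
          rw [show (x' : G)⁻¹ * x = y' * (y : G)⁻¹ by
            rw [eq_mul_inv_iff_mul_eq, mul_assoc, e', inv_mul_cancel_left]]
          exact (S.K S.a).mul_mem y'.2 ((S.K S.a).inv_mem y.2)
        rw [hD, Subgroup.mem_bot, inv_mul_eq_one] at h8
        rw [h8] at e'
        exact Prod.ext (Subtype.ext h8.symm) (Subtype.ext (mul_left_cancel e'))
      have := Nat.card_le_card_of_injective _ hinj
      rw [Nat.card_prod, S.card_K, S.card_stab, mul_comm S.k S.h] at this
      exact Nat.le_of_mul_le_mul_right this S.k_pos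
    have hlk : S.l = S.k := by
      have e : S.m = S.h := le_antisymm hmh (hw.trans hwm)
      have := S.l_mul_m
      rw [e] at this
      exact Nat.eq_of_mul_eq_mul_right (by omega) this
    obtain ⟨x, hx, hx1⟩ : ∃ x ∈ pairStab G S.a S.c, x ≠ 1 := by
      by_contra hn
      push Not at hn
      have : S.m = 1 := Subgroup.card_eq_one.2 (eq_bot_iff.2 fun x hx => Subgroup.mem_bot.2 (hn x hx))
      omega
    have hxK : x ∉ S.K S.a := fun h => hx1 (Subgroup.mem_bot.1 (hD ▸ ⟨hx, h⟩))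
    have hxK' : x ∉ S.K S.c := fun h => hxK (S.mem_K_of_fix h hx.1)
    obtain ⟨B, hB, hxB, -⟩ := S.exists_fixed_nbr hx.1 hxK
    obtain ⟨B', hB', hxB', -⟩ := S.exists_fixed_nbr hx.2 hxK'
    have hB'far : S.Far S.a B' := by
      refine ⟨fun e => S.nac (S.symm (e ▸ hB')), fun h => ?_⟩
      exact S.no_common_fixed S.hac hx1 hx.1 hx.2 h hB' hxB'
    have hinj : Function.Injective
        (fun v : S.K S.a => (⟨(v : G) • S.c, S.far_smul_of_fix (S.K_fix v.2) hfar⟩ :
          {y : X // S.Far S.a y})) := fun v v' e => by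
      have e' : (v : G) • S.c = (v' : G) • S.c := congrArg Subtype.val e
      have h8 : (v' : G)⁻¹ * v ∈ D :=
        Subgroup.mem_inf.2
        ⟨mem_pairStab.2 ⟨by rw [mul_smul, S.K_fix v.2, inv_smul_eq_iff, S.K_fix v'.2],
          by rw [mul_smul, e', inv_smul_smul]⟩,
         (S.K S.a).mul_mem ((S.K S.a).inv_mem v'.2) v.2⟩
      rw [hD, Subgroup.mem_bot, inv_mul_eq_one] at h8
      exact Subtype.ext h8.symm
    obtain ⟨v, hv⟩ := ((Nat.bijective_iff_injective_and_card _).2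
      ⟨hinj, ((S.card_K S.a).trans hlk.symm).trans (S.card_far S.a).symm⟩).2 ⟨B', hB'far⟩
    have hv' : (v : G) • S.c = B' := congrArg Subtype.val hv
    have hcomm : (v : G)⁻¹ * x * v * x⁻¹ ∈ D := by
      refine Subgroup.mem_inf.2 ⟨?_, ?_⟩
      · refine (pairStab G S.a S.c).mul_mem (mem_pairStab.2 ⟨?_, ?_⟩)
          ((pairStab G S.a S.c).inv_mem hx)
        · rw [mul_smul, mul_smul, S.K_fix v.2, hx.1, inv_smul_eq_iff, S.K_fix v.2]
        · rw [mul_smul, mul_smul, hv', hxB', inv_smul_eq_iff, hv']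
      · rw [mul_assoc, mul_assoc, ← mul_assoc x]
        exact (S.K S.a).mul_mem ((S.K S.a).inv_mem v.2) (S.conj_mem_K_fix hx.1 v.2)
    rw [hD, Subgroup.mem_bot] at hcomm
    have hcomm' : x * v = v * x := by
      have : (v : G)⁻¹ * (x * v) = x := by
        rw [← mul_assoc]; exact mul_inv_eq_one.1 hcomm
      exact inv_mul_eq_iff_eq_mul.1 this
    have hvB : x • ((v : G) • B) = (v : G) • B := by rw [← mul_smul, hcomm', mul_smul, hxB]
    have hv1 : (v : G) = 1 := S.K_no_fix v.2 hB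
      (S.fixed_nbr_unique hx1 hx.1 (S.K_adj v.2 hB) hB hvB hxB)
    rw [hv1, one_smul] at hv'
    exact S.irrefl S.c (hv'.symm ▸ hB')
  · obtain ⟨d, hd, hd1⟩ := (Subgroup.bot_or_exists_ne_one D).resolve_left hD
    obtain ⟨σ, hσ⟩ := S.exists_central hodd S.a
    let Φ : Type _ := {y : X // ∀ g ∈ D, g • y = y}
    have hΦodd : Odd (Nat.card Φ) := by
      refine odd_card_of_involutive_unique (Y := Φ)
        (fun y => ⟨σ • y.1, fun g hg => by
          rw [← mul_smul, hσ.2.2 g hg.2, mul_smul, y.2 g hg]⟩)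
        (fun y => Subtype.ext (by
          show σ • σ • y.1 = y.1
          rw [← mul_smul, hσ.sq, one_smul]))
        (y₀ := ⟨S.a, fun g hg => hg.1.1⟩) (Subtype.ext hσ.fix)
        (fun y e => Subtype.ext (huniq S.a σ hσ y.1 (congrArg Subtype.val e)))
    -- an element interchanging `a` and `c` centralises `D`
    have hswapper : ∀ τ, t τ → τ • S.a = S.c →
        ∃ Q, S.Central Q τ ∧ ∀ g ∈ D, g * τ = τ * g := by
      rintro τ hτt hτac
      obtain ⟨Q', hQ'⟩ := hτt
      have hτca : τ • S.c = S.a := hQ'.swap hτac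
      have hinv : τ⁻¹ = τ := inv_eq_of_mul_eq_one_right hQ'.sq
      have hnorm : ∀ g ∈ D, τ * g * τ⁻¹ ∈ D := fun g hg => by
        have ha : (τ * g * τ⁻¹) • S.a = S.a := by
          rw [hinv, mul_smul, mul_smul, hτac, hg.1.2, hτca]
        have hc : (τ * g * τ⁻¹) • S.c = S.c := by
          rw [hinv, mul_smul, mul_smul, hτca, hg.1.1, hτac]
        refine ⟨⟨ha, hc⟩, S.mem_K_of_fix (R := S.c) ?_ ha⟩
        simpa [hτac] using S.conj_mem_K (u := τ) hg.2
      obtain ⟨⟨Q, hQD⟩, hQ⟩ := exists_fixed_of_involutive (Y := Φ)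
        (fun y => ⟨τ • y.1, fun g hg => by
          have h9 := y.2 _ (hnorm g hg)
          rwa [hinv, mul_smul, mul_smul, smul_eq_iff_eq_inv_smul, hinv] at h9⟩)
        (fun y => Subtype.ext (hQ'.swap rfl)) hΦodd
      obtain rfl : Q = Q' := huniq Q' τ hQ' Q (congrArg Subtype.val hQ)
      exact ⟨Q, hQ', fun g hg => hQ'.2.2 g (S.mem_K_of_fix hg.2 (hQD g hg))⟩
    have h1w : 1 < w := by omega
    obtain ⟨⟨τ₁, hτ₁, hτ₁a⟩, ⟨τ₂, hτ₂, hτ₂a⟩, hne⟩ :=
      (Finite.one_lt_card_iff_nontrivial.1 h1w).exists_pair_ne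
    have hne' : τ₁ ≠ τ₂ := fun e => hne (Subtype.ext e)
    obtain ⟨Q₁, hQ₁, hc₁⟩ := hswapper τ₁ hτ₁ hτ₁a
    obtain ⟨Q₂, hQ₂, hc₂⟩ := hswapper τ₂ hτ₂ hτ₂a
    have hya : (τ₁ * τ₂) • S.a = S.a := by rw [mul_smul, hτ₂a, hQ₁.swap hτ₁a]
    have hyc : (τ₁ * τ₂) • S.c = S.c := by rw [mul_smul, hQ₂.swap hτ₂a, hτ₁a]
    have hy1 : τ₁ * τ₂ ≠ 1 := fun e => hne' (by
      rw [← inv_eq_of_mul_eq_one_right hQ₁.sq, inv_eq_of_mul_eq_one_right e])
    have hyd : d * (τ₁ * τ₂) = τ₁ * τ₂ * d := by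
      rw [← mul_assoc, hc₁ d hd, mul_assoc, hc₂ d hd, ← mul_assoc]
    have hyK : τ₁ * τ₂ ∈ S.K S.a := by
      by_contra hn
      obtain ⟨B, hB, hyB, -⟩ := S.exists_fixed_nbr hya hn
      have hdB : (τ₁ * τ₂) • (d • B) = d • B := by rw [← mul_smul, ← hyd, mul_smul, hyB]
      exact hd1 (S.K_no_fix hd.2 hB
        (S.fixed_nbr_unique hy1 hya (S.K_adj hd.2 hB) hB hdB hyB))
    have h10 := hc₁ _ ⟨⟨hya, hyc⟩, hyK⟩
    have hcomm : τ₁ * τ₂ = τ₂ * τ₁ := by
      rw [← mul_assoc τ₁ τ₁ τ₂, hQ₁.sq, one_mul] at h10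
      calc τ₁ * τ₂ = τ₁ * (τ₁ * τ₂ * τ₁) := by rw [h10]
        _ = τ₂ * τ₁ := by rw [← mul_assoc, ← mul_assoc, hQ₁.sq, one_mul]
    have hQeq : Q₂ = Q₁ := by
      refine (huniq Q₂ τ₂ hQ₂ Q₁ (huniq Q₁ τ₁ hQ₁ _ ?_)).symm
      rw [← mul_smul, hcomm, mul_smul, hQ₁.fix]
    rw [hQeq] at hQ₂
    have hy : S.Central Q₁ (τ₁ * τ₂) := by
      refine ⟨orderOf_eq_prime ?_ hy1, mul_mem hQ₁.2.1 hQ₂.2.1, fun g hg => ?_⟩
      · rw [pow_two]
        calc τ₁ * τ₂ * (τ₁ * τ₂) = τ₁ * (τ₂ * τ₁) * τ₂ := by group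
          _ = (τ₁ * τ₁) * (τ₂ * τ₂) := by rw [← hcomm]; group
          _ = 1 := by rw [hQ₁.sq, hQ₂.sq, one_mul]
      · rw [← mul_assoc, hQ₁.2.2 g hg, mul_assoc, hQ₂.2.2 g hg, ← mul_assoc]
    have ha : S.a = Q₁ := huniq Q₁ _ hy S.a hya
    have h11 := hQ₁.fix
    rw [← ha, hτ₁a] at h11
    exact S.hac h11.symm

/-! ### a central involution fixing two points -/

theorem shared_case (hodd : Odd S.h) {P₀ R₀ : X} {z₀ : G} (hz₀ : S.Central P₀ z₀)
    (hne₀ : R₀ ≠ P₀) (hfix₀ : z₀ • R₀ = R₀) : False := by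
  classical
  have hfar₀ : S.Far P₀ R₀ := S.far_of_K_fix hz₀.2.1 hz₀.ne_one hne₀.symm hfix₀
  have hZ : ∀ P R, S.Far P R → ∃ z, S.Central P z ∧ z • R = R := by
    intro P R h
    obtain ⟨g, h1, h2⟩ := S.far_trans hfar₀.1 hfar₀.2 h.1 h.2
    refine ⟨g * z₀ * g⁻¹, h1 ▸ hz₀.conj g, ?_⟩
    rw [← h2, mul_smul, mul_smul, inv_smul_smul, hfix₀]
  have NI : ∀ P R, S.Far P R → ∀ v ∈ S.K P, ¬ S.adj R (v • R) := by
    intro P R h v hv hadj
    obtain ⟨z, hz, hzR⟩ := hZ P R h
    refine hz.ne_one (S.K_no_fix (S.mem_K_of_fix hz.2.1 hzR) hadj ?_)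
    rw [← mul_smul, ← hz.2.2 v hv, mul_smul, hzR]
  have hfar : S.Far S.a S.c := ⟨S.hac, S.nac⟩
  obtain ⟨z, hz, hzc⟩ := hZ S.a S.c hfar
  -- `z` moves every neighbour of `a` far away
  have hzB : ∀ B, S.adj S.a B → S.Far B (z • B) := by
    intro B hB
    refine ⟨fun e => hz.ne_one (S.K_no_fix hz.2.1 hB e.symm), fun hadj => ?_⟩
    obtain ⟨x, hx, hxc⟩ := S.exists_adj_not_adj hfar
    obtain ⟨v, hv, hvB⟩ := S.K_regular hB hx
    have hxc' : S.Far S.c x := ⟨fun e => S.nac (e ▸ hx), hxc⟩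
    refine NI S.c x hxc' z (S.mem_K_of_fix hz.2.1 hzc) ?_
    have := S.smul_adj v hadj
    rwa [← mul_smul, hz.2.2 v hv, mul_smul, hvB] at this
  -- the neighbours of `b` far from `a` form an even set
  let Y : Type _ := {y : X // S.Far S.a y}
  let s : Type _ := {y : Y // S.adj S.b y.1}
  have hseven : Even (Nat.card s) := by
    by_contra hs
    obtain ⟨g, hg1, hg2⟩ := S.edge_trans S.hab (S.symm S.hab)
    have hg : g * g ∈ pairStab G S.a S.b :=
      mem_pairStab.2 ⟨by rw [mul_smul, hg1, hg2], by rw [mul_smul, hg2, hg1]⟩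
    obtain ⟨r, hr⟩ := hodd
    let τ : G := g ^ S.h
    have hτ2 : τ * τ = 1 := by
      have : (⟨g * g, hg⟩ : pairStab G S.a S.b) ^ S.h = 1 := pow_card_eq_one'
      have h' : (g * g) ^ S.h = 1 := congrArg Subtype.val this
      rw [show τ * τ = (g * g) ^ S.h by rw [← pow_add, ← pow_two, ← pow_mul]; congr 1; ring, h']
    have hτ : τ = g * (g * g) ^ r := by
      rw [← pow_two, ← pow_mul, ← pow_succ', show τ = g ^ S.h from rfl, hr]
    have hr' : (g * g) ^ r ∈ pairStab G S.a S.b := pow_mem hg r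
    have hτa : τ • S.a = S.b := by rw [hτ, mul_smul, hr'.1, hg1]
    have hτb : τ • S.b = S.a := by rw [hτ, mul_smul, hr'.2, hg2]
    have hτord : orderOf τ = 2 := orderOf_eq_prime (by rw [pow_two, hτ2]) fun e => by
      rw [e, one_smul] at hτa
      exact S.ne_of_adj S.hab hτa
    have hD2 : Odd (Nat.card {y : Y // ¬ S.adj S.b y.1}) := by
      have hsum : Nat.card s + Nat.card {y : Y // ¬ S.adj S.b y.1} = S.l := by
        rw [← Nat.card_sum, Nat.card_congr (Equiv.sumCompl fun y : Y => S.adj S.b y.1)]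
        exact S.card_far S.a
      have hl := S.l_even ⟨r, hr⟩
      rcases Nat.even_or_odd (Nat.card {y : Y // ¬ S.adj S.b y.1}) with h | h
      · exact absurd (hsum ▸ hl) (Nat.not_even_iff_odd.2 ((Nat.not_even_iff_odd.1 hs).add_even h))
      · exact h
    have hmap : ∀ y : {y : Y // ¬ S.adj S.b y.1},
        S.Far S.a (τ • y.1.1) ∧ ¬ S.adj S.b (τ • y.1.1) := fun y => by
      have hy : ¬ S.adj S.b y.1.1 := y.2
      have hb : y.1.1 ≠ S.b := fun e => y.1.2.2 (by rw [e]; exact S.hab)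
      refine ⟨⟨fun e => hb ?_, fun e => hy ?_⟩, fun e => y.1.2.2 ?_⟩
      · exact (MulAction.injective τ (hτb.trans e)).symm
      · exact (S.smul_adj_iff τ).1 (by rw [hτb]; exact e)
      · exact (S.smul_adj_iff τ).1 (by rw [hτa]; exact e)
    obtain ⟨y, hy⟩ := exists_fixed_of_involutive (Y := {y : Y // ¬ S.adj S.b y.1})
      (fun y => ⟨⟨τ • y.1.1, (hmap y).1⟩, (hmap y).2⟩)
      (fun y => Subtype.ext (Subtype.ext (by
        show τ • τ • y.1.1 = y.1.1
        rw [← mul_smul, hτ2, one_smul]))) hD2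
    have hy' : τ • y.1.1 = y.1.1 := congrArg (fun q => q.1.1) hy
    refine NI y.1.1 S.a y.1.2.symm τ (S.involution_mem_K ⟨r, hr⟩ hτord hy') ?_
    rw [hτa]; exact S.hab
  -- orbits of the kernel on the far points
  let Ka := S.K S.a
  let act : MulAction Ka Y :=
    { smul := fun v y => ⟨(v : G) • y.1, S.far_smul_of_fix (S.K_fix v.2) y.2⟩
      one_smul := fun y => Subtype.ext (one_smul G y.1)
      mul_smul := fun v v' y => Subtype.ext (mul_smul (v : G) (v' : G) y.1) }
  let π : Y → orbitRel.Quotient Ka Y := fun y => Quotient.mk'' y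
  have hπ : ∀ y y' : Y, π y' = π y ↔ ∃ v : Ka, v • y = y' := fun y y' => by
    simp only [π, Quotient.eq'', orbitRel_apply]
    exact Iff.rfl
  let t : Y → ℕ := fun y => Nat.card {y' : s // π y'.1 = π y}
  have hconj : ∀ (x : G), x • S.a = S.a → ∀ y y' : Y,
      (∃ v : Ka, v • y = y') → ∀ (hy : S.Far S.a (x • y.1)) (hy' : S.Far S.a (x • y'.1)),
      ∃ v : Ka, v • (⟨x • y.1, hy⟩ : Y) = ⟨x • y'.1, hy'⟩ := by
    rintro x hx y y' ⟨v, rfl⟩ hy hy'
    refine ⟨⟨x * v * x⁻¹, S.conj_mem_K_fix hx v.2⟩, Subtype.ext ?_⟩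
    show (x * v * x⁻¹) • x • y.1 = x • (v : G) • y.1
    rw [mul_smul, mul_smul, inv_smul_smul]
  have htle : ∀ y y₁ : Y, t y ≤ t y₁ := by
    intro y y₁
    obtain ⟨g, hg1, hg2⟩ := S.far_trans y.2.1 y.2.2 y₁.2.1 y₁.2.2
    obtain ⟨v, hv, hvb⟩ := S.K_regular S.hab (S.adj_smul_of_fix hg1 S.hab)
    let x : G := v⁻¹ * g
    have hxa : x • S.a = S.a := by
      rw [mul_smul, hg1, inv_smul_eq_iff, S.K_fix hv]
    have hxb : x • S.b = S.b := by rw [mul_smul, inv_smul_eq_iff, hvb]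
    have hxy : π ⟨x • y.1, S.far_smul_of_fix hxa y.2⟩ = π y₁ := by
      refine (hπ _ _).2 ⟨⟨v⁻¹, inv_mem hv⟩, Subtype.ext ?_⟩
      show v⁻¹ • y₁.1 = x • y.1
      rw [mul_smul, hg2]
    refine Nat.card_le_card_of_injective
      (fun q => ⟨⟨⟨x • q.1.1.1, S.far_smul_of_fix hxa q.1.1.2⟩,
        by simpa [hxb] using S.smul_adj x q.1.2⟩, ?_⟩)
      (fun q q' e => Subtype.ext (Subtype.ext (Subtype.ext
        (MulAction.injective x (congrArg (fun r => r.1.1.1) e)))))
    rw [← hxy]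
    exact (hπ _ _).2 (hconj x hxa _ _ ((hπ _ _).1 q.2) _ _)
  let y₀ : Y := ⟨S.c, hfar⟩
  have ht : ∀ y, t y = t y₀ := fun y => le_antisymm (htle _ _) (htle _ _)
  have := Fintype.ofFinite (orbitRel.Quotient Ka Y)
  let q := Nat.card (orbitRel.Quotient Ka Y)
  have hst : Nat.card s = q * t y₀ := by
    rw [← Nat.card_congr (Equiv.sigmaFiberEquiv (fun y : s => π y.1)), Nat.card_sigma,
      Finset.sum_const_nat (m := t y₀), Finset.card_univ, ← Nat.card_eq_fintype_card]
    intro o _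
    induction o using Quotient.inductionOn' with
    | h y => exact ht y
  have hqodd : Odd q := by
    let D : Subgroup G := pairStab G S.a S.c ⊓ S.K S.a
    have hstab : ∀ y : Y, Nat.card (stabilizer Ka y) = Nat.card D := by
      intro y
      obtain ⟨g, hg1, hg2⟩ := S.far_trans S.hac S.nac y.2.1 y.2.2
      exact Nat.card_congr
        { toFun := fun v => ⟨g⁻¹ * v.1.1 * g, by
            have h1 : (v.1 : G) • y.1 = y.1 := congrArg Subtype.val v.2
            refine Subgroup.mem_inf.2 ⟨mem_pairStab.2 ⟨?_, ?_⟩, ?_⟩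
            · rw [mul_smul, mul_smul, hg1, S.K_fix v.1.2, inv_smul_eq_iff, hg1]
            · rw [mul_smul, mul_smul, hg2, h1, inv_smul_eq_iff, hg2]
            · simpa using S.conj_mem_K_fix (u := g⁻¹) (inv_smul_eq_iff.2 hg1.symm) v.1.2⟩
          invFun := fun d => ⟨⟨g * d.1 * g⁻¹, S.conj_mem_K_fix hg1 d.2.2⟩, Subtype.ext (by
            show (g * d.1 * g⁻¹) • y.1 = y.1
            rw [← hg2, mul_smul, mul_smul, inv_smul_smul, d.2.1.2])⟩
          left_inv := fun v => Subtype.ext (Subtype.ext (by group))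
          right_inv := fun d => Subtype.ext (by group) }
    have h1 : q * S.k = Nat.card D * S.l := by
      rw [← S.card_K S.a]
      exact (orbits_mul_card (Nat.card D) hstab).trans (by rw [show Nat.card Y = S.l from S.card_far S.a])
    obtain ⟨e, he⟩ : Nat.card D ∣ S.m := by
      rw [show S.m = Nat.card (pairStab G S.a S.c) from rfl]
      exact Subgroup.card_dvd_of_le inf_le_left
    have h2 : q * e = S.h := by
      have hD : 0 < Nat.card D := Nat.card_pos
      refine Nat.eq_of_mul_eq_mul_left (Nat.mul_pos hD S.k_pos) ?_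
      calc Nat.card D * S.k * (q * e) = q * S.k * (Nat.card D * e) := by ring
        _ = Nat.card D * S.l * S.m := by rw [h1, he]
        _ = Nat.card D * (S.l * S.m) := by ring
        _ = Nat.card D * S.k * S.h := by rw [S.l_mul_m]; ring
    exact (Nat.odd_mul.1 (h2 ▸ hodd)).1
  have hteven : Even (t y₀) :=
    (Nat.even_mul.1 (hst ▸ hseven)).resolve_left (Nat.not_even_iff_odd.2 hqodd)
  -- neighbours of `b` fixed by `z`
  let s₀ : Type _ := {y : s // z • y.1.1 = y.1.1}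
  have hs₀ : Even (Nat.card s₀) := by
    rw [← Nat.card_congr (Equiv.sigmaFiberEquiv (fun y : s₀ => π y.1.1)), Nat.card_sigma]
    refine Finset.even_sum _ fun o _ => ?_
    rcases isEmpty_or_nonempty {y : s₀ // π y.1.1 = o} with h | ⟨⟨y, hy⟩⟩
    · simp
    · subst hy
      have : Nat.card {y' : s₀ // π y'.1.1 = π y.1.1} = t y.1.1 := by
        refine Nat.card_congr
          { toFun := fun q => ⟨q.1.1, q.2⟩
            invFun := fun q => ⟨⟨q.1, ?_⟩, q.2⟩
            left_inv := fun _ => rfl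
            right_inv := fun _ => rfl }
        obtain ⟨v, hv⟩ := (hπ _ _).1 q.2
        rw [← hv]
        show z • (v : G) • y.1.1.1 = (v : G) • y.1.1.1
        rw [← mul_smul, ← hz.2.2 v v.2, mul_smul, y.2]
      rw [this, ht]
      exact hteven
  let U : Type _ := {y : X // S.adj S.b y ∧ z • y = y}
  have hU : Odd (Nat.card U) := by
    have hfarU : ∀ y : {y : U // y.1 ≠ S.a}, S.Far S.a y.1.1 := fun y =>
      S.far_of_K_fix hz.2.1 hz.ne_one (Ne.symm y.2) y.1.2.2
    have e : {y : U // y.1 ≠ S.a} ≃ s₀ :=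
      { toFun := fun y => ⟨⟨⟨y.1.1, hfarU y⟩, y.1.2.1⟩, y.1.2.2⟩
        invFun := fun y => ⟨⟨y.1.1.1, y.1.2, y.2⟩, fun e => y.1.1.2.1 e.symm⟩
        left_inv := fun _ => rfl
        right_inv := fun _ => rfl }
    have h1 : Nat.card {y : U // y.1 = S.a} = 1 := by
      rw [Nat.card_eq_one_iff_unique]
      exact ⟨⟨fun x y => Subtype.ext (Subtype.ext (x.2.trans y.2.symm))⟩,
        ⟨⟨⟨S.a, S.symm S.hab, hz.fix⟩, rfl⟩⟩⟩
    rw [← Nat.card_congr (Equiv.sumCompl fun y : U => y.1 = S.a), Nat.card_sum, h1,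
      Nat.card_congr e]
    exact odd_one.add_even hs₀
  -- an involution fixing `b` and commuting with `z`
  let L := pairStab G S.b (z • S.b)
  have hfarb := hzB S.b S.hab
  have hLeven : Even (Nat.card L) := by
    rw [S.card_far_stab hfarb.1 hfarb.2, even_iff_two_dvd,
      show S.m = Nat.card (pairStab G S.a S.c) from rfl, ← hz.1]
    exact Subgroup.orderOf_dvd_natCard _ (mem_pairStab.2 ⟨hz.fix, hzc⟩)
  have hinv : z⁻¹ = z := inv_eq_of_mul_eq_one_right hz.sq
  have hLconj : ∀ g : L, z * g.1 * z ∈ L := fun g => mem_pairStab.2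
    ⟨by rw [mul_smul, mul_smul, g.2.2, ← mul_smul, hz.sq, one_smul],
     by rw [mul_smul, mul_smul, ← mul_smul z z, hz.sq, one_smul, g.2.1]⟩
  let φ : L ≃* L :=
    { toFun := fun g => ⟨z * g.1 * z, hLconj g⟩
      invFun := fun g => ⟨z * g.1 * z, hLconj g⟩
      left_inv := fun g => Subtype.ext (by
        show z * (z * g.1 * z) * z = g.1
        rw [← mul_assoc, ← mul_assoc, hz.sq, one_mul, mul_assoc, hz.sq, mul_one])
      right_inv := fun g => Subtype.ext (by
        show z * (z * g.1 * z) * z = g.1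
        rw [← mul_assoc, ← mul_assoc, hz.sq, one_mul, mul_assoc, hz.sq, mul_one])
      map_mul' := fun g g' => Subtype.ext (by
        show z * (g.1 * g'.1) * z = z * g.1 * z * (z * g'.1 * z)
        calc z * (g.1 * g'.1) * z = z * g.1 * (z * z) * g'.1 * z := by rw [hz.sq]; group
          _ = _ := by group) }
  obtain ⟨y, hy, hyz⟩ := exists_fixed_involution hLeven φ fun g => φ.left_inv g
  have hyz' : z * y.1 * z = y.1 := congrArg Subtype.val hyz
  have hzy : z * y.1 = y.1 * z := by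
    conv_rhs => rw [← hyz']
    rw [mul_assoc, hz.sq, mul_one]
  have hyord : orderOf y.1 = 2 := (Subgroup.orderOf_coe y).trans hy
  have hyK : y.1 ∈ S.K S.b := S.involution_mem_K hodd hyord y.2.1
  have hy2 : y.1 * y.1 = 1 := by rw [← pow_two, ← hyord, pow_orderOf_eq_one]
  refine Nat.not_even_iff_odd.2 hU (even_card_of_involutive
    (fun x : U => ⟨y.1 • x.1, S.K_adj hyK x.2.1, by
      rw [← mul_smul, hzy, mul_smul, x.2.2]⟩)
    (fun x => Subtype.ext (by
      show y.1 • y.1 • x.1 = x.1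
      rw [← mul_smul, hy2, one_smul]))
    (fun x e => ?_))
  have := S.K_no_fix hyK x.2.1 (congrArg Subtype.val e)
  rw [this, orderOf_one] at hyord
  exact absurd hyord (by norm_num)

/-- The stabiliser of an edge has even order. -/
theorem even_h : Even S.h := by
  by_contra h
  have hodd := Nat.not_even_iff_odd.1 h
  by_cases huniq : ∀ P z, S.Central P z → ∀ x : X, z • x = x → x = P
  · exact S.unique_case hodd huniq
  · push Not at huniq
    obtain ⟨P, z, hz, x, hx, hne⟩ := huniq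
    exact S.shared_case hodd hz hne hx

end Cfsg.Agent.Tsuzuku.Setup
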