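import Mathlib
import Cfsg.Agent.Lib.Tsuzuku.OddCase

/-!
Tsuzuku's theorem: structure forced by an even edge stabiliser.
-/

set_option autoImplicit false
set_option linter.unusedSectionVars false

open MulAction

namespace Cfsg.Agent.Tsuzuku.Setup

variable {G X : Type*} [Group G] [MulAction G X] [Finite G] [Fintype X] (S : Setup G X)

/-! ### involutions of a point stabiliser -/

theorem exists_edge_involution {P Q : X} (hQ : S.adj P Q) :
    ∃ z : G, orderOf z = 2 ∧ z • P = P ∧ z • Q = Q := by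
  have : Fact (Nat.Prime 2) := ⟨Nat.prime_two⟩
  obtain ⟨z, hz⟩ := exists_prime_orderOf_dvd_card' (G := pairStab G P Q) 2
    (by rw [S.card_edge_stab hQ]; exact even_iff_two_dvd.1 S.even_h)
  exact ⟨z, (Subgroup.orderOf_coe z).trans hz, z.2.1, z.2.2⟩

theorem sq_of_orderOf {z : G} (hz : orderOf z = 2) : z * z = 1 := by
  rw [← pow_two, ← hz, pow_orderOf_eq_one]

theorem inv_of_orderOf {z : G} (hz : orderOf z = 2) : z⁻¹ = z :=
  inv_eq_of_mul_eq_one_right (sq_of_orderOf hz)

theorem ne_one_of_orderOf {z : G} (hz : orderOf z = 2) : z ≠ 1 := by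
  intro e
  rw [e, orderOf_one] at hz
  exact absurd hz (by norm_num)

theorem swap_of_orderOf {z : G} (hz : orderOf z = 2) {x y : X} (e : z • x = y) : z • y = x := by
  rw [← e, ← mul_smul, sq_of_orderOf hz, one_smul]

/-- conjugation by an element fixing the point, on the kernel -/
def conjK (S : Setup G X) {P : X} {z : G} (hP : z • P = P) : S.K P →* S.K P where
  toFun g := ⟨z * g * z⁻¹, S.conj_mem_K_fix hP g.2⟩
  map_one' := Subtype.ext (by show z * (1 : G) * z⁻¹ = 1; group)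
  map_mul' g g' := Subtype.ext (by show z * (g * g' : G) * z⁻¹ = z * g * z⁻¹ * (z * g' * z⁻¹); group)

theorem conjK_fpf {P Q : X} {z : G} (hz : z ≠ 1) (hQ : S.adj P Q) (hP : z • P = P)
    (hzQ : z • Q = Q) : MonoidHom.FixedPointFree (S.conjK hP) := fun g hg => by
  have e : z * (g : G) = g * z := mul_inv_eq_iff_eq_mul.1 (congrArg Subtype.val hg)
  have h1 : z • ((g : G) • Q) = (g : G) • Q := by rw [← mul_smul, e, mul_smul, hzQ]
  exact Subtype.ext (S.K_no_fix g.2 hQ
    (S.fixed_nbr_unique hz hP (S.K_adj g.2 hQ) hQ h1 hzQ))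

theorem conjK_involutive {P : X} {z : G} (hz : orderOf z = 2) (hP : z • P = P) :
    Function.Involutive (S.conjK hP) := fun g => Subtype.ext (by
  show z * (z * g * z⁻¹) * z⁻¹ = g
  rw [inv_of_orderOf hz, ← mul_assoc, ← mul_assoc, sq_of_orderOf hz, one_mul, mul_assoc,
    sq_of_orderOf hz, mul_one])

theorem K_comm {P : X} {g g' : G} (hg : g ∈ S.K P) (hg' : g' ∈ S.K P) : g * g' = g' * g := by
  obtain ⟨u, hu⟩ := S.trans S.a P
  have hQ : S.adj P (u • S.b) := hu ▸ S.smul_adj u S.hab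
  obtain ⟨z, hz, hP, hzQ⟩ := S.exists_edge_involution hQ
  exact congrArg Subtype.val
    (MonoidHom.FixedPointFree.commute_all_of_involutive (S.conjK_fpf (ne_one_of_orderOf hz) hQ hP hzQ)
      (S.conjK_involutive hz hP) (⟨g, hg⟩ : S.K P) ⟨g', hg'⟩).eq

theorem k_odd : Odd S.k := by
  obtain ⟨z, hz, hP, hzQ⟩ := S.exists_edge_involution S.hab
  rw [← S.card_K S.a]
  exact MonoidHom.FixedPointFree.odd_card_of_involutive
    (S.conjK_fpf (ne_one_of_orderOf hz) S.hab hP hzQ) (S.conjK_involutive hz hP)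

theorem involution_not_mem_K {P : X} {z : G} (hz : orderOf z = 2) : z ∉ S.K P := fun h => by
  have h1 : orderOf z ∣ S.k := by
    rw [← S.card_K P]; exact Subgroup.orderOf_dvd_natCard _ h
  rw [hz] at h1
  exact Nat.not_even_iff_odd.2 S.k_odd (even_iff_two_dvd.2 h1)

theorem exists_nbr_of_involution {P : X} {z : G} (hz : orderOf z = 2) (hP : z • P = P) :
    ∃ Q, S.adj P Q ∧ z • Q = Q := by
  obtain ⟨Q, h1, h2, -⟩ := S.exists_fixed_nbr hP (S.involution_not_mem_K hz)
  exact ⟨Q, h1, h2⟩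

/-- An involution fixing a point inverts its kernel. -/
theorem inverts {P : X} {z g : G} (hz : orderOf z = 2) (hP : z • P = P) (hg : g ∈ S.K P) :
    z * g * z⁻¹ = g⁻¹ := by
  obtain ⟨Q, hQ, hzQ⟩ := S.exists_nbr_of_involution hz hP
  exact congrArg Subtype.val (congrFun (MonoidHom.FixedPointFree.coe_eq_inv_of_involutive
    (S.conjK_fpf (ne_one_of_orderOf hz) hQ hP hzQ) (S.conjK_involutive hz hP)) ⟨g, hg⟩)

theorem inverts_swap {P : X} {z g : G} (hz : orderOf z = 2) (hP : z • P = P) (hg : g ∈ S.K P) :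
    z * g = g⁻¹ * z := by
  rw [← S.inverts hz hP hg, inv_mul_cancel_right]

/-- The product of two involutions fixing a point lies in the kernel. -/
theorem mul_mem_K {P : X} {z z' : G} (hz : orderOf z = 2) (hz' : orderOf z' = 2) (hP : z • P = P)
    (hP' : z' • P = P) : z * z' ∈ S.K P := by
  by_contra hn
  have hfix : (z * z') • P = P := by rw [mul_smul, hP', hP]
  obtain ⟨Q, hQ, hyQ, hy⟩ := S.exists_fixed_nbr hfix hn
  obtain ⟨R, hR, hRQ⟩ := S.exists_other_nbr hQ
  obtain ⟨g, hg, hgR⟩ := S.K_regular hQ hR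
  have hcomm : (z * z') * g = g * (z * z') := by
    rw [mul_assoc, S.inverts_swap hz' hP' hg, ← mul_assoc,
      S.inverts_swap hz hP ((S.K P).inv_mem hg), inv_inv, mul_assoc]
  exact hRQ (S.fixed_nbr_unique hy hfix hR hQ
    (by rw [← hgR, ← mul_smul, hcomm, mul_smul, hyQ]) hyQ)

theorem involution_eq {P Q : X} {z z' : G} (hQ : S.adj P Q) (hz : orderOf z = 2)
    (hz' : orderOf z' = 2) (hP : z • P = P) (hzQ : z • Q = Q) (hP' : z' • P = P)
    (hzQ' : z' • Q = Q) : z = z' := by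
  have h1 := S.K_no_fix (S.mul_mem_K hz hz' hP hP') hQ (by rw [mul_smul, hzQ', hzQ])
  rw [← inv_of_orderOf hz, inv_eq_of_mul_eq_one_right h1]

theorem edge_involution_central {P Q : X} {z x : G} (hQ : S.adj P Q) (hz : orderOf z = 2)
    (hP : z • P = P) (hzQ : z • Q = Q) (hx : x ∈ pairStab G P Q) : x * z = z * x := by
  have h1 : orderOf (x * z * x⁻¹) = 2 :=
    (orderOf_injective (MulAut.conj x).toMonoidHom (MulAut.conj x).injective z).trans hz
  have hf : ∀ y : X, x • y = y → z • y = y → (x * z * x⁻¹) • y = y := fun y e1 e2 => by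
    rw [mul_smul, mul_smul, inv_smul_eq_iff.2 e1.symm, e2, e1]
  exact mul_inv_eq_iff_eq_mul.1
    (S.involution_eq hQ h1 hz (hf P hx.1 hP) (hf Q hx.2 hzQ) hP hzQ)

theorem card_involutions (P : X) :
    Nat.card {τ : G // orderOf τ = 2 ∧ τ • P = P} = S.k := by
  rw [← S.card_nbr P]
  have hex : ∀ τ : {τ : G // orderOf τ = 2 ∧ τ • P = P}, ∃ Q, S.adj P Q ∧ τ.1 • Q = Q :=
    fun τ => S.exists_nbr_of_involution τ.2.1 τ.2.2
  refine Nat.card_eq_of_bijective (fun τ => ⟨(hex τ).choose, (hex τ).choose_spec.1⟩)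
    ⟨fun τ τ' e => ?_, fun Q => ?_⟩
  · have e' : (hex τ).choose = (hex τ').choose := congrArg Subtype.val e
    exact Subtype.ext (S.involution_eq (hex τ).choose_spec.1 τ.2.1 τ'.2.1 τ.2.2
      (hex τ).choose_spec.2 τ'.2.2 (e' ▸ (hex τ').choose_spec.2))
  · obtain ⟨z, hz, hP, hzQ⟩ := S.exists_edge_involution Q.2
    exact ⟨⟨z, hz, hP⟩, Subtype.ext (S.fixed_nbr_unique (ne_one_of_orderOf hz) hP
      (hex ⟨z, hz, hP⟩).choose_spec.1 Q.2 (hex ⟨z, hz, hP⟩).choose_spec.2 hzQ)⟩

/-! ### the class of involutions with a fixed point -/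

/-- an involution with a fixed point -/
def Inv (τ : G) (X : Type*) [MulAction G X] : Prop := orderOf τ = 2 ∧ ∃ x : X, τ • x = x

theorem inv_conj (g τ : G) (h : Inv τ X) : Inv (g * τ * g⁻¹) X := by
  obtain ⟨h1, x, hx⟩ := h
  exact ⟨(orderOf_injective (MulAut.conj g).toMonoidHom (MulAut.conj g).injective τ).trans h1,
    g • x, by rw [mul_smul, mul_smul, inv_smul_smul, hx]⟩

theorem inv_sq (τ : G) (h : Inv τ X) : τ * τ = 1 := sq_of_orderOf h.1

/-- the involution fixing the base edge -/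
noncomputable def z (S : Setup G X) : G := (S.exists_edge_involution S.hab).choose

theorem z_ord : orderOf S.z = 2 := (S.exists_edge_involution S.hab).choose_spec.1

theorem z_a : S.z • S.a = S.a := (S.exists_edge_involution S.hab).choose_spec.2.1

theorem z_b : S.z • S.b = S.b := (S.exists_edge_involution S.hab).choose_spec.2.2

theorem inv_z : Inv S.z X := ⟨S.z_ord, S.a, S.z_a⟩

theorem exists_conj_z {τ : G} (h : Inv τ X) : ∃ g : G, g * S.z * g⁻¹ = τ := by
  obtain ⟨hτ, P, hP⟩ := h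
  obtain ⟨Q, hQ, hτQ⟩ := S.exists_nbr_of_involution hτ hP
  obtain ⟨g, hga, hgb⟩ := S.edge_trans S.hab hQ
  refine ⟨g, S.involution_eq hQ ((inv_conj g S.z S.inv_z).1) hτ ?_ ?_ hP hτQ⟩
  · rw [← hga, mul_smul, mul_smul, inv_smul_smul, S.z_a]
  · rw [← hgb, mul_smul, mul_smul, inv_smul_smul, S.z_b]

/-- the number of fixed points of an involution with a fixed point -/
noncomputable def F (S : Setup G X) : ℕ := Nat.card {x : X // S.z • x = x}

/-- the number of points such an involution moves to a neighbour -/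
noncomputable def N₁ (S : Setup G X) : ℕ := Nat.card {x : X // S.adj x (S.z • x)}

/-- the number of those involutions interchanging the ends of an edge -/
noncomputable def u (S : Setup G X) : ℕ := Nat.card {τ : G // Inv τ X ∧ τ • S.a = S.b}

/-- the number of those involutions interchanging two far points -/
noncomputable def w' (S : Setup G X) : ℕ := Nat.card {τ : G // Inv τ X ∧ τ • S.a = S.c}

theorem inv_F {τ : G} (h : Inv τ X) : Nat.card {x : X // τ • x = x} = S.F := by
  obtain ⟨g, rfl⟩ := S.exists_conj_z h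
  exact (Nat.card_congr ((MulAction.toPerm g).subtypeEquiv fun x => by
    rw [MulAction.toPerm_apply, mul_smul, mul_smul, inv_smul_smul,
      (MulAction.injective g).eq_iff])).symm

theorem inv_N₁ {τ : G} (h : Inv τ X) : Nat.card {x : X // S.adj x (τ • x)} = S.N₁ := by
  obtain ⟨g, rfl⟩ := S.exists_conj_z h
  exact (Nat.card_congr ((MulAction.toPerm g).subtypeEquiv fun x => by
    rw [MulAction.toPerm_apply, mul_smul, mul_smul, inv_smul_smul, S.smul_adj_iff])).symm

theorem F_pos : 0 < S.F := Nat.card_pos_iff.2 ⟨⟨⟨S.a, S.z_a⟩⟩, inferInstance⟩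

theorem card_inv_mul_F : Nat.card {τ : G // Inv τ X} * S.F = Fintype.card X * S.k := by
  rw [← card_pairs_const (fun τ => Inv τ X) (fun τ x => τ • x = x) S.F (fun τ h => S.inv_F h),
    card_fixed (X := X) (fun τ => Inv τ X) (fun g τ h => inv_conj g τ h) (P := S.a)
      (fun x => S.trans S.a x), ← S.card_involutions S.a]
  congr 1
  exact Nat.card_congr
    { toFun := fun τ => ⟨τ.1, τ.2.1.1, τ.2.2⟩
      invFun := fun τ => ⟨τ.1, ⟨τ.2.1, S.a, τ.2.2⟩, τ.2.2⟩
      left_inv := fun _ => rfl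
      right_inv := fun _ => rfl }

theorem N₁_eq : S.N₁ = S.u * S.F := by
  have h1 := S.card_inv_mul_F
  have h2 : Nat.card {τ : G // Inv τ X} * S.N₁ = Fintype.card X * S.k * S.u := by
    rw [← card_pairs_const (fun τ => Inv τ X) (fun τ x => S.adj x (τ • x)) S.N₁
      (fun τ h => S.inv_N₁ h), S.card_moved_adj (fun τ => Inv τ X) (fun g τ h => inv_conj g τ h)]
    rfl
  have hp : 0 < Fintype.card X * S.k := Nat.mul_pos (Fintype.card_pos_iff.2 ⟨S.a⟩) S.k_pos
  refine Nat.eq_of_mul_eq_mul_left hp ?_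
  calc Fintype.card X * S.k * S.N₁ = Nat.card {τ : G // Inv τ X} * S.N₁ * S.F := by rw [← h1]; ring
    _ = Fintype.card X * S.k * (S.u * S.F) := by rw [h2]; ring

theorem moved_far_eq : (Fintype.card X - S.F - S.N₁) * S.k = S.l * S.w' * S.F := by
  have h1 := S.card_inv_mul_F
  have hN : ∀ τ, Inv τ X →
      Nat.card {x : X // S.Far x (τ • x)} = Fintype.card X - S.F - S.N₁ := fun τ h => by
    have := S.card_split τ
    rw [S.inv_F h, S.inv_N₁ h] at this
    omega
  have h2 : Nat.card {τ : G // Inv τ X} * (Fintype.card X - S.F - S.N₁) =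
      Fintype.card X * S.l * S.w' := by
    rw [← card_pairs_const (fun τ => Inv τ X) (fun τ x => S.Far x (τ • x)) _ hN,
      S.card_moved_far (fun τ => Inv τ X) (fun g τ h => inv_conj g τ h)]
    rfl
  refine Nat.eq_of_mul_eq_mul_left (Fintype.card_pos_iff.2 ⟨S.a⟩ : 0 < Fintype.card X) ?_
  calc Fintype.card X * ((Fintype.card X - S.F - S.N₁) * S.k)
      = Nat.card {τ : G // Inv τ X} * (Fintype.card X - S.F - S.N₁) * S.F := by
        rw [mul_left_comm, ← h1]; ring
    _ = Fintype.card X * (S.l * S.w' * S.F) := by rw [h2]; ring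

theorem F_add_N₁_le : S.F + S.N₁ ≤ Fintype.card X := by
  have := S.card_split S.z
  simp only [F, N₁]
  omega

theorem u_le : S.u ≤ S.h :=
  (card_swap_le (fun τ => Inv τ X) inv_sq _ _).trans_eq (S.card_edge_stab S.hab)

theorem w'_le : S.w' ≤ S.m := card_swap_le (fun τ => Inv τ X) inv_sq _ _

/-! ### fixed points come in adjacent pairs -/

theorem even_F : Even S.F := by
  have hne : S.z ≠ 1 := ne_one_of_orderOf S.z_ord
  have hex : ∀ x : {x : X // S.z • x = x}, ∃ Q, S.adj x.1 Q ∧ S.z • Q = Q := fun x =>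
    S.exists_nbr_of_involution S.z_ord x.2
  refine even_card_of_involutive (fun x => ⟨(hex x).choose, (hex x).choose_spec.2⟩)
    (fun x => Subtype.ext ?_)
    (fun x e => S.ne_of_adj (hex x).choose_spec.1 (congrArg Subtype.val e).symm)
  let y : {x : X // S.z • x = x} := ⟨(hex x).choose, (hex x).choose_spec.2⟩
  exact S.fixed_nbr_unique hne y.2 (hex y).choose_spec.1 (S.symm (hex x).choose_spec.1)
    (hex y).choose_spec.2 x.2

/-! ### the point stabiliser of two far points -/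

/-- the kernel part of a stabiliser of two far points -/
noncomputable def d (S : Setup G X) : ℕ := Nat.card ↥(pairStab G S.a S.c ⊓ S.K S.a)

theorem card_ker_stab {P R : X} (h : S.Far P R) :
    Nat.card ↥(pairStab G P R ⊓ S.K P) = S.d := by
  obtain ⟨g, rfl, rfl⟩ := S.far_trans S.hac S.nac h.1 h.2
  refine Nat.card_congr
    { toFun := fun x => ⟨g⁻¹ * x.1 * g, ?_⟩
      invFun := fun x => ⟨g * x.1 * g⁻¹, ?_⟩
      left_inv := fun x => Subtype.ext (by group)
      right_inv := fun x => Subtype.ext (by group) }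
  · obtain ⟨h12, h3⟩ := Subgroup.mem_inf.1 x.2
    obtain ⟨h1, h2⟩ := mem_pairStab.1 h12
    refine Subgroup.mem_inf.2 ⟨mem_pairStab.2 ⟨?_, ?_⟩, ?_⟩
    · rw [mul_smul, mul_smul, h1, inv_smul_smul]
    · rw [mul_smul, mul_smul, h2, inv_smul_smul]
    · simpa using S.conj_mem_K (u := g⁻¹) h3
  · obtain ⟨h12, h3⟩ := Subgroup.mem_inf.1 x.2
    obtain ⟨h1, h2⟩ := mem_pairStab.1 h12
    refine Subgroup.mem_inf.2 ⟨mem_pairStab.2 ⟨?_, ?_⟩, S.conj_mem_K h3⟩
    · rw [mul_smul, mul_smul, inv_smul_smul, h1]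
    · rw [mul_smul, mul_smul, inv_smul_smul, h2]

theorem d_pos : 0 < S.d := Nat.card_pos

theorem d_dvd_k : S.d ∣ S.k := by
  rw [← S.card_K S.a]; exact Subgroup.card_dvd_of_le inf_le_right

theorem d_dvd_m : S.d ∣ S.m := Subgroup.card_dvd_of_le inf_le_left

theorem d_odd : Odd S.d := S.k_odd.of_dvd_nat S.d_dvd_k

/-- far points in one orbit of the kernel -/
def SameOrbit (S : Setup G X) (P R x : X) : Prop := ∃ g ∈ S.K P, g • R = x

/-- the fibres of the orbit map have `d` elements -/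
theorem card_orbit_pre {P R : X} (h : S.Far P R) (p : X → Prop) :
    Nat.card {g : S.K P // p ((g : G) • R)} = S.d * Nat.card {x : X // S.SameOrbit P R x ∧ p x} := by
  classical
  have := Fintype.ofFinite {x : X // S.SameOrbit P R x ∧ p x}
  let π : {g : S.K P // p ((g : G) • R)} → {x : X // S.SameOrbit P R x ∧ p x} :=
    fun g => ⟨(g.1 : G) • R, ⟨g.1.1, g.1.2, rfl⟩, g.2⟩
  rw [← Nat.card_congr (Equiv.sigmaFiberEquiv π), Nat.card_sigma,
    Finset.sum_const_nat (m := S.d), Finset.card_univ, Nat.card_eq_fintype_card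
      (α := {x : X // S.SameOrbit P R x ∧ p x}), mul_comm]
  rintro ⟨x, ⟨g₀, hg₀, rfl⟩, hx⟩ -
  rw [← S.card_ker_stab h]
  refine Nat.card_congr
    { toFun := fun g => ⟨g₀⁻¹ * g.1.1.1, ?_⟩
      invFun := fun y => ⟨⟨⟨g₀ * y.1, (S.K P).mul_mem hg₀ (Subgroup.mem_inf.1 y.2).2⟩, ?_⟩, ?_⟩
      left_inv := fun g => Subtype.ext (Subtype.ext (Subtype.ext (by simp)))
      right_inv := fun y => Subtype.ext (by simp) }
  · have e : (g.1.1 : G) • R = g₀ • R := congrArg Subtype.val g.2
    refine Subgroup.mem_inf.2 ⟨mem_pairStab.2 ⟨?_, ?_⟩, (S.K P).mul_mem ((S.K P).inv_mem hg₀) g.1.1.2⟩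
    · rw [mul_smul, S.K_fix g.1.1.2, inv_smul_eq_iff, S.K_fix hg₀]
    · rw [mul_smul, e, inv_smul_smul]
  · show p ((g₀ * y.1) • R)
    rw [mul_smul, (mem_pairStab.1 (Subgroup.mem_inf.1 y.2).1).2]
    exact hx
  · exact Subtype.ext (by
      show (g₀ * y.1) • R = g₀ • R
      rw [mul_smul, (mem_pairStab.1 (Subgroup.mem_inf.1 y.2).1).2])

/-- the action of the kernel on the far points -/
@[instance_reducible] def farAction (S : Setup G X) (P : X) :
    MulAction (S.K P) {x : X // S.Far P x} where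
  smul g x := ⟨(g : G) • x.1, S.far_smul_of_fix (S.K_fix g.2) x.2⟩
  one_smul x := Subtype.ext (one_smul G x.1)
  mul_smul g g' x := Subtype.ext (mul_smul (g : G) (g' : G) x.1)

/-- the number of orbits of the kernel on the far points -/
noncomputable def q (S : Setup G X) : ℕ :=
  letI := S.farAction S.a
  Nat.card (orbitRel.Quotient (S.K S.a) {x : X // S.Far S.a x})

theorem q_mul_k : S.q * S.k = S.d * S.l := by
  let := S.farAction S.a
  rw [← S.card_K S.a, ← S.card_far S.a]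
  refine orbits_mul_card S.d fun x => ?_
  rw [← S.card_ker_stab x.2]
  exact Nat.card_congr
    { toFun := fun g => ⟨g.1.1, Subgroup.mem_inf.2
        ⟨mem_pairStab.2 ⟨S.K_fix g.1.2, congrArg Subtype.val g.2⟩, g.1.2⟩⟩
      invFun := fun g => ⟨⟨g.1, (Subgroup.mem_inf.1 g.2).2⟩,
        Subtype.ext (mem_pairStab.1 (Subgroup.mem_inf.1 g.2).1).2⟩
      left_inv := fun _ => rfl
      right_inv := fun _ => rfl }

/-- the index of the kernel part -/
noncomputable def c' (S : Setup G X) : ℕ := S.m / S.d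

theorem m_eq : S.m = S.d * S.c' := (Nat.mul_div_cancel' S.d_dvd_m).symm

theorem q_mul_c' : S.q * S.c' = S.h := by
  refine Nat.eq_of_mul_eq_mul_left (Nat.mul_pos S.d_pos S.k_pos) ?_
  calc S.d * S.k * (S.q * S.c') = S.q * S.k * S.m := by rw [S.m_eq]; ring
    _ = S.d * (S.l * S.m) := by rw [S.q_mul_k]; ring
    _ = S.d * S.k * S.h := by rw [S.l_mul_m]; ring

theorem q_pos : 0 < S.q := by
  have h1 := S.q_mul_k
  have h2 := S.d_pos
  have h3 := S.l_pos
  rcases Nat.eq_zero_or_pos S.q with h | h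
  · rw [h, Nat.zero_mul] at h1
    have := Nat.mul_pos h2 h3
    omega
  · exact h

theorem c'_pos : 0 < S.c' := by
  rcases Nat.eq_zero_or_pos S.c' with h | h
  · have := S.q_mul_c'
    rw [h, Nat.mul_zero] at this
    have := S.one_lt_h
    omega
  · exact h

/-- involutions fixing two far points -/
theorem card_far_involutions {P R : X} (h : S.Far P R) :
    Nat.card {τ : G // (orderOf τ = 2 ∧ τ • P = P) ∧ τ • R = R} =
      if Even S.c' then S.d else 0 := by
  have hM : Nat.card (pairStab G P R) = S.d * S.c' := (S.card_far_stab h.1 h.2).trans S.m_eq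
  split_ifs with hc
  · have : Fact (Nat.Prime 2) := ⟨Nat.prime_two⟩
    obtain ⟨z₀, hz₀⟩ := exists_prime_orderOf_dvd_card' (G := pairStab G P R) 2
      (by rw [hM]; exact (even_iff_two_dvd.1 hc).mul_left _)
    have hz : orderOf (z₀ : G) = 2 := (Subgroup.orderOf_coe z₀).trans hz₀
    obtain ⟨hzP, hzR⟩ := mem_pairStab.1 z₀.2
    rw [← S.card_ker_stab h]
    refine Nat.card_congr
      { toFun := fun τ => ⟨(z₀ : G) * τ.1, Subgroup.mem_inf.2
          ⟨(pairStab G P R).mul_mem z₀.2 (mem_pairStab.2 ⟨τ.2.1.2, τ.2.2⟩),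
           S.mul_mem_K hz τ.2.1.1 hzP τ.2.1.2⟩⟩
        invFun := fun g => ⟨(z₀ : G) * g.1, ⟨?_, ?_⟩, ?_⟩
        left_inv := fun τ => Subtype.ext (by simp [← mul_assoc, sq_of_orderOf hz])
        right_inv := fun g => Subtype.ext (by simp [← mul_assoc, sq_of_orderOf hz]) }
    · obtain ⟨h12, h3⟩ := Subgroup.mem_inf.1 g.2
      refine orderOf_eq_prime ?_ fun e => ?_
      · rw [pow_two, ← mul_assoc, S.inverts_swap hz hzP h3, mul_assoc _ (z₀ : G) (z₀ : G),
          sq_of_orderOf hz, mul_one, inv_mul_cancel]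
      · refine S.involution_not_mem_K hz (P := P) ?_
        rw [show (z₀ : G) = (g.1)⁻¹ from eq_inv_of_mul_eq_one_left e]
        exact (S.K P).inv_mem h3
    · rw [mul_smul, (mem_pairStab.1 (Subgroup.mem_inf.1 g.2).1).1, hzP]
    · rw [mul_smul, (mem_pairStab.1 (Subgroup.mem_inf.1 g.2).1).2, hzR]
  · rw [Nat.card_eq_zero]
    refine Or.inl ⟨fun τ => hc ?_⟩
    have h2 : 2 ∣ S.d * S.c' := by
      rw [← hM, ← τ.2.1.1]
      exact Subgroup.orderOf_dvd_natCard _ (mem_pairStab.2 ⟨τ.2.1.2, τ.2.2⟩)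
    exact even_iff_two_dvd.2
      ((Nat.Coprime.dvd_mul_left (Nat.coprime_two_left.2 S.d_odd)).1 h2)

theorem far_fixed_count {P : X} {τ : G} (hτ : orderOf τ = 2) (hP : τ • P = P) :
    Nat.card {x : X // S.Far P x ∧ τ • x = x} + 2 = S.F := by
  classical
  obtain ⟨Q, hQ, hτQ⟩ := S.exists_nbr_of_involution hτ hP
  rw [← S.inv_F (τ := τ) ⟨hτ, P, hP⟩]
  simp only [Nat.card_eq_fintype_card, Fintype.card_subtype]
  have e : (Finset.univ.filter fun x => τ • x = x) =
      (Finset.univ.filter fun x => S.Far P x ∧ τ • x = x) ∪ {P, Q} := by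
    ext x
    simp only [Finset.mem_union, Finset.mem_filter, Finset.mem_univ, true_and, Finset.mem_insert,
      Finset.mem_singleton]
    constructor
    · intro hx
      by_cases h1 : x = P
      · exact Or.inr (Or.inl h1)
      · by_cases h2 : S.adj P x
        · exact Or.inr (Or.inr (S.fixed_nbr_unique (ne_one_of_orderOf hτ) hP h2 hQ hx hτQ))
        · exact Or.inl ⟨⟨Ne.symm h1, h2⟩, hx⟩
    · rintro (⟨-, h⟩ | rfl | rfl)
      · exact h
      · exact hP
      · exact hτQ
  rw [e, Finset.card_union_of_disjoint, Finset.card_pair (S.ne_of_adj hQ)]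
  rw [Finset.disjoint_left]
  intro x hx hx'
  simp only [Finset.mem_filter, Finset.mem_univ, true_and] at hx
  simp only [Finset.mem_insert, Finset.mem_singleton] at hx'
  rcases hx' with rfl | rfl
  · exact hx.1.1 rfl
  · exact hx.1.2 hQ

theorem F_eq : S.F = if Even S.c' then S.q + 2 else 2 := by
  classical
  have h2 : 2 ≤ S.F := by have := S.far_fixed_count S.z_ord S.z_a; omega
  let t : G → Prop := fun τ => orderOf τ = 2 ∧ τ • S.a = S.a
  have e1 : Nat.card {p : G × X // t p.1 ∧ (S.Far S.a p.2 ∧ p.1 • p.2 = p.2)} =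
      S.k * (S.F - 2) := by
    rw [card_pairs_const t (fun τ x => S.Far S.a x ∧ τ • x = x) (S.F - 2)
      (fun τ h => by have := S.far_fixed_count h.1 h.2; omega), S.card_involutions S.a]
  have e2 : Nat.card {p : G × X // t p.1 ∧ (S.Far S.a p.2 ∧ p.1 • p.2 = p.2)} =
      S.l * (if Even S.c' then S.d else 0) := by
    have := Fintype.ofFinite {x : X // S.Far S.a x}
    have e : {p : G × X // t p.1 ∧ (S.Far S.a p.2 ∧ p.1 • p.2 = p.2)} ≃
        Σ x : {x : X // S.Far S.a x}, {τ : G // (orderOf τ = 2 ∧ τ • S.a = S.a) ∧ τ • x.1 = x.1} :=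
      { toFun := fun p => ⟨⟨p.1.2, p.2.2.1⟩, p.1.1, p.2.1, p.2.2.2⟩
        invFun := fun s => ⟨(s.2.1, s.1.1), s.2.2.1, s.1.2, s.2.2.2⟩
        left_inv := fun _ => rfl
        right_inv := fun _ => rfl }
    rw [Nat.card_congr e, Nat.card_sigma,
      Finset.sum_const_nat (fun x _ => S.card_far_involutions x.2), Finset.card_univ,
      ← Nat.card_eq_fintype_card, show Nat.card {x : X // S.Far S.a x} = S.l from S.card_far S.a]
  rw [e1] at e2
  split_ifs at e2 ⊢ with hc
  · have h3 : S.k * (S.F - 2) = S.k * S.q := by rw [e2, mul_comm S.l, ← S.q_mul_k, mul_comm]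
    have := Nat.eq_of_mul_eq_mul_left S.k_pos h3
    omega
  · rw [Nat.mul_zero] at e2
    rcases Nat.mul_eq_zero.1 e2 with h | h
    · have := S.k_pos; omega
    · omega

theorem even_q : Even S.q := by
  by_cases hc : Even S.c'
  · have := S.even_F
    rw [S.F_eq, if_pos hc] at this
    exact (Nat.even_add.1 this).2 even_two
  · exact (Nat.even_mul.1 (S.q_mul_c' ▸ S.even_h)).resolve_right hc

/-! ### neighbours inside an orbit of the kernel -/

/-- the number of neighbours of a point inside its orbit under the kernel at a far point -/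
noncomputable def Q₁ (S : Setup G X) : ℕ :=
  Nat.card {x : X // S.SameOrbit S.a S.c x ∧ S.adj S.c x}

theorem card_orbit_nbr {P R : X} (h : S.Far P R) :
    Nat.card {x : X // S.SameOrbit P R x ∧ S.adj R x} = S.Q₁ := by
  obtain ⟨g, rfl, rfl⟩ := S.far_trans S.hac S.nac h.1 h.2
  refine (Nat.card_congr ((MulAction.toPerm g).subtypeEquiv fun x => ?_)).symm
  rw [MulAction.toPerm_apply, S.smul_adj_iff]
  refine and_congr_left fun _ => ⟨?_, ?_⟩
  · rintro ⟨v, hv, rfl⟩
    exact ⟨g * v * g⁻¹, S.conj_mem_K hv, by rw [mul_smul, mul_smul, inv_smul_smul]⟩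
  · rintro ⟨v, hv, e⟩
    refine ⟨g⁻¹ * v * g, by simpa using S.conj_mem_K (u := g⁻¹) hv, ?_⟩
    rw [mul_smul, mul_smul, e, inv_smul_smul]

theorem fix_orbit {P R : X} {g v : G} (hg : g ∈ S.K P) (hv : v ∈ S.K P) (hgR : g • R = R) :
    g • (v • R) = v • R := by
  rw [← mul_smul, S.K_comm hg hv, mul_smul, hgR]

theorem Q₁_eq_zero (hd : 1 < S.d) : S.Q₁ = 0 := by
  rw [Q₁, Nat.card_eq_zero]
  refine Or.inl ⟨fun ⟨x, ⟨v, hv, hvx⟩, hx⟩ => ?_⟩
  obtain ⟨y, hy, hy1⟩ : ∃ y ∈ pairStab G S.a S.c ⊓ S.K S.a, y ≠ 1 := by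
    refine (Subgroup.bot_or_exists_ne_one _).resolve_left fun e => ?_
    rw [d, e, Subgroup.card_bot] at hd
    omega
  obtain ⟨hy12, hyK⟩ := Subgroup.mem_inf.1 hy
  have hyc := (mem_pairStab.1 hy12).2
  refine hy1 (S.K_no_fix (S.mem_K_of_fix hyK hyc) hx ?_)
  rw [← hvx]
  exact S.fix_orbit hyK hv hyc

/-- Each orbit of the kernel has exactly one fixed point of an involution. -/
theorem fixed_orbit_unique {P R R' : X} {τ : G} (hτ : orderOf τ = 2) (hP : τ • P = P)
    (hR : τ • R = R) (h : S.SameOrbit P R R') (hR' : τ • R' = R') : R' = R := by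
  obtain ⟨v, hv, rfl⟩ := h
  have h1 : v⁻¹ • R = v • R := by
    conv_rhs => rw [← hR']
    rw [← mul_smul, S.inverts_swap hτ hP hv, mul_smul, hR]
  have h2 : (v * v) • R = R := by rw [mul_smul, ← h1, smul_inv_smul]
  obtain ⟨r, hr⟩ := S.k_odd
  have h3 : v ^ S.k = 1 := by
    have : (⟨v, hv⟩ : S.K P) ^ Nat.card (S.K P) = 1 := pow_card_eq_one'
    rw [S.card_K] at this
    exact congrArg Subtype.val this
  have h5 : ((v * v) ^ r) • R = R := by
    clear hr
    induction r with
    | zero => simp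
    | succ r ih => rw [pow_succ, mul_smul, h2, ih]
  calc v • R = v • ((v * v) ^ r • R) := by rw [h5]
    _ = R := by rw [← mul_smul, ← pow_two, ← pow_mul, ← pow_succ', ← hr, h3, one_smul]

/-- The fixed far points of an involution represent all orbits when the index is even. -/
theorem exists_rep (hc : Even S.c') {x : X} (hx : S.Far S.a x) :
    ∃ R, S.Far S.a R ∧ S.z • R = R ∧ S.SameOrbit S.a R x := by
  let := S.farAction S.a
  let π : {R : X // S.Far S.a R ∧ S.z • R = R} →
      orbitRel.Quotient (S.K S.a) {x : X // S.Far S.a x} := fun R => Quotient.mk'' ⟨R.1, R.2.1⟩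
  have hinj : Function.Injective π := fun R R' e => by
    obtain ⟨v, hv⟩ := Quotient.eq''.1 e
    exact Subtype.ext (S.fixed_orbit_unique S.z_ord S.z_a R'.2.2
      ⟨v, v.2, congrArg Subtype.val hv⟩ R.2.2)
  have hcard : Nat.card {R : X // S.Far S.a R ∧ S.z • R = R} = S.q := by
    have h1 := S.far_fixed_count S.z_ord S.z_a
    have h2 := S.F_eq
    rw [if_pos hc] at h2
    omega
  obtain ⟨R, hR⟩ := ((Nat.bijective_iff_injective_and_card π).2 ⟨hinj, hcard⟩).2
    (Quotient.mk'' ⟨x, hx⟩)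
  obtain ⟨v, hv⟩ := Quotient.eq''.1 hR.symm
  exact ⟨R.1, R.2.1, R.2.2, v, v.2, congrArg Subtype.val hv⟩

theorem card_K_adj {P Q : X} (hQ : S.adj P Q) :
    Nat.card {g : S.K P // S.adj Q ((g : G) • Q)} = S.lam := by
  rw [← S.card_common_adj hQ]
  refine Nat.card_eq_of_bijective (fun g => ⟨(g.1 : G) • Q, S.K_adj g.1.2 hQ, g.2⟩)
    ⟨fun g g' e => ?_, fun x => ?_⟩
  · have e' : (g.1 : G) • Q = (g'.1 : G) • Q := congrArg Subtype.val e
    refine Subtype.ext (Subtype.ext (inv_mul_eq_one.1 (S.K_no_fix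
      ((S.K P).mul_mem ((S.K P).inv_mem g.1.2) g'.1.2) hQ ?_)))
    rw [mul_smul, ← e', inv_smul_smul]
  · obtain ⟨g, hg, hgx⟩ := S.K_regular hQ x.2.1
    exact ⟨⟨⟨g, hg⟩, by rw [hgx]; exact x.2.2⟩, Subtype.ext hgx⟩

theorem card_moved_translate {P R : X} {τ : G} (hτ : orderOf τ = 2) (hP : τ • P = P)
    (hR : τ • R = R) :
    Nat.card {g : S.K P // S.adj ((g : G) • R) (τ • ((g : G) • R))} =
      Nat.card {g : S.K P // S.adj R ((g : G) • R)} := by
  have hinjK : Function.Injective (fun g : S.K P => (g * g)⁻¹) := fun g g' e => by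
    have e' : g * g = g' * g' := inv_injective e
    obtain ⟨r, hr⟩ := S.k_odd
    have hp : ∀ x : S.K P, x = (x * x) ^ (r + 1) := fun x => by
      rw [← pow_two, ← pow_mul, show 2 * (r + 1) = S.k + 1 by omega, pow_succ,
        ← S.card_K P, pow_card_eq_one', one_mul]
    rw [hp g, hp g', e']
  refine Nat.card_congr ((Equiv.ofBijective _ (Finite.injective_iff_bijective.1 hinjK)).subtypeEquiv
    fun g => ?_)
  show S.adj ((g : G) • R) (τ • ((g : G) • R)) ↔ S.adj R ((((g * g)⁻¹ : S.K P) : G) • R)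
  rw [show τ • ((g : G) • R) = (g : G)⁻¹ • R by
    rw [← mul_smul, S.inverts_swap hτ hP g.2, mul_smul, hR]]
  rw [← S.smul_adj_iff (g : G)⁻¹, inv_smul_smul, Subgroup.coe_inv, Subgroup.coe_mul, mul_inv_rev,
    mul_smul]

theorem N₁_formula (hc : Even S.c') : S.N₁ = S.lam + S.q * S.Q₁ := by
  classical
  have hnot : ¬ S.adj S.a (S.z • S.a) := by rw [S.z_a]; exact S.irrefl _
  let A₁ : Type _ := {x : X // S.adj S.a x ∧ S.adj x (S.z • x)}
  let A₂ : Type _ := {x : X // S.Far S.a x ∧ S.adj x (S.z • x)}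
  have e0 : S.N₁ = Nat.card A₁ + Nat.card A₂ := by
    rw [← Nat.card_sum]
    refine Nat.card_congr
      { toFun := fun x => if h : S.adj S.a x.1 then Sum.inl ⟨x.1, h, x.2⟩
          else Sum.inr ⟨x.1, ⟨fun e => hnot (by rw [e]; exact x.2), h⟩, x.2⟩
        invFun := fun s => s.elim (fun x => ⟨x.1, x.2.2⟩) (fun x => ⟨x.1, x.2.2⟩)
        left_inv := fun x => by by_cases h : S.adj S.a x.1 <;> simp [h]
        right_inv := fun s => by
          rcases s with x | x
          · simp [x.2.1]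
          · simp [x.2.1.2] }
  have e1 : Nat.card A₁ = S.lam := by
    rw [← S.card_K_adj S.hab, ← S.card_moved_translate S.z_ord S.z_a S.z_b]
    refine (Nat.card_eq_of_bijective
      (fun g => (⟨(g.1 : G) • S.b, S.K_adj g.1.2 S.hab, g.2⟩ : A₁)) ⟨fun g g' e => ?_, fun x => ?_⟩).symm
    · have e' : (g.1 : G) • S.b = (g'.1 : G) • S.b := congrArg Subtype.val e
      refine Subtype.ext (Subtype.ext (inv_mul_eq_one.1 (S.K_no_fix
        ((S.K S.a).mul_mem ((S.K S.a).inv_mem g.1.2) g'.1.2) S.hab ?_)))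
      rw [mul_smul, ← e', inv_smul_smul]
    · obtain ⟨g, hg, hgx⟩ := S.K_regular S.hab x.2.1
      exact ⟨⟨⟨g, hg⟩, by rw [hgx]; exact x.2.2⟩, Subtype.ext hgx⟩
  have e2 : Nat.card A₂ = S.q * S.Q₁ := by
    let Rs : Type _ := {R : X // S.Far S.a R ∧ S.z • R = R}
    have hRs : Nat.card Rs = S.q := by
      have h1 := S.far_fixed_count S.z_ord S.z_a
      have h2 := S.F_eq
      rw [if_pos hc] at h2
      show Nat.card {R : X // S.Far S.a R ∧ S.z • R = R} = S.q
      omega
    have := Fintype.ofFinite Rs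
    have e : A₂ ≃ Σ R : Rs, {x : X // S.SameOrbit S.a R.1 x ∧ S.adj x (S.z • x)} :=
      (Equiv.ofBijective
        (fun s : Σ R : Rs, {x : X // S.SameOrbit S.a R.1 x ∧ S.adj x (S.z • x)} =>
          (⟨s.2.1, by
            obtain ⟨v, hv, hvx⟩ := s.2.2.1
            exact hvx ▸ S.far_smul_of_fix (S.K_fix hv) s.1.2.1, s.2.2.2⟩ : A₂))
        ⟨fun s s' e => by
          have e' : s.2.1 = s'.2.1 := congrArg Subtype.val e
          obtain ⟨v, hv, hvx⟩ := s.2.2.1
          obtain ⟨v', hv', hvx'⟩ := s'.2.2.1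
          have hR : s.1 = s'.1 := Subtype.ext (S.fixed_orbit_unique S.z_ord S.z_a s'.1.2.2
            ⟨v⁻¹ * v', (S.K S.a).mul_mem ((S.K S.a).inv_mem hv) hv', by
              rw [mul_smul, hvx', ← e', ← hvx, inv_smul_smul]⟩ s.1.2.2)
          obtain ⟨R, x⟩ := s
          obtain ⟨R', x'⟩ := s'
          obtain rfl : R = R' := hR
          exact congrArg (Sigma.mk R) (Subtype.ext e'),
        fun x => by
          obtain ⟨R, h1, h2, h3⟩ := S.exists_rep hc x.2.1
          exact ⟨⟨⟨R, h1, h2⟩, x.1, h3, x.2.2⟩, rfl⟩⟩).symm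
    rw [Nat.card_congr e, Nat.card_sigma, Finset.sum_const_nat (m := S.Q₁), Finset.card_univ,
      ← Nat.card_eq_fintype_card, hRs]
    intro R _
    refine Nat.eq_of_mul_eq_mul_left S.d_pos ?_
    rw [← S.card_orbit_nbr R.2.1, ← S.card_orbit_pre R.2.1 (fun x => S.adj x (S.z • x)),
      ← S.card_orbit_pre R.2.1 (fun x => S.adj R.1 x)]
    exact S.card_moved_translate S.z_ord S.z_a R.2.2
  rw [e0, e1, e2]

end Cfsg.Agent.Tsuzuku.Setup
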