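import Mathlib
import Cfsg.Agent.Lib.Tsuzuku.Even

/-!
Tsuzuku's theorem: parameters of the graph and divisibility conditions.
-/

set_option autoImplicit false
set_option linter.unusedSectionVars false

open MulAction

namespace Cfsg.Agent.Tsuzuku.Setup

variable {G X : Type*} [Group G] [MulAction G X] [Finite G] [Fintype X] (S : Setup G X)

/-- the number of neighbours of a neighbour which are far from a point -/
noncomputable def out (S : Setup G X) : ℕ := Nat.card {y : X // S.adj S.b y ∧ S.Far S.a y}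

theorem out_add : S.out + S.lam + 1 = S.k := by
  classical
  rw [← S.card_nbr S.b, out, lam]
  simp only [Nat.card_eq_fintype_card, Fintype.card_subtype]
  have e : (Finset.univ.filter fun y => S.adj S.b y) =
      insert S.a ((Finset.univ.filter fun y => S.adj S.b y ∧ S.Far S.a y) ∪
        (Finset.univ.filter fun y => S.adj S.a y ∧ S.adj S.b y)) := by
    ext y
    simp only [Finset.mem_insert, Finset.mem_union, Finset.mem_filter, Finset.mem_univ, true_and]
    constructor
    · intro hy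
      by_cases h1 : y = S.a
      · exact Or.inl h1
      · by_cases h2 : S.adj S.a y
        · exact Or.inr (Or.inr ⟨h2, hy⟩)
        · exact Or.inr (Or.inl ⟨hy, Ne.symm h1, h2⟩)
    · rintro (rfl | ⟨h, -⟩ | ⟨-, h⟩)
      · exact S.symm S.hab
      · exact h
      · exact h
  rw [e, Finset.card_insert_of_notMem, Finset.card_union_of_disjoint]
  · rw [Finset.disjoint_left]
    intro y hy hy'
    simp only [Finset.mem_filter, Finset.mem_univ, true_and] at hy hy'
    exact hy.2.2 hy'.1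
  · simp only [Finset.mem_union, Finset.mem_filter, Finset.mem_univ, true_and, not_or]
    exact ⟨fun h => h.2.1 rfl, fun h => S.irrefl _ h.1⟩

theorem k_mul_out : S.k * S.out = S.l * S.mu := by
  classical
  have e : (Σ x : {x // S.adj S.a x}, {y : X // S.adj x.1 y ∧ S.Far S.a y}) ≃
      Σ y : {y : X // S.Far S.a y}, {x : X // S.adj S.a x ∧ S.adj y.1 x} :=
    { toFun := fun p => ⟨⟨p.2.1, p.2.2.2⟩, p.1.1, p.1.2, S.symm p.2.2.1⟩
      invFun := fun p => ⟨⟨p.2.1, p.2.2.1⟩, p.1.1, S.symm p.2.2.2, p.1.2⟩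
      left_inv := fun _ => rfl
      right_inv := fun _ => rfl }
  have := Fintype.ofFinite {x // S.adj S.a x}
  have := Fintype.ofFinite {y : X // S.Far S.a y}
  have h1 := Nat.card_congr e
  rw [Nat.card_sigma, Nat.card_sigma, Finset.sum_const_nat (m := S.out),
    Finset.sum_const_nat (m := S.mu), Finset.card_univ, Finset.card_univ,
    ← Nat.card_eq_fintype_card, ← Nat.card_eq_fintype_card,
    show Nat.card {y : X // S.Far S.a y} = S.l from S.card_far S.a] at h1
  · exact h1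
  · intro y _
    exact S.card_common_far y.2.1 y.2.2
  · intro x _
    obtain ⟨g, h1, h2⟩ := S.edge_trans S.hab x.2
    refine (Nat.card_congr ((MulAction.toPerm g).subtypeEquiv fun y => ?_)).symm
    rw [MulAction.toPerm_apply, ← h2, S.smul_adj_iff]
    refine and_congr_right fun _ => ⟨fun h => S.far_smul_of_fix h1 h, fun h => ?_⟩
    simpa using S.far_smul_of_fix (inv_smul_eq_iff.2 h1.symm) h

theorem out_pos : 0 < S.out := by
  rcases Nat.eq_zero_or_pos S.out with h | h
  · have h1 := S.k_mul_out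
    rw [h, Nat.mul_zero] at h1
    have := Nat.mul_pos S.l_pos S.mu_pos
    omega
  · exact h

theorem h_dvd_lam : S.h ∣ S.lam := by
  rw [lam, ← S.card_edge_stab S.hab]
  refine subgroup_card_dvd_of_free (pairStab G S.a S.b) (fun y => S.adj S.a y ∧ S.adj S.b y)
    (fun u hu y hy => ⟨S.adj_smul_of_fix hu.1 hy.1, S.adj_smul_of_fix hu.2 hy.2⟩)
    (fun u hu y hy e => by_contra fun hu1 => S.no_third_fixed hu1 hu.1 hu.2 S.hab hy.1
      (fun h => S.irrefl y (h.symm ▸ hy.2 : S.adj y y)) e)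

theorem h_dvd_out : S.h ∣ S.out := by
  have h1 := S.h_dvd_pred
  have h2 := S.out_add
  rw [show S.k - 1 = S.out + S.lam by omega] at h1
  exact (Nat.dvd_add_left S.h_dvd_lam).1 h1

/-- the parameter `e`: `out = h e` and `mu = m e` -/
noncomputable def e (S : Setup G X) : ℕ := S.out / S.h

theorem out_eq : S.out = S.h * S.e := (Nat.mul_div_cancel' S.h_dvd_out).symm

theorem e_pos : 0 < S.e := by
  rcases Nat.eq_zero_or_pos S.e with h | h
  · have := S.out_eq; rw [h, Nat.mul_zero] at this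
    have := S.out_pos
    omega
  · exact h

theorem mu_eq : S.mu = S.m * S.e := by
  refine Nat.eq_of_mul_eq_mul_left S.l_pos ?_
  rw [← S.k_mul_out, S.out_eq, ← mul_assoc, ← mul_assoc, S.l_mul_m]

/-- the parameter `f`: `lam = h f` -/
noncomputable def f (S : Setup G X) : ℕ := S.lam / S.h

theorem lam_eq : S.lam = S.h * S.f := (Nat.mul_div_cancel' S.h_dvd_lam).symm

theorem k_eq : S.k = 1 + S.h * (S.e + S.f) := by
  have := S.out_add
  rw [S.out_eq, S.lam_eq] at this
  rw [Nat.mul_add]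
  omega

theorem fix_nbr_of_comm {P Q : X} {x g : G} (hx : x ≠ 1) (hP : x • P = P) (hQ : S.adj P Q)
    (hxQ : x • Q = Q) (hg : g ∈ S.K P) (hcomm : x * g = g * x) : g = 1 :=
  S.K_no_fix hg hQ (S.fixed_nbr_unique hx hP (S.K_adj hg hQ) hQ
    (by rw [← mul_smul, hcomm, mul_smul, hxQ]) hxQ)

/-- The index divides `d - 1`. -/
theorem c'_dvd_pred : S.c' ∣ S.d - 1 := by
  classical
  let M := pairStab G S.a S.c
  let D := pairStab G S.a S.c ⊓ S.K S.a
  have hDconj : ∀ x : M, ∀ y : {y : D // y ≠ 1}, (x : G) * y.1.1 * (x : G)⁻¹ ∈ D := fun x y => by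
    obtain ⟨h1, h2⟩ := Subgroup.mem_inf.1 y.1.2
    exact Subgroup.mem_inf.2
      ⟨M.mul_mem (M.mul_mem x.2 h1) (M.inv_mem x.2), S.conj_mem_K_fix x.2.1 h2⟩
  let act : MulAction M {y : D // y ≠ 1} :=
    { smul := fun x y => ⟨⟨(x : G) * y.1.1 * (x : G)⁻¹, hDconj x y⟩, fun e => y.2 (Subtype.ext
        (conj_eq_one_iff.1 (congrArg Subtype.val e)))⟩
      one_smul := fun y => Subtype.ext (Subtype.ext (by
        show (1 : G) * y.1.1 * (1 : G)⁻¹ = y.1.1
        group))
      mul_smul := fun x x' y => Subtype.ext (Subtype.ext (by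
        show (x : G) * (x' : G) * y.1.1 * ((x : G) * (x' : G))⁻¹ =
          (x : G) * ((x' : G) * y.1.1 * (x' : G)⁻¹) * (x : G)⁻¹
        group)) }
  have hstab : ∀ y : {y : D // y ≠ 1}, Nat.card (stabilizer M y) = S.d := by
    intro y
    have hyK : (y.1 : G) ∈ S.K S.a := (Subgroup.mem_inf.1 y.1.2).2
    refine Nat.card_congr
      { toFun := fun x => ⟨x.1.1, Subgroup.mem_inf.2 ⟨x.1.2, ?_⟩⟩
        invFun := fun x => ⟨⟨x.1, (Subgroup.mem_inf.1 x.2).1⟩, Subtype.ext (Subtype.ext ?_)⟩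
        left_inv := fun _ => rfl
        right_inv := fun _ => rfl }
    · by_contra hn
      obtain ⟨B, hB, hxB, hx1⟩ := S.exists_fixed_nbr x.1.2.1 hn
      have e : (x.1 : G) * (y.1 : G) * (x.1 : G)⁻¹ = (y.1 : G) :=
        congrArg (fun q : {y : D // y ≠ 1} => (q.1 : G)) x.2
      exact y.2 (Subtype.ext (S.fix_nbr_of_comm hx1 x.1.2.1 hB hxB hyK
        (mul_inv_eq_iff_eq_mul.1 e)))
    · show x.1 * (y.1 : G) * x.1⁻¹ = (y.1 : G)
      rw [S.K_comm (Subgroup.mem_inf.1 x.2).2 hyK, mul_inv_cancel_right]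
  have h1 := orbits_mul_card S.d hstab
  have h2 : Nat.card {y : D // y ≠ 1} = S.d - 1 := by
    have := Fintype.ofFinite D
    rw [d, Nat.card_eq_fintype_card, Nat.card_eq_fintype_card, Fintype.card_subtype_compl,
      Fintype.card_subtype_eq]
  rw [h2, show Nat.card M = S.d * S.c' from S.m_eq] at h1
  exact ⟨Nat.card (orbitRel.Quotient M {y : D // y ≠ 1}),
    Nat.eq_of_mul_eq_mul_left S.d_pos (by rw [← h1]; ring)⟩

/-- `d²` divides `k` when the index is not one. -/
theorem sq_d_dvd_k (hc : 1 < S.c') : S.d * S.d ∣ S.k := by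
  obtain ⟨x, hxM, hxD⟩ : ∃ x ∈ pairStab G S.a S.c, x ∉ S.K S.a := by
    by_contra hn
    push Not at hn
    have h1 : Nat.card (pairStab G S.a S.c) ≤ S.d :=
      Nat.le_of_dvd S.d_pos (Subgroup.card_dvd_of_le (le_inf le_rfl fun x hx => hn x hx))
    rw [show Nat.card (pairStab G S.a S.c) = S.d * S.c' from S.m_eq] at h1
    have h2 : S.d * 2 ≤ S.d * S.c' := Nat.mul_le_mul_left _ hc
    have := S.d_pos
    omega
  obtain ⟨hxa, hxc⟩ := mem_pairStab.1 hxM
  have hxD' : x ∉ S.K S.c := fun h => hxD (S.mem_K_of_fix h hxa)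
  obtain ⟨B', hB', hxB', hx1⟩ := S.exists_fixed_nbr hxc hxD'
  have hfar : S.Far S.a B' :=
    ⟨fun e => S.nac (S.symm (e ▸ hB')),
      fun h => S.no_common_fixed S.hac hx1 hxa hxc h hB' hxB'⟩
  let D₁ := pairStab G S.a S.c ⊓ S.K S.a
  let D₂ := pairStab G S.a B' ⊓ S.K S.a
  let φ : D₁ × D₂ →* S.K S.a :=
    { toFun := fun p => ⟨p.1.1 * p.2.1,
        (S.K S.a).mul_mem (Subgroup.mem_inf.1 p.1.2).2 (Subgroup.mem_inf.1 p.2.2).2⟩
      map_one' := Subtype.ext (one_mul 1)
      map_mul' := fun p p' => Subtype.ext (by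
        show p.1.1 * p'.1.1 * (p.2.1 * p'.2.1) = p.1.1 * p.2.1 * (p'.1.1 * p'.2.1)
        have hc' := S.K_comm (Subgroup.mem_inf.1 p'.1.2).2 (Subgroup.mem_inf.1 p.2.2).2
        calc p.1.1 * p'.1.1 * (p.2.1 * p'.2.1) = p.1.1 * (p'.1.1 * p.2.1) * p'.2.1 := by group
          _ = p.1.1 * (p.2.1 * p'.1.1) * p'.2.1 := by rw [hc']
          _ = _ := by group) }
  have hinj : Function.Injective φ := by
    rw [injective_iff_map_eq_one]
    rintro ⟨y, y'⟩ h
    have h1 : y.1 * y'.1 = 1 := congrArg Subtype.val h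
    obtain ⟨hy, hyK⟩ := Subgroup.mem_inf.1 y.2
    have hyB : y.1 • B' = B' := by
      rw [eq_inv_of_mul_eq_one_left h1, inv_smul_eq_iff,
        (mem_pairStab.1 (Subgroup.mem_inf.1 y'.2).1).2]
    have h2 : y.1 = 1 := S.K_no_fix (S.mem_K_of_fix hyK (mem_pairStab.1 hy).2) hB' hyB
    rw [h2, one_mul] at h1
    exact Prod.ext (Subtype.ext h2) (Subtype.ext h1)
  have := Subgroup.card_dvd_of_injective φ hinj
  rwa [Nat.card_prod, S.card_K, show Nat.card D₁ = S.d from rfl, S.card_ker_stab hfar] at this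

/-- The index divides the number of neighbours inside an orbit when `d = 1`. -/
theorem c'_dvd_Q₁ (hd : S.d = 1) : S.c' ∣ S.Q₁ := by
  have hM : Nat.card (pairStab G S.a S.c) = S.c' := by
    rw [show Nat.card (pairStab G S.a S.c) = S.d * S.c' from S.m_eq, hd, one_mul]
  have hbot : pairStab G S.a S.c ⊓ S.K S.a = ⊥ := Subgroup.card_eq_one.1 hd
  rw [← hM]
  refine subgroup_card_dvd_of_free (pairStab G S.a S.c)
    (fun y => S.SameOrbit S.a S.c y ∧ S.adj S.c y) ?_ ?_
  · rintro u hu y ⟨⟨v, hv, rfl⟩, hy⟩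
    refine ⟨⟨u * v * u⁻¹, S.conj_mem_K_fix hu.1 hv, ?_⟩, S.adj_smul_of_fix hu.2 hy⟩
    rw [mul_smul, mul_smul, inv_smul_eq_iff.2 hu.2.symm]
  · rintro u hu y ⟨⟨v, hv, rfl⟩, hy⟩ e
    by_contra hu1
    have hmem : v⁻¹ * u * v * u⁻¹ ∈ pairStab G S.a S.c ⊓ S.K S.a := by
      refine Subgroup.mem_inf.2 ⟨(pairStab G S.a S.c).mul_mem (mem_pairStab.2 ⟨?_, ?_⟩)
        ((pairStab G S.a S.c).inv_mem hu), ?_⟩
      · rw [mul_smul, mul_smul, S.K_fix hv, hu.1, inv_smul_eq_iff, S.K_fix hv]
      · rw [mul_smul, mul_smul, e, inv_smul_smul]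
      · rw [mul_assoc, mul_assoc, ← mul_assoc u]
        exact (S.K S.a).mul_mem ((S.K S.a).inv_mem hv) (S.conj_mem_K_fix hu.1 hv)
    rw [hbot, Subgroup.mem_bot] at hmem
    have hcomm : u * v = v * u := by
      have h' : v⁻¹ * (u * v) = u := by rw [← mul_assoc]; exact mul_inv_eq_one.1 hmem
      exact inv_mul_eq_iff_eq_mul.1 h'
    have huK : u ∉ S.K S.a := fun h => hu1 (by
      have hmem' : u ∈ pairStab G S.a S.c ⊓ S.K S.a := Subgroup.mem_inf.2 ⟨hu, h⟩
      rwa [hbot, Subgroup.mem_bot] at hmem')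
    obtain ⟨B, hB, huB, -⟩ := S.exists_fixed_nbr hu.1 huK
    rw [S.fix_nbr_of_comm hu1 hu.1 hB huB hv hcomm, one_smul] at hy
    exact S.irrefl _ hy

/-! ### sums over the kernel -/

theorem sum_moved :
    Nat.card {p : S.K S.a × X // S.adj p.2 ((p.1 : G) • p.2)} = S.k * (S.lam + S.q * S.Q₁) := by
  classical
  have e : {p : S.K S.a × X // S.adj p.2 ((p.1 : G) • p.2)} ≃
      Σ x : X, {g : S.K S.a // S.adj x ((g : G) • x)} :=
    { toFun := fun p => ⟨p.1.2, p.1.1, p.2⟩
      invFun := fun p => ⟨(p.2.1, p.1), p.2.2⟩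
      left_inv := fun _ => rfl
      right_inv := fun _ => rfl }
  rw [Nat.card_congr e, Nat.card_sigma]
  have hterm : ∀ x : X, Nat.card {g : S.K S.a // S.adj x ((g : G) • x)} =
      (if S.adj S.a x then S.lam else 0) + (if S.Far S.a x then S.d * S.Q₁ else 0) := by
    intro x
    by_cases h1 : S.adj S.a x
    · rw [if_pos h1, if_neg (fun h => h.2 h1), S.card_K_adj h1, Nat.add_zero]
    · by_cases h2 : S.Far S.a x
      · rw [if_neg h1, if_pos h2, S.card_orbit_pre h2 (fun y => S.adj x y),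
          S.card_orbit_nbr h2, Nat.zero_add]
      · rw [if_neg h1, if_neg h2, Nat.card_eq_zero]
        refine Or.inl ⟨fun g => ?_⟩
        have hx : x = S.a := by
          by_contra hne
          exact h2 ⟨Ne.symm hne, h1⟩
        subst hx
        have := g.2
        rw [S.K_fix g.1.2] at this
        exact S.irrefl _ this
  rw [Finset.sum_congr rfl (fun x _ => hterm x), Finset.sum_add_distrib, Finset.sum_ite,
    Finset.sum_ite]
  simp only [Finset.sum_const_zero, Nat.add_zero, Finset.sum_const, smul_eq_mul]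
  have hk : (Finset.univ.filter fun x => S.adj S.a x).card = S.k := by
    rw [← S.card_nbr S.a, Nat.card_eq_fintype_card, Fintype.card_subtype]
  have hl : (Finset.univ.filter fun x => S.Far S.a x).card = S.l := by
    rw [← S.card_far S.a, ← Nat.card_eq_finsetCard]
    exact Nat.card_congr (Equiv.subtypeEquivRight fun x =>
      ⟨fun h => (Finset.mem_filter.1 h).2, fun h => Finset.mem_filter.2 ⟨Finset.mem_univ _, h⟩⟩)
  rw [hk, hl, Nat.mul_add]
  congr 1
  calc S.l * (S.d * S.Q₁) = S.d * S.l * S.Q₁ := by ring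
    _ = S.k * (S.q * S.Q₁) := by rw [← S.q_mul_k]; ring

theorem sum_fixed :
    Nat.card {p : S.K S.a × X // (p.1 : G) • p.2 = p.2} = S.k * (S.q + 2) := by
  classical
  have e : {p : S.K S.a × X // (p.1 : G) • p.2 = p.2} ≃
      Σ x : X, {g : S.K S.a // (g : G) • x = x} :=
    { toFun := fun p => ⟨p.1.2, p.1.1, p.2⟩
      invFun := fun p => ⟨(p.2.1, p.1), p.2.2⟩
      left_inv := fun _ => rfl
      right_inv := fun _ => rfl }
  rw [Nat.card_congr e, Nat.card_sigma]
  have hterm : ∀ x : X, Nat.card {g : S.K S.a // (g : G) • x = x} =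
      (if x = S.a then S.k else 0) + (if S.adj S.a x then 1 else 0) +
        (if S.Far S.a x then S.d else 0) := by
    intro x
    by_cases h0 : x = S.a
    · subst h0
      rw [if_pos rfl, if_neg (S.irrefl _), if_neg (fun h => h.1 rfl)]
      show _ = S.k + 0 + 0
      rw [← S.card_K S.a]
      exact Nat.card_congr (Equiv.subtypeUnivEquiv fun g => S.K_fix g.2)
    · by_cases h1 : S.adj S.a x
      · rw [if_neg h0, if_pos h1, if_neg (fun h => h.2 h1), Nat.card_eq_one_iff_unique.2]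
        exact ⟨⟨fun g g' => Subtype.ext (Subtype.ext ((S.K_no_fix g.1.2 h1 g.2).trans
            (S.K_no_fix g'.1.2 h1 g'.2).symm))⟩,
          ⟨⟨1, one_smul G x⟩⟩⟩
      · have h2 : S.Far S.a x := ⟨Ne.symm h0, h1⟩
        rw [if_neg h0, if_neg h1, if_pos h2]
        simp only [Nat.zero_add]
        rw [← S.card_ker_stab h2]
        exact Nat.card_congr
          { toFun := fun g => ⟨g.1.1, Subgroup.mem_inf.2
              ⟨mem_pairStab.2 ⟨S.K_fix g.1.2, g.2⟩, g.1.2⟩⟩
            invFun := fun g => ⟨⟨g.1, (Subgroup.mem_inf.1 g.2).2⟩,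
              (mem_pairStab.1 (Subgroup.mem_inf.1 g.2).1).2⟩
            left_inv := fun _ => rfl
            right_inv := fun _ => rfl }
  rw [Finset.sum_congr rfl (fun x _ => hterm x), Finset.sum_add_distrib, Finset.sum_add_distrib,
    Finset.sum_ite, Finset.sum_ite, Finset.sum_ite]
  simp only [Finset.sum_const_zero, Nat.add_zero, Finset.sum_const, smul_eq_mul, mul_one]
  have h0 : (Finset.univ.filter fun x => x = S.a).card = 1 := by
    exact Finset.card_eq_one.2 ⟨S.a, by ext x; simp⟩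
  have hk : (Finset.univ.filter fun x => S.adj S.a x).card = S.k := by
    rw [← S.card_nbr S.a, Nat.card_eq_fintype_card, Fintype.card_subtype]
  have hl : (Finset.univ.filter fun x => S.Far S.a x).card = S.l := by
    rw [← S.card_far S.a, ← Nat.card_eq_finsetCard]
    exact Nat.card_congr (Equiv.subtypeEquivRight fun x =>
      ⟨fun h => (Finset.mem_filter.1 h).2, fun h => Finset.mem_filter.2 ⟨Finset.mem_univ _, h⟩⟩)
  rw [h0, hk, hl, mul_comm S.l, ← S.q_mul_k]
  ring

theorem orbits_eq : Nat.card (orbitRel.Quotient (S.K S.a) X) = S.q + 2 := by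
  classical
  refine Nat.eq_of_mul_eq_mul_left S.k_pos ?_
  rw [← S.sum_fixed]
  have e : {p : S.K S.a × X // (p.1 : G) • p.2 = p.2} ≃ Σ g : S.K S.a, MulAction.fixedBy X g :=
    { toFun := fun p => ⟨p.1.1, p.1.2, p.2⟩
      invFun := fun p => ⟨(p.1, p.2.1), p.2.2⟩
      left_inv := fun _ => rfl
      right_inv := fun _ => rfl }
  rw [Nat.card_congr e, Nat.card_congr (MulAction.sigmaFixedByEquivOrbitsProdGroup (S.K S.a) X),
    Nat.card_prod, S.card_K, mul_comm]

end Cfsg.Agent.Tsuzuku.Setup
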