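import Mathlib
import Cfsg.Agent.Lib.Tsuzuku.Coset
import Cfsg.Agent.Lib.Tsuzuku.Params

/-!
Tsuzuku's theorem: swapping involutions inside their cosets.
-/

set_option autoImplicit false
set_option linter.unusedSectionVars false

open MulAction

namespace Cfsg.Agent.Tsuzuku

/-- Counting the solutions of `x * x = 1`. -/
theorem card_sq_one {G : Type*} [Group G] [Finite G] (L : Subgroup G) :
    Nat.card {x : L // x * x = 1} = Nat.card {x : G // x ∈ L ∧ orderOf x = 2} + 1 := by
  classical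
  have e : {x : L // x * x = 1} ≃ Option {x : G // x ∈ L ∧ orderOf x = 2} :=
    { toFun := fun x => if h : orderOf (x.1 : G) = 2 then some ⟨x.1, x.1.2, h⟩ else none
      invFun := fun o => match o with
        | none => ⟨1, one_mul 1⟩
        | some x => ⟨⟨x.1, x.2.1⟩, Subtype.ext (by
            show x.1 * x.1 = 1
            have h := pow_orderOf_eq_one x.1
            rwa [x.2.2, pow_two] at h)⟩
      left_inv := fun x => by
        by_cases h : orderOf (x.1 : G) = 2
        · simp [h]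
        · simp only [h, dite_false]
          refine Subtype.ext (Subtype.ext ?_)
          by_contra hne
          refine h (orderOf_eq_prime ?_ (fun e => hne e.symm))
          rw [pow_two]
          exact congrArg Subtype.val x.2
      right_inv := fun o => by
        rcases o with _ | x
        · simp
        · simp [x.2.2] }
  rw [Nat.card_congr e, Finite.card_option]

namespace Setup

variable {G X : Type*} [Group G] [MulAction G X] [Finite G] [Fintype X] (S : Setup G X)

/-- With a trivial kernel part, many swappers of two far points fill the coset. -/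
theorem w'_full_of_d_one (hd : S.d = 1) (hc : Even S.c')
    (hbig : 3 * S.c' < 4 * S.w' ∨ (S.c' = 4 ∧ 2 < S.w')) : S.w' = S.c' := by
  have hfar : S.Far S.a S.c := ⟨S.hac, S.nac⟩
  have hM : Nat.card (pairStab G S.a S.c) = S.c' := by
    rw [show Nat.card (pairStab G S.a S.c) = S.d * S.c' from S.m_eq, hd, one_mul]
  have key := coset_full (pairStab G S.a S.c) (fun σ => Inv σ X ∧ σ • S.a = S.c)
    (fun σ h => inv_sq σ h.1)
    (fun σ σ' h h' => mem_pairStab.2
      ⟨by rw [mul_smul, h'.2, swap_of_orderOf h.1.1 h.2],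
       by rw [mul_smul, swap_of_orderOf h'.1.1 h'.2, h.2]⟩)
    (fun σ h x hx => mem_pairStab.2
      ⟨by rw [mul_smul, mul_smul, h.2, hx.2, swap_of_orderOf h.1.1 h.2],
       by rw [mul_smul, mul_smul, swap_of_orderOf h.1.1 h.2, hx.1, h.2]⟩)
    (fun σ h y hy => ⟨inv_conj y σ h.1, by
      rw [mul_smul, mul_smul, inv_smul_eq_iff.2 hy.1.symm, h.2, hy.2]⟩)
    (by
      rw [card_sq_one]
      have h1 := S.card_far_involutions hfar
      rw [if_pos hc, hd] at h1
      have h2 : Nat.card {x : G // x ∈ pairStab G S.a S.c ∧ orderOf x = 2} = 1 := by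
        refine Eq.trans ?_ h1
        exact Nat.card_congr
          { toFun := fun x => ⟨x.1, ⟨x.2.2, x.2.1.1⟩, x.2.1.2⟩
            invFun := fun x => ⟨x.1, ⟨x.2.1.2, x.2.2⟩, x.2.1.1⟩
            left_inv := fun _ => rfl
            right_inv := fun _ => rfl }
      omega)
    (by
      rw [hM]
      rcases hbig with h | ⟨h4, h2⟩
      · exact Or.inl h
      · have : Fact (Nat.Prime 2) := ⟨Nat.prime_two⟩
        refine Or.inr ⟨(IsPGroup.isMulCommutative_of_card_eq_prime_sq (p := 2)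
          (by rw [hM, h4]; rfl)).is_comm.comm, ?_⟩
        show S.c' < 2 * S.w'
        omega)
  exact key.1.trans hM

/-! ### mates: nontrivial kernel part, even index -/

/-- A point moved to a neighbour by an involution is a neighbour of each of its fixed points. -/
theorem moved_adj_near (hd : 1 < S.d) (hc : Even S.c') {τ : G} (hτ : orderOf τ = 2) {P x : X}
    (hP : τ • P = P) (hx : S.adj x (τ • x)) : S.adj P x := by
  by_contra hn
  have hne : P ≠ x := fun e => by
    rw [← e, hP] at hx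
    exact S.irrefl _ hx
  have h1 := S.card_far_involutions (P := P) (R := x) ⟨hne, hn⟩
  rw [if_pos hc] at h1
  have hpos : 0 < Nat.card {τ : G // (orderOf τ = 2 ∧ τ • P = P) ∧ τ • x = x} := by
    have := S.d_pos; omega
  obtain ⟨⟨⟨ρ, ⟨hρ, hρP⟩, hρx⟩⟩, -⟩ := Nat.card_pos_iff.1 hpos
  have h2 := S.card_orbit_nbr (P := P) (R := x) ⟨hne, hn⟩
  rw [S.Q₁_eq_zero hd, Nat.card_eq_zero] at h2
  rcases h2 with h | h
  · refine h.elim ⟨τ • x, ⟨τ * ρ, S.mul_mem_K hτ hρ hP hρP, ?_⟩, hx⟩
    rw [mul_smul, hρx]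
  · exact absurd h (not_infinite_iff_finite.2 inferInstance)

/-- The moved points of an involution fixing an edge are the common neighbours. -/
theorem common_moved (hd : 1 < S.d) (hc : Even S.c') {τ : G} (hτ : orderOf τ = 2) {P Q x : X}
    (hPQ : S.adj P Q) (hP : τ • P = P) (hQ : τ • Q = Q) (h1 : S.adj P x) (h2 : S.adj Q x) :
    S.adj x (τ • x) := by
  have hinj : Function.Injective (fun y : {y : X // S.adj y (τ • y)} =>
      (⟨y.1, S.moved_adj_near hd hc hτ hP y.2, S.moved_adj_near hd hc hτ hQ y.2⟩ :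
        {y : X // S.adj P y ∧ S.adj Q y})) :=
    fun y y' e => Subtype.ext (congrArg Subtype.val e :)
  have hcard : Nat.card {y : X // S.adj y (τ • y)} = Nat.card {y : X // S.adj P y ∧ S.adj Q y} := by
    rw [S.inv_N₁ ⟨hτ, P, hP⟩, S.card_common_adj hPQ, S.N₁_formula hc, S.Q₁_eq_zero hd,
      Nat.mul_zero, Nat.add_zero]
  obtain ⟨y, hy⟩ := ((Nat.bijective_iff_injective_and_card _).2 ⟨hinj, hcard⟩).2 ⟨x, h1, h2⟩
  have e : y.1 = x := congrArg Subtype.val hy
  exact e ▸ y.2

theorem swap_comm {σ : G} (hσ : orderOf σ = 2) (hab : σ • S.a = S.b) : σ * S.z = S.z * σ := by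
  have hba := swap_of_orderOf hσ hab
  have hinv := inv_of_orderOf hσ
  have h1 : orderOf (σ * S.z * σ⁻¹) = 2 :=
    (orderOf_injective (MulAut.conj σ).toMonoidHom (MulAut.conj σ).injective S.z).trans S.z_ord
  exact mul_inv_eq_iff_eq_mul.1 (S.involution_eq S.hab h1 S.z_ord
    (by rw [hinv, mul_smul, mul_smul, hab, S.z_b, hba])
    (by rw [hinv, mul_smul, mul_smul, hba, S.z_a, hab]) S.z_a S.z_b)

/-- A swapper moves each fixed point to its mate. -/
theorem swap_mate (hd : 1 < S.d) (hc : Even S.c') {σ : G} (hσ : Inv σ X) (hab : σ • S.a = S.b)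
    {R : X} (hR : S.z • R = R) : S.adj R (σ • R) := by
  obtain ⟨hσ2, P, hP⟩ := hσ
  have hba := swap_of_orderOf hσ2 hab
  obtain ⟨P', hPP', hP'⟩ := S.exists_nbr_of_involution hσ2 hP
  have hnear : ∀ Q, σ • Q = Q → S.adj R Q := by
    intro Q hQ
    have ha : S.adj Q S.a := S.moved_adj_near hd hc hσ2 hQ (by rw [hab]; exact S.hab)
    have hb : S.adj Q S.b := S.moved_adj_near hd hc hσ2 hQ (by rw [hba]; exact S.symm S.hab)
    exact S.moved_adj_near hd hc S.z_ord hR
      (S.common_moved hd hc S.z_ord S.hab S.z_a S.z_b (S.symm ha) (S.symm hb))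
  exact S.common_moved hd hc hσ2 hPP' hP hP' (S.symm (hnear P hP)) (S.symm (hnear P' hP'))

theorem swap_fixed {σ : G} (hσ : orderOf σ = 2) (hab : σ • S.a = S.b) {R : X}
    (hR : S.z • R = R) : S.z • (σ • R) = σ • R := by
  rw [← mul_smul, ← S.swap_comm hσ hab, mul_smul, hR]

/-- elements fixing all fixed points of the base involution -/
def H₀ (S : Setup G X) : Subgroup G where
  carrier := {g | ∀ x : X, S.z • x = x → g • x = x}
  one_mem' := fun x _ => one_smul G x
  mul_mem' := fun {g g'} hg hg' x hx => by rw [mul_smul, hg' x hx, hg x hx]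
  inv_mem' := fun {g} hg x hx => inv_smul_eq_iff.2 (hg x hx).symm

theorem H₀_le : S.H₀ ≤ pairStab G S.a S.b := fun _ hg => mem_pairStab.2 ⟨hg _ S.z_a, hg _ S.z_b⟩

theorem z_mem_H₀ : S.z ∈ S.H₀ := fun _ hx => hx

theorem exists_far_fixed (hc : Even S.c') : ∃ R, S.Far S.a R ∧ S.z • R = R := by
  have h1 := S.far_fixed_count S.z_ord S.z_a
  have h2 := S.F_eq
  rw [if_pos hc] at h2
  have h3 := S.q_pos
  have hpos : 0 < Nat.card {x : X // S.Far S.a x ∧ S.z • x = x} := by omega
  obtain ⟨⟨x⟩, -⟩ := Nat.card_pos_iff.1 hpos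
  exact ⟨x.1, x.2⟩

theorem card_le_c' {U : Subgroup G} (hU : U ≤ pairStab G S.a S.b) {R : X} (hR : S.Far S.a R)
    (hUR : ∀ g ∈ U, g • R = R) : Nat.card U ∣ S.c' := by
  have h1 : Nat.card U ∣ S.h := (Subgroup.card_dvd_of_le hU).trans (S.card_edge_stab S.hab).dvd
  have h2 : Nat.card U ∣ S.d * S.c' := by
    rw [← S.m_eq, ← S.card_far_stab hR.1 hR.2]
    exact Subgroup.card_dvd_of_le fun g hg => mem_pairStab.2 ⟨(hU hg).1, hUR g hg⟩
  exact (Nat.Coprime.dvd_mul_left ((S.coprime_k_h.coprime_dvd_left S.d_dvd_k).symm.coprime_dvd_left h1)).1 h2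

theorem H₀_dvd (hc : Even S.c') : Nat.card S.H₀ ∣ S.c' := by
  obtain ⟨R, hR, hzR⟩ := S.exists_far_fixed hc
  exact S.card_le_c' S.H₀_le hR fun g hg => hg R hzR

theorem swap_mul_mem_H₀ (hd : 1 < S.d) (hc : Even S.c') {σ σ' : G} (hσ : Inv σ X)
    (hσ' : Inv σ' X) (h : σ • S.a = S.b) (h' : σ' • S.a = S.b) : σ * σ' ∈ S.H₀ := fun x hx => by
  have h1 : σ • x = σ' • x := S.fixed_nbr_unique (ne_one_of_orderOf S.z_ord) hx
    (S.swap_mate hd hc hσ h hx) (S.swap_mate hd hc hσ' h' hx)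
    (S.swap_fixed hσ.1 h hx) (S.swap_fixed hσ'.1 h' hx)
  rw [mul_smul, ← h1, ← mul_smul, inv_sq σ hσ, one_smul]

theorem u_le_H₀ (hd : 1 < S.d) (hc : Even S.c') : S.u ≤ Nat.card S.H₀ := by
  rcases isEmpty_or_nonempty {σ : G // Inv σ X ∧ σ • S.a = S.b} with h | ⟨⟨σ₀, h0⟩⟩
  · rw [u, Nat.card_eq_zero.2 (Or.inl h)]; exact Nat.zero_le _
  · exact Nat.card_le_card_of_injective
      (fun σ => (⟨σ₀ * σ.1, S.swap_mul_mem_H₀ hd hc h0.1 σ.2.1 h0.2 σ.2.2⟩ : S.H₀))
      fun x y e => Subtype.ext (mul_left_cancel (congrArg Subtype.val e :))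

theorem u_le_c' (hd : 1 < S.d) (hc : Even S.c') : S.u ≤ S.c' :=
  (S.u_le_H₀ hd hc).trans (Nat.le_of_dvd S.c'_pos (S.H₀_dvd hc))

/-- Many swappers of an edge fill their coset and invert it. -/
theorem u_full (hd : 1 < S.d) (hc : Even S.c') (hbig : 3 * S.c' < 4 * S.u) :
    S.u = S.c' ∧ Nat.card S.H₀ = S.c' ∧ (∀ g g' : S.H₀, g * g' = g' * g) ∧
      ∀ σ, Inv σ X → σ • S.a = S.b → ∀ g ∈ S.H₀, σ * g * σ = g⁻¹ := by
  have h1 := S.u_le_H₀ hd hc
  have hH : Nat.card S.H₀ = S.c' := by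
    obtain ⟨r, hr⟩ := S.H₀_dvd hc
    rcases Nat.lt_or_ge r 2 with h | h
    · interval_cases r
      · have := S.c'_pos; omega
      · omega
    · have := Nat.mul_le_mul_left (Nat.card S.H₀) h
      omega
  have key := coset_full S.H₀ (fun σ => Inv σ X ∧ σ • S.a = S.b) (fun σ h => inv_sq σ h.1)
    (fun σ σ' h h' => S.swap_mul_mem_H₀ hd hc h.1 h'.1 h.2 h'.2)
    (fun σ h g hg x hx => by
      rw [mul_smul, mul_smul, hg _ (S.swap_fixed h.1.1 h.2 hx), ← mul_smul σ σ, inv_sq σ h.1, one_smul])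
    (fun σ h y hy => ⟨inv_conj y σ h.1, by
      rw [mul_smul, mul_smul, inv_smul_eq_iff.2 (S.H₀_le hy).1.symm, h.2, (S.H₀_le hy).2]⟩)
    (by
      rw [card_sq_one]
      have h2 : Nat.card {x : G // x ∈ S.H₀ ∧ orderOf x = 2} = 1 := by
        rw [Nat.card_eq_one_iff_unique]
        exact ⟨⟨fun x y => Subtype.ext (S.involution_eq S.hab x.2.2 y.2.2
            (S.H₀_le x.2.1).1 (S.H₀_le x.2.1).2 (S.H₀_le y.2.1).1 (S.H₀_le y.2.1).2)⟩,
          ⟨⟨S.z, S.z_mem_H₀, S.z_ord⟩⟩⟩
      omega)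
    (Or.inl (by rw [hH]; exact hbig))
  exact ⟨key.1.trans hH, hH, key.2.1, fun σ h h' => key.2.2 σ ⟨h, h'⟩⟩

/-- The parameters `q = 2`, index four, four swappers are impossible. -/
theorem not_q_two_four (hd : 1 < S.d) (hq : S.q = 2) (hc4 : S.c' = 4) (hu : S.u = 4) : False := by
  classical
  have hc : Even S.c' := by rw [hc4]; decide
  obtain ⟨-, hH, hHc, hinv⟩ := S.u_full hd hc (by omega)
  -- an element of order four in `H₀`
  obtain ⟨η, hη, hη2⟩ : ∃ η ∈ S.H₀, η * η ≠ 1 := by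
    by_contra hn
    push Not at hn
    have h1 : Nat.card {x : S.H₀ // x * x = 1} = Nat.card S.H₀ :=
      Nat.card_congr (Equiv.subtypeUnivEquiv fun x => Subtype.ext (hn x.1 x.2))
    rw [card_sq_one] at h1
    have h2 : Nat.card {x : G // x ∈ S.H₀ ∧ orderOf x = 2} ≤ 1 :=
      Finite.card_le_one_iff_subsingleton.2 ⟨fun x y => Subtype.ext (S.involution_eq S.hab x.2.2
        y.2.2 (S.H₀_le x.2.1).1 (S.H₀_le x.2.1).2 (S.H₀_le y.2.1).1 (S.H₀_le y.2.1).2)⟩
    omega
  have hη4 : η ^ 4 = 1 := by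
    have : (⟨η, hη⟩ : S.H₀) ^ Nat.card S.H₀ = 1 := pow_card_eq_one'
    rw [hH, hc4] at this
    exact congrArg Subtype.val this
  -- `H₀` is generated by `η`, whose conjugates are `η` and its inverse
  have helts : ∀ y ∈ S.H₀, y = 1 ∨ y = η ∨ y = η * η ∨ y = η⁻¹ := by
    have hn1 : η ≠ 1 := fun e => hη2 (by rw [e, one_mul])
    have hη3 : η⁻¹ = η * (η * η) := inv_eq_of_mul_eq_one_right (by rw [← hη4]; simp only [pow_succ, pow_zero, one_mul, mul_assoc])
    have := Fintype.ofFinite S.H₀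
    intro y hy
    by_contra hne
    push Not at hne
    obtain ⟨n1, n2, n3, n4⟩ := hne
    let t : Finset S.H₀ :=
      {⟨y, hy⟩, 1, ⟨η, hη⟩, ⟨η * η, S.H₀.mul_mem hη hη⟩, ⟨η⁻¹, S.H₀.inv_mem hη⟩}
    have h5 : t.card = 5 := by
      have a1 : η * η ≠ η := fun e => hn1 (mul_eq_left.1 e)
      have a2 : η⁻¹ ≠ 1 := fun e => hn1 (inv_eq_one.1 e)
      have a3 : η⁻¹ ≠ η := fun e => hη2 (by rw [← eq_inv_iff_mul_eq_one]; exact e.symm)
      have a4 : η⁻¹ ≠ η * η := fun e => by
        rw [hη3] at e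
        exact hn1 (mul_eq_right.1 e)
      simp only [t]
      rw [Finset.card_insert_of_notMem, Finset.card_insert_of_notMem, Finset.card_insert_of_notMem,
        Finset.card_insert_of_notMem, Finset.card_singleton]
      · simp [Subtype.ext_iff, a4.symm]
      · simp [Subtype.ext_iff, a1.symm, a3.symm]
      · simp [Subtype.ext_iff, hn1.symm, hη2.symm, a2.symm]
      · simp [Subtype.ext_iff, n1, n2, n3, n4]
    have h6 := t.card_le_univ
    rw [← Nat.card_eq_fintype_card, h5, hH, hc4] at h6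
    omega
  have hsign : ∀ g : G, g * S.z = S.z * g → g * η * g⁻¹ = η ∨ g * η * g⁻¹ = η⁻¹ := by
    intro g hg
    have hg' : g⁻¹ * S.z = S.z * g⁻¹ := by
      rw [eq_mul_inv_iff_mul_eq, mul_assoc, ← hg, inv_mul_cancel_left]
    have hmem : g * η * g⁻¹ ∈ S.H₀ := fun x hx => by
      have h1 : S.z • (g⁻¹ • x) = g⁻¹ • x := by rw [← mul_smul, ← hg', mul_smul, hx]
      rw [mul_smul, mul_smul, hη _ h1, smul_inv_smul]
    rcases helts _ hmem with h | h | h | h
    · exact absurd (conj_eq_one_iff.1 h) (fun e => hη2 (by rw [e, one_mul]))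
    · exact Or.inl h
    · refine absurd ?_ hη2
      have h2 : g * η * g⁻¹ * (g * η * g⁻¹) = 1 := by
        rw [h, show η * η * (η * η) = η ^ 4 by simp only [pow_succ, pow_zero, one_mul, mul_assoc], hη4]
      rw [show g * η * g⁻¹ * (g * η * g⁻¹) = g * (η * η) * g⁻¹ by group] at h2
      exact conj_eq_one_iff.1 h2
    · exact Or.inr h
  -- the two far fixed points
  obtain ⟨R, hR, hzR⟩ := S.exists_far_fixed hc
  obtain ⟨R', hRR', hzR'⟩ := S.exists_nbr_of_involution S.z_ord hzR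
  have hne : (S.z : G) ≠ 1 := ne_one_of_orderOf S.z_ord
  have hR'ne : R' ≠ S.a := fun e => hR.2 (e ▸ S.symm hRR')
  have hR' : S.Far S.a R' := by
    refine ⟨Ne.symm hR'ne, fun h => ?_⟩
    have h1 : R' = S.b := S.fixed_nbr_unique hne S.z_a h S.hab hzR' S.z_b
    exact hR.1 (S.fixed_nbr_unique hne S.z_b (S.symm S.hab) (by rw [← h1]; exact S.symm hRR')
      S.z_a hzR)
  have hfix : ∀ x, S.z • x = x → x = S.a ∨ x = S.b ∨ x = R ∨ x = R' := by
    intro x hx
    by_cases h1 : x = S.a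
    · exact Or.inl h1
    by_cases h2 : S.adj S.a x
    · exact Or.inr (Or.inl (S.fixed_nbr_unique hne S.z_a h2 S.hab hx S.z_b))
    refine Or.inr (Or.inr ?_)
    by_contra h3
    push Not at h3
    let e : Fin 3 → {y : X // S.Far S.a y ∧ S.z • y = y} :=
      ![⟨x, ⟨Ne.symm h1, h2⟩, hx⟩, ⟨R, hR, hzR⟩, ⟨R', hR', hzR'⟩]
    have hRne : R ≠ R' := S.ne_of_adj hRR'
    have hinj : Function.Injective e := by
      intro i j hij
      have hij' := congrArg Subtype.val hij
      fin_cases i <;> fin_cases j <;> simp_all [e]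
    have h4 := Nat.card_le_card_of_injective e hinj
    have h5 := S.far_fixed_count S.z_ord S.z_a
    have h6 := S.F_eq
    rw [if_pos hc, hq] at h6
    rw [Nat.card_fin] at h4
    omega
  -- centralising elements
  have hcent : ∀ P Q : X, S.adj P Q → S.z • P = P → S.z • Q = Q → ∃ g : G,
      g • S.a = P ∧ g • S.b = Q ∧ g * S.z = S.z * g := by
    intro P Q hPQ hP hQ
    obtain ⟨g, h1, h2⟩ := S.edge_trans S.hab hPQ
    refine ⟨g, h1, h2, mul_inv_eq_iff_eq_mul.1 (S.involution_eq hPQ ((inv_conj g S.z S.inv_z).1)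
      S.z_ord ?_ ?_ hP hQ)⟩
    · rw [← h1, mul_smul, mul_smul, inv_smul_smul, S.z_a]
    · rw [← h2, mul_smul, mul_smul, inv_smul_smul, S.z_b]
  obtain ⟨g, hga, hgb, hgz⟩ := hcent R R' hRR' hzR hzR'
  -- an element centralising `η` which induces the matching
  obtain ⟨y, hya, hyb, hyR, hyR', hyη⟩ : ∃ y : G, y • S.a = S.b ∧ y • S.b = S.a ∧ y • R = R' ∧
      y • R' = R ∧ y * η * y⁻¹ = η := by
    have hgfix : ∀ x : X, S.z • x = x → S.z • (g • x) = g • x := fun x hx => by
      rw [← mul_smul, ← hgz, mul_smul, hx]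
    have hgR : g • R = S.a ∨ g • R = S.b := by
      rcases hfix _ (hgfix R hzR) with h | h | h | h
      · exact Or.inl h
      · exact Or.inr h
      · exact absurd (MulAction.injective g (h.trans hga.symm)) (Ne.symm hR.1)
      · exact absurd (MulAction.injective g (h.trans hgb.symm)) (fun e => hR.2 (e ▸ S.hab))
    have hgR' : g • R' = if g • R = S.a then S.b else S.a := by
      have hadj := S.smul_adj g hRR'
      rcases hgR with h | h
      · rw [if_pos h]
        rw [h] at hadj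
        exact S.fixed_nbr_unique hne S.z_a hadj S.hab (hgfix R' hzR') S.z_b
      · rw [if_neg (by rw [h]; exact (S.ne_of_adj S.hab).symm)]
        rw [h] at hadj
        exact S.fixed_nbr_unique hne S.z_b hadj (S.symm S.hab) (hgfix R' hzR') S.z_a
    rcases hgR with h | h
    · rw [if_pos h] at hgR'
      -- conjugate `g` by an element moving `R` to `R'`
      obtain ⟨x, hx, hxR⟩ : ∃ x ∈ pairStab G S.a S.b, x • R ≠ R := by
        by_contra hn
        push Not at hn
        have h1 := Nat.le_of_dvd S.c'_pos (S.card_le_c' le_rfl hR hn)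
        rw [S.card_edge_stab S.hab, ← S.q_mul_c', hq] at h1
        omega
      have hxz : x * S.z = S.z * x := S.edge_involution_central S.hab S.z_ord S.z_a S.z_b hx
      have hxfix : ∀ w : X, S.z • w = w → S.z • (x • w) = x • w := fun w hw => by
        rw [← mul_smul, ← hxz, mul_smul, hw]
      have hxR1 : x • R = R' := by
        rcases hfix _ (hxfix R hzR) with h1 | h1 | h1 | h1
        · exact absurd (MulAction.injective x (h1.trans hx.1.symm)) (Ne.symm hR.1)
        · exact absurd (MulAction.injective x (h1.trans hx.2.symm)) (fun e => hR.2 (e ▸ S.hab))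
        · exact absurd h1 hxR
        · exact h1
      have hxR' : x • R' = R := by
        have hadj := S.smul_adj x hRR'
        rw [hxR1] at hadj
        exact S.fixed_nbr_unique hne hzR' hadj (S.symm hRR') (hxfix R' hzR') hzR
      have hxia : x⁻¹ • S.a = S.a := inv_smul_eq_iff.2 hx.1.symm
      have hxib : x⁻¹ • S.b = S.b := inv_smul_eq_iff.2 hx.2.symm
      have hxiR : x⁻¹ • R = R' := inv_smul_eq_iff.2 hxR'.symm
      have hxiR' : x⁻¹ • R' = R := inv_smul_eq_iff.2 hxR1.symm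
      refine ⟨x * g * x⁻¹ * g, ?_, ?_, ?_, ?_, ?_⟩
      · simp only [mul_smul, hga, hxiR, hgR', (mem_pairStab.1 hx).2]
      · simp only [mul_smul, hgb, hxiR', h, (mem_pairStab.1 hx).1]
      · simp only [mul_smul, h, hxia, hga, hxR1]
      · simp only [mul_smul, hgR', hxib, hgb, hxR']
      · have hgx : x⁻¹ * S.z = S.z * x⁻¹ := by
          rw [eq_mul_inv_iff_mul_eq, mul_assoc, ← hxz, inv_mul_cancel_left]
        rw [show x * g * x⁻¹ * g * η * (x * g * x⁻¹ * g)⁻¹ =
          MulAut.conj x (MulAut.conj g (MulAut.conj x⁻¹ (MulAut.conj g η))) by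
            simp only [MulAut.conj_apply]; group]
        have cg : MulAut.conj g η = η ∨ MulAut.conj g η = η⁻¹ := hsign g hgz
        have cx : MulAut.conj x η = η ∨ MulAut.conj x η = η⁻¹ := hsign x hxz
        have cxi : MulAut.conj x⁻¹ η = η ∨ MulAut.conj x⁻¹ η = η⁻¹ := hsign x⁻¹ hgx
        have hmi : ∀ w : G, MulAut.conj w η⁻¹ = (MulAut.conj w η)⁻¹ := fun w => map_inv _ η
        have hxx : MulAut.conj x (MulAut.conj x⁻¹ η) = η := by
          simp only [MulAut.conj_apply]; group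
        rcases cg with e1 | e1 <;> rcases cx with e2 | e2 <;> rcases cxi with e3 | e3 <;>
          simp only [hmi, e1, e2, e3, inv_inv] at hxx ⊢ <;> exact hxx
    · rw [if_neg (by rw [h]; exact (S.ne_of_adj S.hab).symm)] at hgR'
      refine ⟨g * g, ?_, ?_, ?_, ?_, ?_⟩
      · simp only [mul_smul, hga, h]
      · simp only [mul_smul, hgb, hgR']
      · simp only [mul_smul, h, hgb]
      · simp only [mul_smul, hgR', hga]
      · rw [show g * g * η * (g * g)⁻¹ = MulAut.conj g (MulAut.conj g η) by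
          simp only [MulAut.conj_apply]; group]
        have cg : MulAut.conj g η = η ∨ MulAut.conj g η = η⁻¹ := hsign g hgz
        rcases cg with e | e <;> simp [map_inv, e]
  have hupos : 0 < Nat.card {σ : G // Inv σ X ∧ σ • S.a = S.b} := by
    show 0 < S.u
    omega
  obtain ⟨⟨⟨σ, hσ, hσab⟩⟩, -⟩ := Nat.card_pos_iff.1 hupos
  have hσR : σ • R = R' := S.fixed_nbr_unique hne hzR (S.swap_mate hd hc hσ hσab hzR) hRR'
    (S.swap_fixed hσ.1 hσab hzR) hzR'
  have hmem : σ * y ∈ S.H₀ := by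
    intro x hx
    rcases hfix x hx with rfl | rfl | rfl | rfl
    · rw [mul_smul, hya, swap_of_orderOf hσ.1 hσab]
    · rw [mul_smul, hyb, hσab]
    · rw [mul_smul, hyR, swap_of_orderOf hσ.1 hσR]
    · rw [mul_smul, hyR', hσR]
  have hc1 : σ * y * η = η * (σ * y) :=
    congrArg Subtype.val (hHc ⟨σ * y, hmem⟩ ⟨η, hη⟩)
  have hc2 : σ * η * σ = η⁻¹ := hinv σ hσ hσab η hη
  have hyη' : y * η = η * y := mul_inv_eq_iff_eq_mul.1 hyη
  have hc3 : σ * η = η * σ := by
    rw [mul_assoc, hyη', ← mul_assoc, ← mul_assoc] at hc1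
    exact mul_right_cancel hc1
  rw [hc3, mul_assoc, inv_sq σ hσ, mul_one] at hc2
  exact hη2 (eq_inv_iff_mul_eq_one.1 hc2)

end Setup

end Cfsg.Agent.Tsuzuku
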