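import Mathlib

/-!
# Eigenvalue idempotents of a strongly regular graph against the characters of an automorphism group

For a group `U` of automorphisms of a strongly regular graph with eigenvalues `p` and `-w` on the
complement of the constants, the trace of the idempotent of `p` times the idempotent of a linear
character of `U` is a natural number.
-/

set_option autoImplicit false

namespace Cfsg.Agent.Tsuzuku.Spectral

open Matrix

/-- A strongly regular graph. -/
structure SRG {X : Type*} [Fintype X] (adj : X → X → Prop) (k lam mu : ℕ) : Prop where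
  symm : ∀ x y, adj x y → adj y x
  irrefl : ∀ x, ¬ adj x x
  deg : ∀ x, Nat.card {y // adj x y} = k
  lam_eq : ∀ x y, adj x y → Nat.card {z // adj x z ∧ adj y z} = lam
  mu_eq : ∀ x y, x ≠ y → ¬ adj x y → Nat.card {z // adj x z ∧ adj y z} = mu

/-- The number of points fixed by `u`. -/
noncomputable def F {U : Type*} [Group U] (X : Type*) [MulAction U X] (u : U) : ℕ :=
  Nat.card {x : X // u • x = x}

/-- The number of points moved by `u` to a neighbour. -/
noncomputable def N1 {U X : Type*} [Group U] [MulAction U X] (adj : X → X → Prop) (u : U) : ℕ :=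
  Nat.card {x : X // adj x (u • x)}

/-- The coefficient of a linear character in a function on a finite group. -/
noncomputable def avg {U : Type*} [Group U] (chi : U →* ℂˣ) (f : U → ℂ) : ℂ :=
  (Nat.card U : ℂ)⁻¹ * ∑ᶠ u, (((chi u)⁻¹ : ℂˣ) : ℂ) * f u

theorem avg_eq {U : Type*} [Group U] [Fintype U] (chi : U →* ℂˣ) (f : U → ℂ) :
    avg chi f = (Nat.card U : ℂ)⁻¹ * ∑ u, (((chi u)⁻¹ : ℂˣ) : ℂ) * f u := by
  rw [avg, finsum_eq_sum_of_fintype]

theorem sum_char {U : Type*} [Group U] [Fintype U] (chi : U →* ℂˣ) [Decidable (chi = 1)] :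
    ∑ u, (((chi u)⁻¹ : ℂˣ) : ℂ) = if chi = 1 then (Nat.card U : ℂ) else 0 := by
  by_cases h : chi = 1
  · rw [if_pos h, h]
    simp [Nat.card_eq_fintype_card]
  · rw [if_neg h]
    obtain ⟨v, hv⟩ : ∃ v, chi v ≠ 1 := by
      by_contra hc
      push Not at hc
      exact h (MonoidHom.ext fun v => hc v)
    have e : (∑ u, (((chi u)⁻¹ : ℂˣ) : ℂ)) * ((((chi v)⁻¹ : ℂˣ) : ℂ) - 1) = 0 := by
      rw [mul_sub, mul_one, sub_eq_zero, Finset.sum_mul]
      refine Fintype.sum_equiv (Equiv.mulRight v) _ _ fun u => ?_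
      simp [_root_.mul_inv_rev, mul_comm]
    refine (mul_eq_zero.1 e).resolve_right fun h0 => hv ?_
    have h1 : (chi v)⁻¹ = 1 := Units.val_inj.1 (by rw [Units.val_one]; exact sub_eq_zero.1 h0)
    exact inv_eq_one.1 h1

theorem avg_const {U : Type*} [Group U] [Finite U] (chi : U →* ℂˣ) [Decidable (chi = 1)] (c : ℂ) :
    avg chi (fun _ => c) = if chi = 1 then c else 0 := by
  have := Fintype.ofFinite U
  rw [avg_eq, ← Finset.sum_mul, sum_char]
  by_cases h : chi = 1
  · rw [if_pos h, if_pos h, ← mul_assoc,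
      inv_mul_cancel₀ (Nat.cast_ne_zero.2 Nat.card_pos.ne'), one_mul]
  · rw [if_neg h, if_neg h, zero_mul, mul_zero]

section Idempotent

variable {X : Type*} [Fintype X] [DecidableEq X]

theorem exists_trace (Q : Matrix X X ℂ) (hQ : Q * Q = Q) :
    ∃ N : ℕ, (N : ℂ) = Q.trace ∧ (Q ≠ 0 → 0 < N) := by
  have hf : IsIdempotentElem (Matrix.toLin' Q) := by
    show Matrix.toLin' Q * Matrix.toLin' Q = Matrix.toLin' Q
    rw [Module.End.mul_eq_comp, ← Matrix.toLin'_mul, hQ]
  have ht : LinearMap.trace ℂ (X → ℂ) (Matrix.toLin' Q) = Q.trace := Matrix.trace_toLin'_eq Q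
  refine ⟨_, ((LinearMap.IsIdempotentElem.isProj_range _ hf).trace).symm.trans ht, fun hne => Nat.pos_of_ne_zero fun h0 => hne ?_⟩
  have h1 : LinearMap.trace ℂ (X → ℂ) (Matrix.toLin' Q) = 0 := by
    rw [(LinearMap.IsIdempotentElem.isProj_range _ hf).trace, h0, Nat.cast_zero]
  exact Matrix.toLin'.map_eq_zero_iff.1 (LinearMap.IsIdempotentElem.eq_zero_of_trace_eq_zero hf h1)

end Idempotent

variable {U X : Type*} [Group U] [Finite U] [Fintype X] [MulAction U X]

section Proj

variable [DecidableEq X]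

variable (X) in
/-- The permutation matrix of `u`. -/
def perm (u : U) : Matrix X X ℂ := Matrix.of fun a b => if a = u • b then 1 else 0

omit [Finite U] in
theorem perm_mul (u v : U) : perm X u * perm X v = perm X (u * v) := by
  ext a b
  rw [Matrix.mul_apply, Finset.sum_eq_single (v • b)]
  · simp [perm, mul_smul]
  · intro c _ hc
    simp [perm, hc]
  · intro h; exact absurd (Finset.mem_univ _) h

omit [Finite U] in
theorem mul_perm_apply (M : Matrix X X ℂ) (u : U) (a b : X) :
    (M * perm X u) a b = M a (u • b) := by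
  rw [Matrix.mul_apply, Finset.sum_eq_single (u • b)]
  · simp [perm]
  · intro c _ hc
    simp [perm, hc]
  · intro h; exact absurd (Finset.mem_univ _) h

omit [Finite U] in
theorem perm_mul_apply (M : Matrix X X ℂ) (u : U) (a b : X) :
    (perm X u * M) a b = M (u⁻¹ • a) b := by
  rw [Matrix.mul_apply, Finset.sum_eq_single (u⁻¹ • a)]
  · simp [perm]
  · intro c _ hc
    have : ¬ a = u • c := fun e => hc (by rw [e, inv_smul_smul])
    simp [perm, this]
  · intro h; exact absurd (Finset.mem_univ _) h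

variable (X) in
/-- The idempotent of a linear character. -/
noncomputable def proj [Fintype U] (chi : U →* ℂˣ) : Matrix X X ℂ :=
  (Nat.card U : ℂ)⁻¹ • ∑ u, (((chi u)⁻¹ : ℂˣ) : ℂ) • perm X u

omit [Finite U] in
theorem proj_idem [Fintype U] (chi : U →* ℂˣ) : proj X chi * proj X chi = proj X chi := by
  have hv : ∀ v : U, perm X v * ∑ u, (((chi u)⁻¹ : ℂˣ) : ℂ) • perm X u =
      (chi v : ℂ) • ∑ u, (((chi u)⁻¹ : ℂˣ) : ℂ) • perm X u := by
    intro v
    rw [Finset.mul_sum, Finset.smul_sum]
    refine Fintype.sum_equiv (Equiv.mulLeft v) _ _ fun u => ?_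
    rw [mul_smul_comm, perm_mul, smul_smul, Equiv.coe_mulLeft, map_mul, _root_.mul_inv_rev, Units.val_mul]
    congr 1
    rw [mul_comm (((chi u)⁻¹ : ℂˣ) : ℂ) (((chi v)⁻¹ : ℂˣ) : ℂ), ← mul_assoc, Units.mul_inv, one_mul]
  simp only [proj, smul_mul_assoc, mul_smul_comm, Finset.sum_mul, hv, smul_smul, Units.inv_mul,
    one_smul, Finset.sum_const, Finset.card_univ]
  rw [← Nat.cast_smul_eq_nsmul ℂ, smul_smul, ← Nat.card_eq_fintype_card, mul_assoc,
    inv_mul_cancel₀ (Nat.cast_ne_zero.2 Nat.card_pos.ne'), mul_one]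

omit [Finite U] in
theorem trace_mul_proj [Fintype U] (M : Matrix X X ℂ) (chi : U →* ℂˣ) :
    (M * proj X chi).trace = avg chi fun u => ∑ a, M a (u • a) := by
  rw [avg_eq, proj, mul_smul_comm, Matrix.trace_smul, Finset.mul_sum, Matrix.trace_sum, smul_eq_mul]
  congr 1
  refine Finset.sum_congr rfl fun u _ => ?_
  rw [mul_smul_comm, Matrix.trace_smul, smul_eq_mul]
  congr 1
  exact Finset.sum_congr rfl fun a _ => mul_perm_apply M u a a

/-- The adjacency matrix. -/
noncomputable def adjMat (adj : X → X → Prop) : Matrix X X ℂ :=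
  open Classical in Matrix.of fun a b => if adj a b then 1 else 0

omit [DecidableEq X] in
theorem sum_ite_card (q : X → Prop) [DecidablePred q] :
    (∑ c, if q c then (1 : ℂ) else 0) = (Nat.card {c // q c} : ℂ) := by
  rw [Finset.sum_boole, Nat.card_eq_fintype_card, Fintype.card_subtype]

/-- The idempotent of the eigenvalue `p`. -/
noncomputable def eigMat (adj : X → X → Prop) (k : ℕ) (p w : ℂ) : Matrix X X ℂ :=
  (p + w)⁻¹ • (adjMat adj + w • 1 - (((k : ℂ) + w) / (Fintype.card X : ℂ)) • Matrix.of fun _ _ => 1)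

theorem eig_idem [Nonempty X] {adj : X → X → Prop} {k lam mu : ℕ} (h : SRG adj k lam mu) (p w : ℂ)
    (hd : p - w = (lam : ℂ) - mu) (hp : p * w = (k : ℂ) - mu) (hs : p + w ≠ 0) :
    eigMat adj k p w * eigMat adj k p w = eigMat adj k p w := by
  classical
  set M := adjMat adj with hM
  set J : Matrix X X ℂ := Matrix.of fun _ _ => 1 with hJ
  set n : ℂ := (Fintype.card X : ℂ) with hn
  have hn0 : n ≠ 0 := Nat.cast_ne_zero.2 Fintype.card_ne_zero
  have hMa : ∀ a b, M a b = if adj a b then 1 else 0 := fun a b => by simp [hM, adjMat]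
  have hMM : M * M = ((k : ℂ) - mu) • (1 : Matrix X X ℂ) + ((lam : ℂ) - mu) • M + (mu : ℂ) • J := by
    ext a b
    have e : (M * M) a b = (Nat.card {c // adj a c ∧ adj b c} : ℂ) := by
      rw [← sum_ite_card, Matrix.mul_apply]
      refine Finset.sum_congr rfl fun c _ => ?_
      have : adj c b ↔ adj b c := ⟨h.symm c b, h.symm b c⟩
      by_cases h1 : adj a c <;> by_cases h2 : adj b c <;> simp [hMa, h1, h2, this]
    rw [e]
    by_cases hab : a = b
    · subst hab
      simp [hMa, hJ, h.irrefl a, h.deg a, -Nat.card_eq_fintype_card]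
    · by_cases hR : adj a b
      · simp [hMa, hJ, hab, hR, h.lam_eq a b hR, -Nat.card_eq_fintype_card]
      · simp [hMa, hJ, hab, hR, h.mu_eq a b hab hR, -Nat.card_eq_fintype_card]
  have hMJ : M * J = (k : ℂ) • J := by
    ext a b
    simp only [Matrix.mul_apply, hMa, hJ, Matrix.of_apply, mul_one, Matrix.smul_apply, smul_eq_mul]
    rw [sum_ite_card (adj a), h.deg a]
  have hJM : J * M = (k : ℂ) • J := by
    ext a b
    simp only [Matrix.mul_apply, hMa, hJ, Matrix.of_apply, one_mul, mul_one, Matrix.smul_apply,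
      smul_eq_mul]
    rw [sum_ite_card (fun c => adj c b), ← h.deg b]
    exact congrArg _ (Nat.card_congr
      (Equiv.subtypeEquivRight fun c => ⟨h.symm c b, h.symm b c⟩))
  have hJJ : J * J = n • J := by
    ext a b
    simp [Matrix.mul_apply, hJ, hn]
  -- counting two-step walks from a point
  have key : (k : ℂ) * k = ((lam : ℂ) - mu) * k + ((k : ℂ) - mu) + mu * n := by
    obtain ⟨a⟩ := ‹Nonempty X›
    have e1 : (M * M) * J = ((k : ℂ) * k) • J := by
      rw [Matrix.mul_assoc, hMJ, mul_smul_comm, hMJ, smul_smul]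
    rw [hMM] at e1
    simp only [Matrix.add_mul, smul_mul_assoc, Matrix.one_mul, hMJ, hJJ, smul_smul] at e1
    have e2 := congrFun (congrFun e1 a) a
    simp [hJ] at e2
    linear_combination -e2
  have hA : eigMat adj k p w = (p + w)⁻¹ • (M + w • 1 - (((k : ℂ) + w) / n) • J) := rfl
  set c := ((k : ℂ) + w) / n with hc
  have hcn : c * n = (k : ℂ) + w := div_mul_cancel₀ _ hn0
  have hB : (M + w • (1 : Matrix X X ℂ) - c • J) * (M + w • 1 - c • J) =
      (p + w) • (M + w • 1 - c • J) := by
    simp only [Matrix.mul_add, Matrix.add_mul, Matrix.mul_sub, Matrix.sub_mul, smul_mul_assoc,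
      mul_smul_comm, Matrix.one_mul, Matrix.mul_one, hMM, hMJ, hJM, hJJ]
    have hcJ : (mu : ℂ) - 2 * c * k - 2 * c * w + c * c * n = -((p + w) * c) := by
      apply mul_right_cancel₀ hn0
      linear_combination (c * n - (k : ℂ) + p) * hcn - key + (k : ℂ) * hd + hp
    match_scalars <;> first
      | linear_combination -hd
      | linear_combination -hp
      | linear_combination hcJ
  rw [hA, smul_mul_smul_comm, hB, smul_smul]
  congr 1
  field_simp

omit [Finite U] in
theorem eig_comm [Fintype U] (adj : X → X → Prop)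
    (hinv : ∀ (u : U) (x y : X), adj x y → adj (u • x) (u • y))
    (chi : U →* ℂˣ) (k : ℕ) (p w : ℂ) : Commute (eigMat adj k p w) (proj X chi) := by
  refine Commute.smul_left (Commute.smul_right (Commute.sum_right _ _ _ fun u _ =>
    Commute.smul_right ?_ _) _) _
  ext a b
  rw [mul_perm_apply, perm_mul_apply]
  have e1 : adj a (u • b) ↔ adj (u⁻¹ • a) b :=
    ⟨fun h => by simpa using hinv u⁻¹ _ _ h, fun h => by simpa using hinv u _ _ h⟩
  have e2 : a = u • b ↔ u⁻¹ • a = b := (inv_smul_eq_iff).symm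
  simp only [adjMat, Matrix.sub_apply, Matrix.add_apply, Matrix.smul_apply, Matrix.one_apply,
    Matrix.of_apply, e2]
  by_cases hh : adj a (u • b)
  · simp [hh, e1.1 hh]
  · simp [hh, mt e1.2 hh]

theorem eig_trace [Fintype U] [Nonempty X] {adj : X → X → Prop} {k lam mu : ℕ}
    (h : SRG adj k lam mu) (hinv : ∀ (u : U) (x y : X), adj x y → adj (u • x) (u • y))
    (chi : U →* ℂˣ) [Decidable (chi = 1)] (p w : ℂ)
    (hd : p - w = (lam : ℂ) - mu) (hp : p * w = (k : ℂ) - mu) (hs : p + w ≠ 0) :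
    ∃ N : ℕ, (N : ℂ) * (p + w) + (if chi = 1 then (k : ℂ) + w else 0) =
        avg chi (fun u => (N1 adj u : ℂ) + w * (F X u : ℂ)) ∧
      (eigMat adj k p w * proj X chi ≠ 0 → 0 < N) := by
  classical
  have hcomm := eig_comm adj hinv chi k p w
  have hQ : (eigMat adj k p w * proj X chi) * (eigMat adj k p w * proj X chi) =
      eigMat adj k p w * proj X chi := by
    rw [hcomm.symm.mul_mul_mul_comm, eig_idem h p w hd hp hs, proj_idem]
  obtain ⟨N, hN, hpos⟩ := exists_trace _ hQ
  refine ⟨N, ?_, hpos⟩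
  rw [hN, trace_mul_proj, avg_eq, avg_eq, ← avg_const chi ((k : ℂ) + w), avg_eq,
    mul_assoc, ← mul_add]
  congr 1
  rw [Finset.sum_mul, ← Finset.sum_add_distrib]
  refine Finset.sum_congr rfl fun u _ => ?_
  rw [mul_assoc, ← mul_add]
  congr 1
  have hn0 : (Fintype.card X : ℂ) ≠ 0 := Nat.cast_ne_zero.2 Fintype.card_ne_zero
  have hF : (∑ a, (1 : Matrix X X ℂ) a (u • a)) = (F X u : ℂ) := by
    simp only [Matrix.one_apply]
    rw [sum_ite_card (fun a => a = u • a)]
    exact congrArg _ (Nat.card_congr (Equiv.subtypeEquivRight fun a => eq_comm))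
  have hN1 : (∑ a, adjMat adj a (u • a)) = (N1 adj u : ℂ) := by
    simp only [adjMat, Matrix.of_apply]
    exact sum_ite_card (fun a => adj a (u • a))
  have e : (∑ a, eigMat adj k p w a (u • a)) =
      (p + w)⁻¹ * ((N1 adj u : ℂ) + w * (F X u : ℂ) - ((k : ℂ) + w)) := by
    rw [← hF, ← hN1]
    simp only [eigMat, Matrix.smul_apply, Matrix.sub_apply, Matrix.add_apply, Matrix.of_apply,
      smul_eq_mul, mul_one]
    rw [← Finset.mul_sum, Finset.sum_sub_distrib, Finset.sum_add_distrib, Finset.sum_const,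
      ← Finset.mul_sum, Finset.card_univ, nsmul_eq_mul, mul_div_cancel₀ _ hn0]
  rw [e, mul_comm _ (p + w), ← mul_assoc, mul_inv_cancel₀ hs, one_mul, sub_add_cancel]

end Proj

variable {adj : X → X → Prop}

/-- The trace of the product of the two idempotents is a natural number. -/
theorem trace_nat [Nonempty X] {k lam mu : ℕ} (h : SRG adj k lam mu)
    (hinv : ∀ (u : U) (x y : X), adj x y → adj (u • x) (u • y))
    (chi : U →* ℂˣ) [Decidable (chi = 1)] (p w : ℂ)
    (hd : p - w = (lam : ℂ) - mu) (hp : p * w = (k : ℂ) - mu) (hs : p + w ≠ 0) :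
    ∃ N : ℕ, (N : ℂ) * (p + w) + (if chi = 1 then (k : ℂ) + w else 0) =
      avg chi (fun u => (N1 adj u : ℂ) + w * (F X u : ℂ)) := by
  classical
  have := Fintype.ofFinite U
  obtain ⟨N, hN, -⟩ := eig_trace h hinv chi p w hd hp hs
  exact ⟨N, hN⟩

/-- With a fixed point the trace for the trivial character is positive. -/
theorem trace_pos {k lam mu : ℕ} (h : SRG adj k lam mu)
    (hinv : ∀ (u : U) (x y : X), adj x y → adj (u • x) (u • y))
    {a : X} (ha : ∀ u : U, u • a = a) (p w : ℂ)
    (hd : p - w = (lam : ℂ) - mu) (hp : p * w = (k : ℂ) - mu) (hs : p + w ≠ 0)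
    (hne : (k : ℂ) + w ≠ (Fintype.card X : ℂ) * w) :
    ∃ N : ℕ, 0 < N ∧ (N : ℂ) * (p + w) + ((k : ℂ) + w) =
      avg (1 : U →* ℂˣ) (fun u => (N1 adj u : ℂ) + w * (F X u : ℂ)) := by
  classical
  have := Fintype.ofFinite U
  have : Nonempty X := ⟨a⟩
  obtain ⟨N, hN, hpos⟩ := eig_trace h hinv (1 : U →* ℂˣ) p w hd hp hs
  rw [if_pos rfl] at hN
  refine ⟨N, hpos fun h0 => hne ?_, hN⟩
  have e := congrFun (congrFun h0 a) a
  have hcol : ∀ b, proj X (1 : U →* ℂˣ) b a = if b = a then 1 else 0 := by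
    intro b
    simp only [proj, Matrix.smul_apply, Matrix.sum_apply, perm, Matrix.of_apply, ha,
      MonoidHom.one_apply, inv_one, Units.val_one, one_mul, smul_eq_mul, Finset.sum_const,
      Finset.card_univ, nsmul_eq_mul]
    rw [← Nat.card_eq_fintype_card, ← mul_assoc,
      inv_mul_cancel₀ (Nat.cast_ne_zero.2 Nat.card_pos.ne'), one_mul]
  simp [Matrix.mul_apply, hcol, eigMat, adjMat, h.irrefl a, hs] at e
  have hn0 : (Fintype.card X : ℂ) ≠ 0 := Nat.cast_ne_zero.2 Fintype.card_ne_zero
  field_simp at e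
  linear_combination -e

/-- The multiplicity of a linear character in the permutation character. -/
theorem perm_nat (chi : U →* ℂˣ) :
    ∃ phi : ℕ, (phi : ℂ) = avg chi (fun u => (F X u : ℂ)) ∧
      ((∃ x : X, ∀ u : U, u • x = x → u = 1) → 0 < phi) := by
  classical
  have := Fintype.ofFinite U
  obtain ⟨N, hN, hpos⟩ := exists_trace _ (proj_idem (X := X) chi)
  refine ⟨N, ?_, fun ⟨x, hx⟩ => hpos fun h0 => ?_⟩
  · rw [hN, ← Matrix.one_mul (proj X chi), trace_mul_proj]
    congr 1
    funext u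
    simp only [Matrix.one_apply]
    rw [sum_ite_card (fun a => a = u • a)]
    exact congrArg _ (Nat.card_congr (Equiv.subtypeEquivRight fun a => eq_comm))
  · have e := congrFun (congrFun h0 x) x
    simp only [proj, Matrix.smul_apply, Matrix.sum_apply, perm, Matrix.of_apply,
      smul_eq_mul, Matrix.zero_apply] at e
    rw [Finset.sum_eq_single (1 : U)] at e
    · simp at e
    · intro u _ hu
      rw [if_neg fun hux => hu (hx u hux.symm), mul_zero]
    · intro h; exact absurd (Finset.mem_univ _) h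

/-- An abelian group with a regular orbit has a small non-trivial multiplicity. -/
theorem exists_small_char (hcomm : ∀ a b : U, a * b = b * a) (hU : 1 < Nat.card U)
    (hreg : ∃ x : X, ∀ u : U, u • x = x → u = 1) :
    ∃ (chi : U →* ℂˣ) (phi : ℕ), chi ≠ 1 ∧ (phi : ℂ) = avg chi (fun u => (F X u : ℂ)) ∧ 0 < phi ∧
      phi * (Nat.card U - 1) ≤
        Fintype.card X - Nat.card (MulAction.orbitRel.Quotient U X) := by
  classical
  let : CommGroup U := { ‹Group U› with mul_comm := hcomm }
  have := Fintype.ofFinite U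
  have hcard : Nat.card (U →* ℂˣ) = Nat.card U :=
    CommGroup.card_monoidHom_of_hasEnoughRootsOfUnity U ℂ
  have : Finite (U →* ℂˣ) := Nat.finite_of_card_ne_zero (hcard ▸ Nat.card_pos.ne')
  have := Fintype.ofFinite (U →* ℂˣ)
  choose phi hphi hpos using fun chi : U →* ℂˣ => perm_nat (X := X) chi
  have hdual : ∀ u : U, ∑ chi : U →* ℂˣ, (((chi u)⁻¹ : ℂˣ) : ℂ) =
      if u = 1 then (Nat.card U : ℂ) else 0 := by
    intro u
    by_cases hu : u = 1
    · subst hu
      rw [if_pos rfl]
      simp [← Nat.card_eq_fintype_card, hcard]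
    · rw [if_neg hu]
      obtain ⟨c, hc⟩ := CommGroup.exists_apply_ne_one_of_hasEnoughRootsOfUnity U ℂ hu
      have e : (∑ chi : U →* ℂˣ, (((chi u)⁻¹ : ℂˣ) : ℂ)) * ((((c u)⁻¹ : ℂˣ) : ℂ) - 1) = 0 := by
        rw [mul_sub, mul_one, sub_eq_zero, Finset.sum_mul]
        refine Fintype.sum_equiv (Equiv.mulRight c) _ _ fun chi => ?_
        simp [_root_.mul_inv_rev, mul_comm]
      refine (mul_eq_zero.1 e).resolve_right fun h0 => hc ?_
      have h1 : (c u)⁻¹ = 1 := Units.val_inj.1 (by rw [Units.val_one]; exact sub_eq_zero.1 h0)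
      exact inv_eq_one.1 h1
  have hU0 : (Nat.card U : ℂ) ≠ 0 := Nat.cast_ne_zero.2 Nat.card_pos.ne'
  have hsum : ∑ chi, phi chi = Fintype.card X := by
    apply Nat.cast_injective (R := ℂ)
    rw [Nat.cast_sum]
    simp only [hphi, avg_eq]
    rw [← Finset.mul_sum, Finset.sum_comm]
    simp only [← Finset.sum_mul, hdual, ite_mul, zero_mul, Finset.sum_ite_eq', Finset.mem_univ,
      if_true]
    rw [← mul_assoc, inv_mul_cancel₀ hU0, one_mul]
    simp [F, Nat.card_eq_fintype_card]
  have hone : phi 1 = Nat.card (MulAction.orbitRel.Quotient U X) := by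
    apply Nat.cast_injective (R := ℂ)
    rw [hphi, avg_eq]
    simp only [MonoidHom.one_apply, inv_one, Units.val_one, one_mul]
    rw [← Nat.cast_sum, inv_mul_eq_iff_eq_mul₀ hU0, ← Nat.cast_mul]
    congr 1
    have hb := MulAction.sum_card_fixedBy_eq_card_orbits_mul_card_group U X
    rw [Nat.card_eq_fintype_card, Nat.card_eq_fintype_card, mul_comm, ← hb]
    exact Finset.sum_congr rfl fun u _ => by
      rw [F, Nat.card_eq_fintype_card]; rfl
  set S : Finset (U →* ℂˣ) := Finset.univ.erase 1 with hS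
  have hScard : S.card = Nat.card U - 1 := by
    rw [hS, Finset.card_erase_of_mem (Finset.mem_univ _), Finset.card_univ,
      ← Nat.card_eq_fintype_card, hcard]
  have hne : S.Nonempty := Finset.card_pos.1 (by omega)
  obtain ⟨chi, hchi, hmin⟩ := S.exists_min_image phi hne
  refine ⟨chi, phi chi, (Finset.mem_erase.1 hchi).1, hphi chi, hpos chi hreg, ?_⟩
  have h1 : S.card • phi chi ≤ ∑ c ∈ S, phi c := Finset.card_nsmul_le_sum S _ _ hmin
  have h2 := Finset.sum_erase_add Finset.univ phi (Finset.mem_univ (1 : U →* ℂˣ))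
  rw [hsum, hone, ← hS] at h2
  rw [smul_eq_mul, hScard, mul_comm] at h1
  omega

end Cfsg.Agent.Tsuzuku.Spectral
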