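import Mathlib
import Cfsg.Agent.Lib.Tsuzuku.Params
import Cfsg.Agent.Lib.Tsuzuku.Classes
import Cfsg.Agent.Lib.Tsuzuku.Arith
import Cfsg.Agent.Lib.Tsuzuku.Spectral

/-!
Tsuzuku's theorem: from the group to the arithmetic conditions.
-/

set_option autoImplicit false
set_option linter.unusedSectionVars false

open MulAction

namespace Cfsg.Agent.Tsuzuku.Setup

variable {G X : Type*} [Group G] [MulAction G X] [Finite G] [Fintype X] (S : Setup G X)

theorem srg : Spectral.SRG S.adj S.k S.lam S.mu where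
  symm _ _ h := S.symm h
  irrefl := S.irrefl
  deg := S.card_nbr
  lam_eq _ _ h := S.card_common_adj h
  mu_eq _ _ h h' := S.card_common_far h h'

theorem mu_lt_k : S.mu < S.k := by
  classical
  obtain ⟨x, h1, h2⟩ := S.exists_adj_not_adj (P := S.a) (R := S.c) ⟨S.hac, S.nac⟩
  rw [mu, k, Nat.card_eq_fintype_card, Nat.card_eq_fintype_card]
  refine Fintype.card_subtype_mono _ _ (fun y hy => hy.1) |>.lt_of_ne fun e => ?_
  rw [Fintype.card_subtype, Fintype.card_subtype] at e
  have h3 : x ∈ Finset.univ.filter fun y => S.adj S.a y ∧ S.adj S.c y :=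
    Finset.eq_of_subset_of_card_le (fun y hy => Finset.mem_filter.2
      ⟨Finset.mem_univ _, (Finset.mem_filter.1 hy).2.1⟩) e.symm.le ▸
      Finset.mem_filter.2 ⟨Finset.mem_univ _, h1⟩
  exact h2 (Finset.mem_filter.1 h3).2.2

/-- The trace condition for the trivial subgroup. -/
theorem trivial_trace (p w : ℂ) (h1 : p - w = (S.lam : ℂ) - S.mu) (h2 : p * w = (S.k : ℂ) - S.mu)
    (h3 : p + w ≠ 0) :
    ∃ N : ℕ, (N : ℂ) * (p + w) + S.k = w * ((S.k : ℂ) + S.l) := by
  classical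
  have : Nonempty X := ⟨S.a⟩
  have := Fintype.ofFinite (⊥ : Subgroup G)
  obtain ⟨N, hN⟩ := Spectral.trace_nat (U := (⊥ : Subgroup G)) S.srg
    (fun u x y h => S.smul_adj (u : G) h) 1 p w h1 h2 h3
  refine ⟨N, ?_⟩
  have hone : ∀ u : (⊥ : Subgroup G), ∀ x : X, u • x = x := fun u x => by
    show (u : G) • x = x
    rw [Subgroup.mem_bot.1 u.2, one_smul]
  have hF : ∀ u : (⊥ : Subgroup G), Spectral.F X u = Fintype.card X := fun u => by
    rw [Spectral.F, Nat.card_congr (Equiv.subtypeUnivEquiv (hone u)), Nat.card_eq_fintype_card]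
  have hN1 : ∀ u : (⊥ : Subgroup G), Spectral.N1 S.adj u = 0 := fun u => by
    rw [Spectral.N1, Nat.card_eq_zero]
    exact Or.inl ⟨fun x => S.irrefl x.1 (by simpa [hone u x.1] using x.2)⟩
  have hcard : Fintype.card (⊥ : Subgroup G) = 1 := by
    rw [← Nat.card_eq_fintype_card, Subgroup.card_bot]
  simp only [if_pos, Spectral.avg_eq, hF, hN1, MonoidHom.one_apply, inv_one, Units.val_one,
    Subgroup.card_bot, Finset.sum_const, Finset.card_univ, hcard, one_smul, one_mul,
    Nat.cast_one, Nat.cast_zero, zero_add] at hN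
  rw [S.card_X] at hN
  push_cast at hN
  linear_combination hN

theorem q_ne_d : S.q ≠ S.d := fun e => by
  have h1 := S.even_q
  rw [e] at h1
  exact Nat.not_odd_iff_even.2 h1 S.d_odd

/-- The eigenvalues are integers. -/
theorem exists_roots : ∃ p w : ℕ, 0 < p ∧ 0 < w ∧ S.lam + w = S.mu + p ∧ S.k = S.mu + p * w := by
  have hkm := S.mu_lt_k
  set r : ℤ := (S.lam : ℤ) - S.mu with hr
  set Dd : ℤ := r * r + 4 * ((S.k : ℤ) - S.mu) with hDd
  obtain ⟨s, hs⟩ := IsAlgClosed.exists_eq_mul_self (Dd : ℂ)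
  have hD : 0 < Dd := by
    have h1 : 0 ≤ r * r := mul_self_nonneg r
    omega
  have hs0 : s ≠ 0 := fun e => by
    rw [e, mul_zero, Int.cast_eq_zero] at hs
    omega
  have hrc : (r : ℂ) = (S.lam : ℂ) - S.mu := by rw [hr]; push_cast; ring
  obtain ⟨N, hN⟩ := S.trivial_trace ((r + s) / 2) ((-r + s) / 2) (by rw [← hrc]; ring)
    (by
      have h' : (Dd : ℂ) = (r : ℂ) * r + 4 * ((S.k : ℂ) - S.mu) := by rw [hDd]; push_cast; ring
      linear_combination (h' - hs) / 4)
    (by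
      rw [show ((r : ℂ) + s) / 2 + (-r + s) / 2 = s by ring]
      exact hs0)
  set A : ℤ := -2 * (S.k : ℤ) - r * ((S.k : ℤ) + S.l) with hA
  set B : ℤ := 2 * (N : ℤ) - ((S.k : ℤ) + S.l) with hB
  have hAB : (B : ℂ) * s = (A : ℂ) := by
    rw [hA, hB]
    push_cast
    linear_combination 2 * hN
  have hA0 : A ≠ 0 := fun e => by
    have hl := S.l_pos
    have hk := S.k_pos
    have h1 : r * ((S.k : ℤ) + S.l) = -(2 * (S.k : ℤ)) := by omega
    have h2 : r = -1 := by
      rcases lt_trichotomy r (-1) with h | h | h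
      · have h3 : r * ((S.k : ℤ) + S.l) ≤ -2 * ((S.k : ℤ) + S.l) :=
          mul_le_mul_of_nonneg_right (by omega) (by omega)
        omega
      · exact h
      · have h3 : 0 ≤ r * ((S.k : ℤ) + S.l) := mul_nonneg (by omega) (by omega)
        omega
    rw [h2] at h1
    have h3 : S.l = S.k := by omega
    exact S.q_ne_d (Nat.eq_of_mul_eq_mul_right hk (h3 ▸ S.q_mul_k))
  have hBz : B ≠ 0 := fun e => hA0 (by
    rw [e, Int.cast_zero, zero_mul] at hAB
    exact_mod_cast hAB.symm)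
  have hsq : B ^ 2 * Dd = A ^ 2 := by
    have h : ((B ^ 2 * Dd : ℤ) : ℂ) = ((A ^ 2 : ℤ) : ℂ) := by
      push_cast
      rw [hs, ← hAB]
      ring
    exact_mod_cast h
  obtain ⟨t₀, ht₀⟩ := (Int.pow_dvd_pow_iff two_ne_zero).1 (Dvd.intro Dd hsq)
  rw [ht₀, mul_pow] at hsq
  have hDt : Dd = t₀ ^ 2 := mul_left_cancel₀ (pow_ne_zero 2 hBz) hsq
  obtain ⟨t, ht, ht0⟩ : ∃ t : ℤ, Dd = t ^ 2 ∧ 0 ≤ t := ⟨|t₀|, by rw [sq_abs, hDt], abs_nonneg _⟩
  have hev : Even (t - r) := by
    by_contra ho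
    rw [Int.not_even_iff_odd] at ho
    obtain ⟨j, hj⟩ := ho
    have : (2 * j + 1) * (2 * j + 1 + 2 * r) = 4 * ((S.k : ℤ) - S.mu) := by
      rw [← hj]; linear_combination hDd - ht
    have h2 : 4 * ((S.k : ℤ) - S.mu) = 2 * (2 * j * j + 2 * j + 2 * r * j + r) + 1 := by
      rw [← this]; ring
    omega
  obtain ⟨j, hj⟩ := hev
  have hpw : (j + r) * j = (S.k : ℤ) - S.mu := by
    have : t = j + j + r := by omega
    rw [this] at ht
    linarith [show (j + j + r) ^ 2 = 4 * ((j + r) * j) + r * r by ring]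
  have hj0 : 0 < j := by
    by_contra h
    have h1 : (j + r) * j ≤ 0 := by
      rcases le_or_gt 0 (j + r) with h' | h'
      · exact mul_nonpos_of_nonneg_of_nonpos h' (by omega)
      · omega
    omega
  have hjr : 0 < j + r := by
    by_contra h
    have h1 : (j + r) * j ≤ 0 := mul_nonpos_of_nonpos_of_nonneg (by omega) hj0.le
    omega
  refine ⟨(j + r).toNat, j.toNat, by omega, by omega, by omega, ?_⟩
  have h1 : ((j + r).toNat : ℤ) = j + r := Int.toNat_of_nonneg hjr.le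
  have h2 : (j.toNat : ℤ) = j := Int.toNat_of_nonneg hj0.le
  have h3 : (((j + r).toNat * j.toNat : ℕ) : ℤ) = (S.k : ℤ) - S.mu := by
    rw [Nat.cast_mul, h1, h2, hpw]
  omega

theorem sum_N1_K [Fintype (S.K S.a)] :
    ∑ g : S.K S.a, Spectral.N1 S.adj g = S.k * (S.lam + S.q * S.Q₁) := by
  classical
  rw [← S.sum_moved]
  have e : {p : S.K S.a × X // S.adj p.2 ((p.1 : G) • p.2)} ≃
      Σ g : S.K S.a, {x : X // S.adj x (g • x)} :=
    { toFun := fun p => ⟨p.1.1, p.1.2, p.2⟩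
      invFun := fun p => ⟨(p.1, p.2.1), p.2.2⟩
      left_inv := fun _ => rfl
      right_inv := fun _ => rfl }
  rw [Nat.card_congr e, Nat.card_sigma]
  rfl

theorem sum_F_K [Fintype (S.K S.a)] :
    ∑ g : S.K S.a, Spectral.F X g = S.k * (S.q + 2) := by
  classical
  rw [← S.sum_fixed]
  have e : {p : S.K S.a × X // (p.1 : G) • p.2 = p.2} ≃
      Σ g : S.K S.a, {x : X // g • x = x} :=
    { toFun := fun p => ⟨p.1.1, p.1.2, p.2⟩
      invFun := fun p => ⟨(p.1, p.2.1), p.2.2⟩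
      left_inv := fun _ => rfl
      right_inv := fun _ => rfl }
  rw [Nat.card_congr e, Nat.card_sigma]
  rfl

/-- The trace condition for the kernel with the trivial character. -/
theorem kernel_trace (p w : ℂ) (h1 : p - w = (S.lam : ℂ) - S.mu) (h2 : p * w = (S.k : ℂ) - S.mu)
    (h3 : p + w ≠ 0) (h4 : (S.k : ℂ) + w ≠ (Fintype.card X : ℂ) * w) :
    ∃ N : ℕ, 0 < N ∧ (N : ℂ) * (p + w) + ((S.k : ℂ) + w) =
      (S.lam : ℂ) + S.q * S.Q₁ + w * ((S.q : ℂ) + 2) := by
  classical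
  have := Fintype.ofFinite (S.K S.a)
  obtain ⟨N, hN0, hN⟩ := Spectral.trace_pos (U := S.K S.a) S.srg
    (fun u x y h => S.smul_adj (u : G) h) (a := S.a) (fun u => S.K_fix u.2) p w h1 h2 h3 h4
  refine ⟨N, hN0, hN.trans ?_⟩
  have hk : (S.k : ℂ) ≠ 0 := Nat.cast_ne_zero.2 S.k_pos.ne'
  simp only [Spectral.avg_eq, MonoidHom.one_apply, inv_one, Units.val_one, one_mul]
  rw [Finset.sum_add_distrib, ← Finset.mul_sum, ← Nat.cast_sum, ← Nat.cast_sum, S.sum_N1_K,
    S.sum_F_K, S.card_K]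
  push_cast
  field_simp

/-- A small character of the kernel when there are no triangles. -/
theorem small_trace (hd : 1 < S.d) (hf : S.f = 0) (p w : ℕ) (hp : 0 < p) (hw : 0 < w)
    (h1 : S.lam + w = S.mu + p) (h2 : S.k = S.mu + p * w) :
    ∃ N φ : ℕ, 0 < φ ∧ N * (p + w) = w * φ ∧ φ * (S.k - 1) + (S.q + 2) ≤ Fintype.card X := by
  classical
  have : Nonempty X := ⟨S.a⟩
  have := Fintype.ofFinite (S.K S.a)
  have hk : 1 < S.k := by
    have := S.k_eq
    have := Nat.mul_pos (lt_trans Nat.zero_lt_one S.one_lt_h) S.e_pos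
    rw [Nat.mul_add] at *
    omega
  obtain ⟨χ, φ, hχ, hφ, hφ0, hle⟩ := Spectral.exists_small_char (U := S.K S.a) (X := X)
    (fun x y => Subtype.ext (S.K_comm x.2 y.2)) (by rw [S.card_K]; exact hk)
    ⟨S.b, fun u hu => Subtype.ext (S.K_no_fix u.2 S.hab hu)⟩
  have hpc : (p : ℂ) - w = (S.lam : ℂ) - S.mu := by
    have : (S.lam : ℂ) + w = S.mu + p := by exact_mod_cast h1
    linear_combination -this
  have hpw : (p : ℂ) * w = (S.k : ℂ) - S.mu := by
    have : (S.k : ℂ) = S.mu + p * w := by exact_mod_cast h2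
    linear_combination -this
  have hne : (p : ℂ) + w ≠ 0 := by
    rw [← Nat.cast_add, Nat.cast_ne_zero]; omega
  obtain ⟨N, hN⟩ := Spectral.trace_nat (U := S.K S.a) S.srg
    (fun u x y h => S.smul_adj (u : G) h) χ (p : ℂ) (w : ℂ) hpc hpw hne
  have hN1 : ∀ g : S.K S.a, Spectral.N1 S.adj g = 0 := fun g => by
    have h := S.sum_N1_K
    rw [S.Q₁_eq_zero hd, S.lam_eq, hf] at h
    simp only [Nat.mul_zero, Nat.add_zero, Finset.sum_eq_zero_iff, Finset.mem_univ,
      forall_const] at h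
    exact h g
  refine ⟨N, φ, hφ0, ?_, ?_⟩
  · rw [if_neg hχ, add_zero] at hN
    have h : (N : ℂ) * ((p : ℂ) + w) = (w : ℂ) * φ := by
      rw [hN, hφ, Spectral.avg_eq, Spectral.avg_eq]
      simp only [hN1, Nat.cast_zero, zero_add]
      rw [Finset.mul_sum, Finset.mul_sum, Finset.mul_sum]
      exact Finset.sum_congr rfl fun u _ => by ring
    exact_mod_cast h
  · rw [S.card_K, S.orbits_eq] at hle
    have h3 : S.q + 2 ≤ Fintype.card X := by
      rw [← S.orbits_eq, ← Nat.card_eq_fintype_card]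
      exact Nat.card_le_card_of_surjective (fun x => Quotient.mk'' x)
        (fun o => Quotient.inductionOn' o fun x => ⟨x, rfl⟩)
    omega

/-- The arithmetic data of the group. -/
theorem exists_data : ∃ D : Arith.Data,
    D.n = Fintype.card X ∧ D.k = S.k ∧ D.h = S.h := by
  obtain ⟨p, w, hp, hw, h1, h2⟩ := S.exists_roots
  have hpc : (p : ℂ) - w = (S.lam : ℂ) - S.mu := by
    have : (S.lam : ℂ) + w = S.mu + p := by exact_mod_cast h1
    linear_combination -this
  have hpw : (p : ℂ) * w = (S.k : ℂ) - S.mu := by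
    have : (S.k : ℂ) = S.mu + p * w := by exact_mod_cast h2
    linear_combination -this
  have hne : (p : ℂ) + w ≠ 0 := by
    rw [← Nat.cast_add, Nat.cast_ne_zero]; omega
  have hX := S.card_X
  have hl := S.l_pos
  have hk := S.k_pos
  have hmult : ∃ N, N * (p + w) + S.k = w * (S.k + S.l) := by
    obtain ⟨N, hN⟩ := S.trivial_trace p w hpc hpw hne
    exact ⟨N, by exact_mod_cast hN⟩
  have hmult₁ : ∃ N, 0 < N ∧ N * (p + w) + S.k = S.h * S.f + S.q * S.Q₁ + w * (S.q + 1) := by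
    obtain ⟨N, h0, hN⟩ := S.kernel_trace p w hpc hpw hne (by
      intro e
      have e' : S.k + w = Fintype.card X * w := by exact_mod_cast e
      rw [hX, Nat.add_mul, Nat.add_mul, Nat.one_mul] at e'
      have := Nat.mul_le_mul_left S.k hw
      have := Nat.mul_pos hl hw
      omega)
    rw [S.lam_eq] at hN
    refine ⟨N, h0, ?_⟩
    have : N * (p + w) + (S.k + w) = S.h * S.f + S.q * S.Q₁ + w * (S.q + 2) := by exact_mod_cast hN
    rw [Nat.mul_add w S.q 2] at this
    rw [Nat.mul_add w S.q 1]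
    omega
  have hmult₂ : ∃ N, 0 < N ∧ N * (p + w) + (S.h * S.f + S.q * S.Q₁) = S.k + p * (S.q + 1) := by
    obtain ⟨N, h0, hN⟩ := S.kernel_trace (-(w : ℂ)) (-(p : ℂ)) (by linear_combination hpc)
      (by linear_combination hpw) (fun e => hne (by linear_combination -e)) (by
        intro e
        have e' : ((S.k + Fintype.card X * p : ℕ) : ℂ) = ((p : ℕ) : ℂ) := by
          push_cast; linear_combination e
        have e'' := Nat.cast_inj.1 e'
        rw [hX, Nat.add_mul, Nat.add_mul] at e''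
        omega)
    rw [S.lam_eq] at hN
    refine ⟨N, h0, ?_⟩
    have : ((N * (p + w) + (S.h * S.f + S.q * S.Q₁) : ℕ) : ℂ) =
        ((S.k + p * (S.q + 1) : ℕ) : ℂ) := by
      push_cast at hN ⊢; linear_combination -hN
    exact Nat.cast_inj.1 this
  have hmu : S.mu = S.d * S.c' * S.e := by rw [S.mu_eq, S.m_eq]
  refine ⟨{
    n := Fintype.card X, k := S.k, l := S.l, h := S.h, c := S.c', q := S.q, d := S.d, e := S.e,
    f := S.f, u := S.u, w' := S.w', F := S.F, M := Fintype.card X - S.F - S.N₁, Q := S.Q₁,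
    p := p, w := w
    hn := hX
    hh := S.q_mul_c'.symm
    hql := S.q_mul_k
    hk := S.k_eq
    d_odd := S.d_odd
    d_dvd := S.d_dvd_k
    k_odd := S.k_odd
    q_even := S.even_q
    q_pos := S.q_pos
    c_pos := S.c'_pos
    e_pos := S.e_pos
    split := by have h3 := S.F_add_N₁_le; rw [← S.N₁_eq]; omega
    hM := S.moved_far_eq
    u_le := S.u_le
    w_le := S.m_eq ▸ S.w'_le
    c_dvd := S.c'_dvd_pred
    sq_dvd := S.sq_d_dvd_k
    c_dvd_Q := S.c'_dvd_Q₁
    Q_zero := S.Q₁_eq_zero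
    F_odd := fun hc => by rw [S.F_eq, if_neg (Nat.not_even_iff_odd.2 hc)]
    F_even := fun hc => by rw [S.F_eq, if_pos hc]
    N₁_even := fun hc => by rw [← S.N₁_eq, S.N₁_formula hc, S.lam_eq]
    p_pos := hp
    w_pos := hw
    hsum := by rw [← S.lam_eq, ← hmu]; exact h1
    hprod := by rw [← hmu]; exact h2
    mult := hmult
    mult₁ := hmult₁
    mult₂ := hmult₂
    small := fun hd _ hf => S.small_trace hd hf p w hp hw h1 h2
    coset₁ := fun hd hc hb => S.w'_full_of_d_one hd hc hb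
    u_le_c := fun hd hc => S.u_le_c' hd hc
    u_full := fun hd hc hb => (S.u_full hd hc hb).1
    no_two_four := fun hd hq hc hu => S.not_q_two_four hd hq hc hu }, rfl, rfl, rfl⟩

end Cfsg.Agent.Tsuzuku.Setup
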