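import Mathlib
import Cfsg.Agent.S0547
import Cfsg.Agent.S0144

/-!
Tsuzuku's theorem: recognising the surviving groups.
-/

set_option autoImplicit false

open MulAction

namespace Cfsg.Agent.Tsuzuku

variable {G : Type*} [Group G] [Finite G]

theorem sylow_card_prime {p r : ℕ} [Fact p.Prime] (hG : Nat.card G = p * r) (hr : ¬ p ∣ r)
    (P : Sylow p G) : Nat.card (P : Subgroup G) = p := by
  have hr0 : r ≠ 0 := fun e => hr (e ▸ dvd_zero p)
  rw [P.card_eq_multiplicity, hG, Nat.factorization_mul (Fact.out : p.Prime).ne_zero hr0]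
  simp [(Fact.out : p.Prime).factorization_self, Nat.factorization_eq_zero_of_not_dvd hr]

theorem sylow_count {p r : ℕ} [Fact p.Prime] (hG : Nat.card G = p * r) (hr : ¬ p ∣ r) :
    Nat.card (Sylow p G) ∣ r ∧ Nat.card (Sylow p G) % p = 1 := by
  obtain ⟨P⟩ := Sylow.nonempty (p := p) (G := G)
  have h1 := (P : Subgroup G).card_mul_index
  rw [sylow_card_prime hG hr P, hG] at h1
  refine ⟨Nat.eq_of_mul_eq_mul_left (Fact.out : p.Prime).pos h1 ▸ P.card_dvd_index, ?_⟩
  have h2 := card_sylow_modEq_one p G
  rw [Nat.ModEq, Nat.one_mod_eq_one.2 (Fact.out : p.Prime).ne_one] at h2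
  exact h2

theorem card_order_prime {p r : ℕ} [Fact p.Prime] (hG : Nat.card G = p * r) (hr : ¬ p ∣ r) :
    Nat.card (Sylow p G) * (p - 1) ≤ Nat.card {x : G // orderOf x = p} := by
  classical
  have := Fintype.ofFinite (Sylow p G)
  have hp := (Fact.out : p.Prime)
  have h1 : ∀ P : Sylow p G, Nat.card {x : (P : Subgroup G) // x ≠ 1} = p - 1 := fun P => by
    have := Fintype.ofFinite (P : Subgroup G)
    rw [Nat.card_eq_fintype_card, Fintype.card_subtype_compl, Fintype.card_subtype_eq,
      ← Nat.card_eq_fintype_card, sylow_card_prime hG hr P]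
  have hord : ∀ (P : Sylow p G) (x : (P : Subgroup G)), x ≠ 1 → orderOf (x : G) = p := fun P x hx => by
    rw [Subgroup.orderOf_coe]
    have h2 : orderOf x ∣ p := by
      have h := orderOf_dvd_natCard x
      rwa [sylow_card_prime hG hr P] at h
    exact ((Nat.dvd_prime hp).1 h2).resolve_left fun e => hx (orderOf_eq_one_iff.1 e)
  have hz : ∀ (P : Sylow p G) (x : (P : Subgroup G)), x ≠ 1 →
      (P : Subgroup G) = Subgroup.zpowers (x : G) := fun P x hx => by
    refine (Subgroup.eq_of_le_of_card_ge (Subgroup.zpowers_le.2 x.2) ?_).symm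
    rw [Nat.card_zpowers, hord P x hx, sylow_card_prime hG hr P]
  have hinj : Function.Injective (fun s : Σ P : Sylow p G, {x : (P : Subgroup G) // x ≠ 1} =>
      (⟨(s.2.1 : G), hord s.1 s.2.1 s.2.2⟩ : {x : G // orderOf x = p})) := by
    rintro ⟨P, x⟩ ⟨P', x'⟩ e
    have e' : ((x.1 : G)) = (x'.1 : G) := congrArg Subtype.val e
    obtain rfl : P = P' := Sylow.ext (by rw [hz P x.1 x.2, hz P' x'.1 x'.2, e'])
    exact congrArg (Sigma.mk P) (Subtype.ext (Subtype.ext e'))
  have := Nat.card_le_card_of_injective _ hinj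
  rwa [Nat.card_sigma, Finset.sum_const_nat (fun P _ => h1 P), Finset.card_univ,
    ← Nat.card_eq_fintype_card] at this

variable {X : Type*} [Fintype X] [MulAction G X] [FaithfulSMul G X]

theorem normal_transitive (hprim : IsPreprimitive G X) (N : Subgroup G) [N.Normal] (hN : N ≠ ⊥) :
    IsPretransitive N X := by
  have := hprim
  refine IsQuasiPreprimitive.isPretransitive_of_normal (G := G) fun h => hN ?_
  refine le_bot_iff.1 fun g hg => ?_
  refine eq_of_smul_eq_smul (α := X) fun x => ?_
  rw [one_smul]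
  exact (Set.eq_univ_iff_forall.1 h x) ⟨g, hg⟩

theorem card_dvd_normal (hprim : IsPreprimitive G X) (N : Subgroup G) [N.Normal] (hN : N ≠ ⊥) :
    Fintype.card X ∣ Nat.card N := by
  have := hprim.toIsPretransitive
  have := normal_transitive hprim N hN
  rcases isEmpty_or_nonempty X with h | ⟨⟨x⟩⟩
  · exact absurd (le_bot_iff.1 fun g _ => Subgroup.mem_bot.2
      (eq_of_smul_eq_smul (α := X) fun x => (h.false x).elim)) hN
  refine ⟨Nat.card (stabilizer N x), ?_⟩
  rw [← (stabilizer N x).card_mul_index, index_stabilizer, orbit_eq_univ, Set.ncard_univ,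
    Nat.card_eq_fintype_card (α := X), mul_comm]

/-- A primitive group of order 60 on ten points is simple. -/
theorem simple_sixty (hprim : IsPreprimitive G X) (hG : Nat.card G = 60)
    (hX : Fintype.card X = 10) : IsSimpleGroup G := by
  have : Nontrivial G := Finite.one_lt_card_iff_nontrivial.1 (by omega)
  refine ⟨fun N hN => ?_⟩
  by_contra hne
  push Not at hne
  obtain ⟨hb, ht⟩ := hne
  have h10 : 10 ∣ Nat.card N := hX ▸ card_dvd_normal hprim N hb
  have h60 : Nat.card N ∣ 60 := hG ▸ N.card_subgroup_dvd_card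
  have hlt : Nat.card N < 60 := hG ▸ lt_of_le_of_ne
    (Nat.le_of_dvd Nat.card_pos N.card_subgroup_dvd_card) fun e => ht (N.eq_top_of_card_eq e)
  -- a normal Sylow subgroup of `N` is too small to be transitive
  have hsmall : ∀ (p r : ℕ) (_ : Fact p.Prime), Nat.card N = p * r → ¬ p ∣ r → ¬ 10 ∣ p →
      Nat.card (Sylow p N) ≠ 1 := by
    intro p r _ hc hr hp10 h1
    obtain ⟨P⟩ := Sylow.nonempty (p := p) (G := N)
    have : Subsingleton (Sylow p N) := (Nat.card_eq_one_iff_unique.1 h1).1
    have := P.normal_of_subsingleton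
    have := P.characteristic_of_normal this
    have hcard : Nat.card ((P : Subgroup N).map N.subtype) = p := by
      rw [Subgroup.card_map_of_injective N.subtype_injective, sylow_card_prime hc hr P]
    have hne : (P : Subgroup N).map N.subtype ≠ ⊥ := fun e => by
      rw [e, Subgroup.card_bot] at hcard
      exact (Fact.out : p.Prime).ne_one hcard.symm
    exact hp10 (hcard ▸ hX ▸ card_dvd_normal hprim _ hne)
  obtain ⟨r, hr⟩ := h10
  have hr6 : r < 6 := by omega
  have : Fact (Nat.Prime 5) := ⟨by norm_num⟩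
  interval_cases r
  · exact absurd hr (by have := Nat.card_pos (α := N); omega)
  · obtain ⟨hd, hm⟩ := sylow_count (p := 5) (r := 2) (G := N) hr (by norm_num)
    have := Nat.le_of_dvd (by norm_num) hd
    exact hsmall 5 2 inferInstance hr (by norm_num) (by norm_num) (by omega)
  · obtain ⟨hd, hm⟩ := sylow_count (p := 5) (r := 4) (G := N) hr (by norm_num)
    have := Nat.le_of_dvd (by norm_num) hd
    exact hsmall 5 4 inferInstance hr (by norm_num) (by norm_num) (by omega)
  · have hr' : Nat.card N = 5 * 6 := hr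
    have hr3 : Nat.card N = 3 * 10 := hr
    have h5 := hsmall 5 6 inferInstance hr' (by norm_num) (by norm_num)
    have h3' : Fact (Nat.Prime 3) := ⟨Nat.prime_three⟩
    have h3 := hsmall 3 10 h3' hr3 (by norm_num) (by norm_num)
    obtain ⟨hd5, hm5⟩ := sylow_count (p := 5) hr' (by norm_num)
    obtain ⟨hd3, hm3⟩ := sylow_count (p := 3) hr3 (by norm_num)
    have e5 : Nat.card (Sylow 5 N) = 6 := by
      have := Nat.le_of_dvd (by norm_num) hd5
      omega
    have e3 : Nat.card (Sylow 3 N) = 10 := by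
      have := Nat.le_of_dvd (by norm_num) hd3
      interval_cases h : Nat.card (Sylow 3 N) <;> first | omega | norm_num at hd3
    have c5 := card_order_prime (p := 5) hr' (by norm_num)
    have c3 := card_order_prime (p := 3) hr3 (by norm_num)
    rw [e5] at c5
    rw [e3] at c3
    have hsum : Nat.card ({x : N // orderOf x = 5} ⊕ {x : N // orderOf x = 3}) ≤ Nat.card N := by
      refine Nat.card_le_card_of_injective (Sum.elim Subtype.val Subtype.val) ?_
      rintro (x | x) (y | y) e
      · exact congrArg Sum.inl (Subtype.ext e)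
      · exact absurd (x.2.symm.trans ((congrArg orderOf e).trans y.2)) (by norm_num)
      · exact absurd (x.2.symm.trans ((congrArg orderOf e).trans y.2)) (by norm_num)
      · exact congrArg Sum.inr (Subtype.ext e)
    rw [Nat.card_sum] at hsum
    omega
  · norm_num [hr] at h60
  · norm_num [hr] at h60

/-- A solvable primitive group on sixteen points has a regular normal subgroup of order sixteen. -/
theorem regular_sixteen (hprim : IsPreprimitive G X) [Group.IsSolvable G]
    (hX : Fintype.card X = 16) :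
    ∃ N : Subgroup G, N.Normal ∧ Nat.card N = 16 ∧ ∀ x y : X, ∃! n : ↥N, (n : G) • x = y := by
  classical
  have := hprim.toIsPretransitive
  obtain ⟨x₀⟩ : Nonempty X := Fintype.card_pos_iff.1 (by omega)
  have : Nontrivial X := Fintype.one_lt_card_iff_nontrivial.1 (by omega)
  have hGne : (⊤ : Subgroup G) ≠ ⊥ := fun e => by
    obtain ⟨y, hy⟩ := exists_ne x₀
    obtain ⟨g, hg⟩ := exists_smul_eq G x₀ y
    have : g = 1 := Subgroup.mem_bot.1 (e ▸ Subgroup.mem_top g)
    rw [this, one_smul] at hg
    exact hy hg.symm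
  obtain ⟨M, ⟨hMn, hM⟩, hmin⟩ := (Set.toFinite {K : Subgroup G | K.Normal ∧ K ≠ ⊥}).exists_minimal
    ⟨⊤, inferInstance, hGne⟩
  have := hMn
  obtain ⟨htr, hreg, p, e, -, -, hcX, hcM⟩ := Cfsg.Agent.S0547.result hprim M hM
    (fun K hK hle => or_iff_not_imp_left.2 fun hne => le_antisymm hle (hmin ⟨hK, hne⟩ hle))
  refine ⟨M, hMn, ?_, fun x y => ?_⟩
  · rw [hcM, ← hcX, Nat.card_eq_fintype_card, hX]
  · obtain ⟨n, hn⟩ := exists_smul_eq M x y
    refine ⟨n, hn, fun n' hn' => ?_⟩
    have h1 : n⁻¹ * n' ∈ stabilizer M x := by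
      rw [mem_stabilizer_iff, mul_smul, show n' • x = y from hn', ← hn, inv_smul_smul]
    rw [hreg, Subgroup.mem_bot, inv_mul_eq_one] at h1
    exact h1.symm

end Cfsg.Agent.Tsuzuku
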