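import Mathlib
import Cfsg.Agent.Lib.Tsuzuku.Setup

/-!
The setting of Tsuzuku's theorem from a primitive rank three action with a Frobenius suborbit.
-/

set_option autoImplicit false

open MulAction
open scoped Pointwise

namespace Cfsg.Agent.Tsuzuku

variable {G X : Type*} [Group G] [MulAction G X]

/-- If a symmetric invariant relation together with equality is transitive, its classes are blocks;
in a primitive action the relation is then empty or total. -/
theorem class_trivial (hprim : IsPreprimitive G X) (R : X → X → Prop)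
    (hR : ∀ (g : G) x y, R x y → R (g • x) (g • y)) (hrefl : ∀ x, R x x)
    (hsymm : ∀ x y, R x y → R y x) (htrans : ∀ x y z, R x y → R y z → R x z) (A : X) :
    (∀ x, R A x → x = A) ∨ ∀ x, R A x := by
  have hmem : ∀ (g : G) x, x ∈ g • {y | R A y} ↔ R (g • A) x := fun g x => by
    rw [Set.mem_smul_set_iff_inv_smul_mem, Set.mem_ofPred_eq]
    constructor
    · intro h; simpa using hR g _ _ h
    · intro h; simpa using hR g⁻¹ _ _ h
  have hblock : IsBlock G {y | R A y} := by
    rw [isBlock_iff_smul_eq_smul_of_nonempty]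
    rintro g₁ g₂ ⟨x, h1, h2⟩
    rw [hmem] at h1 h2
    ext y
    rw [hmem, hmem]
    have h3 : R (g₁ • A) (g₂ • A) := htrans _ _ _ h1 (hsymm _ _ h2)
    exact ⟨fun h => htrans _ _ _ (hsymm _ _ h3) h, fun h => htrans _ _ _ h3 h⟩
  rcases hprim.isTrivialBlock_of_isBlock hblock with h | h
  · exact Or.inl fun x hx => h hx (hrefl A)
  · exact Or.inr fun x => (Set.eq_univ_iff_forall.1 h x : _)

variable [Finite G]

theorem exists_third (A B : X) (hBA : B ≠ A)
    (h3 : Nat.card (orbitRel.Quotient ↥(stabilizer G A) X) = 3) :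
    ∃ C, A ≠ C ∧ (¬ ∃ g : G, g • A = A ∧ g • B = C) ∧
      ∀ y, y ≠ A → (∃ g : G, g • A = A ∧ g • B = y) ∨ ∃ g : G, g • A = A ∧ g • C = y := by
  classical
  let π : X → orbitRel.Quotient ↥(stabilizer G A) X := fun x => Quotient.mk'' x
  have hπ : ∀ x y, π x = π y → ∃ g : G, g • A = A ∧ g • y = x := fun x y e => by
    obtain ⟨g, hg⟩ := Quotient.eq''.1 e
    exact ⟨g.1, g.2, hg⟩
  have hπ' : ∀ (g : G) y, g • A = A → π (g • y) = π y := fun g y hg =>
    Quotient.eq''.2 ⟨⟨g, hg⟩, rfl⟩
  have hA : ∀ x, π x = π A → x = A := fun x e => by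
    obtain ⟨g, h1, h2⟩ := hπ x A e
    exact h2.symm.trans h1
  have hAB : π A ≠ π B := fun e => hBA (hA B e.symm)
  have : Finite (orbitRel.Quotient ↥(stabilizer G A) X) := Nat.finite_of_card_ne_zero (by omega)
  have := Fintype.ofFinite (orbitRel.Quotient ↥(stabilizer G A) X)
  obtain ⟨o, ho⟩ : ∃ o, o ∉ ({π A, π B} : Finset _) := by
    by_contra h
    push Not at h
    have h1 := Finset.card_le_card (fun o (_ : o ∈ Finset.univ) => h o)
    rw [Finset.card_univ, ← Nat.card_eq_fintype_card, h3, Finset.card_pair hAB] at h1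
    omega
  induction o using Quotient.inductionOn' with
  | h C =>
    simp only [Finset.mem_insert, Finset.mem_singleton, not_or] at ho
    obtain ⟨ho1, ho2⟩ := ho
    refine ⟨C, fun e => ho1 (congrArg π e).symm, fun ⟨g, h1, h2⟩ => ho2 ?_, fun y hy => ?_⟩
    · show π C = π B
      rw [← h2, hπ' g B h1]
    · have huniv : ({π A, π B, π C} : Finset _) = Finset.univ := by
        refine Finset.eq_univ_of_card _ ?_
        rw [Finset.card_insert_of_notMem, Finset.card_pair (Ne.symm ho2 : π B ≠ π C),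
          ← Nat.card_eq_fintype_card, h3]
        simp only [Finset.mem_insert, Finset.mem_singleton, not_or]
        exact ⟨hAB, (Ne.symm ho1 : π A ≠ π C)⟩
      have hy' : π y ∈ ({π A, π B, π C} : Finset _) := huniv ▸ Finset.mem_univ _
      simp only [Finset.mem_insert, Finset.mem_singleton] at hy'
      rcases hy' with h | h | h
      · exact absurd (hA y h) hy
      · exact Or.inl (hπ y B h)
      · exact Or.inr (hπ y C h)

/-- The setting attached to a primitive rank three group with a Frobenius suborbit. -/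
theorem exists_setup [FaithfulSMul G X] (heven : Even (Nat.card G))
    (hprim : IsPreprimitive G X) (A : X)
    (h3 : Nat.card (orbitRel.Quotient ↥(stabilizer G A) X) = 3) (B : X) (hBA : B ≠ A)
    (hfix : ∃ g ∈ stabilizer G A, g ≠ 1 ∧ g • B = B)
    (hfrob : ∀ g ∈ stabilizer G A, ∀ h ∈ stabilizer G A,
      g • B = B → g • (h • B) = h • B → h • B ≠ B → g = 1) :
    Nonempty (Setup G X) := by
  classical
  have := hprim.toIsPretransitive
  obtain ⟨C, hAC, hBC, horb⟩ := exists_third A B hBA h3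
  let adj : X → X → Prop := fun x y => ∃ g : G, g • A = x ∧ g • B = y
  have hsmul : ∀ (g : G) {x y}, adj x y → adj (g • x) (g • y) := by
    rintro g x y ⟨u, rfl, rfl⟩
    exact ⟨g * u, mul_smul g u A, mul_smul g u B⟩
  have hswap : ∃ s : G, s • A = B ∧ s • B = A := by
    have : Fact (Nat.Prime 2) := ⟨Nat.prime_two⟩
    obtain ⟨t, ht⟩ := exists_prime_orderOf_dvd_card' (G := G) 2 (even_iff_two_dvd.1 heven)
    obtain ⟨x, hx⟩ : ∃ x : X, t • x ≠ x := by
      by_contra h
      push Not at h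
      have h1 : t = 1 := eq_of_smul_eq_smul fun x : X => by rw [h x, one_smul]
      rw [h1, orderOf_one] at ht
      exact absurd ht (by norm_num)
    obtain ⟨g, hg⟩ := exists_smul_eq G x A
    have htt : t * t = 1 := by rw [← pow_two, ← ht, pow_orderOf_eq_one]
    let y := g • t • x
    have hy : y ≠ A := fun e => hx (MulAction.injective g (e.trans hg.symm))
    have hsA : (g * t * g⁻¹) • A = y := by
      rw [mul_smul, mul_smul, ← hg, inv_smul_smul]
    have hsy : (g * t * g⁻¹) • y = A := by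
      rw [mul_smul, mul_smul, inv_smul_smul, ← mul_smul t t, htt, one_smul, hg]
    rcases horb y hy with ⟨u, hu1, hu2⟩ | ⟨u, hu1, hu2⟩
    · refine ⟨u⁻¹ * (g * t * g⁻¹) * u, ?_, ?_⟩
      · rw [mul_smul, mul_smul, hu1, hsA, inv_smul_eq_iff, hu2]
      · rw [mul_smul, mul_smul, hu2, hsy, inv_smul_eq_iff, hu1]
    · -- the swap of `A` and `C`
      obtain ⟨s, hsA', hsC⟩ : ∃ s : G, s • A = C ∧ s • C = A := by
        refine ⟨u⁻¹ * (g * t * g⁻¹) * u, ?_, ?_⟩
        · rw [mul_smul, mul_smul, hu1, hsA, inv_smul_eq_iff, hu2]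
        · rw [mul_smul, mul_smul, hu2, hsy, inv_smul_eq_iff, hu1]
      obtain ⟨v, hv⟩ := exists_smul_eq G B A
      have hvA : v • A ≠ A := fun e => hBA (MulAction.injective v (hv.trans e.symm))
      rcases horb _ hvA with ⟨w, hw1, hw2⟩ | ⟨w, hw1, hw2⟩
      · refine ⟨w⁻¹ * v, ?_, ?_⟩
        · rw [mul_smul, inv_smul_eq_iff, hw2]
        · rw [mul_smul, hv, inv_smul_eq_iff, hw1]
      · refine absurd ⟨(s * (w⁻¹ * v)), ?_, ?_⟩ hBC
        · rw [mul_smul, mul_smul, ← hw2, inv_smul_smul, hsC]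
        · rw [mul_smul, mul_smul, hv, inv_smul_eq_iff.2 hw1.symm, hsA']
  obtain ⟨s, hs1, hs2⟩ := hswap
  have hsymm : ∀ {x y}, adj x y → adj y x := by
    rintro x y ⟨u, rfl, rfl⟩
    exact ⟨u * s, by rw [mul_smul, hs1], by rw [mul_smul, hs2]⟩
  have hirr : ∀ x, ¬ adj x x := by
    rintro x ⟨u, h1, h2⟩
    exact hBA (MulAction.injective u (h2.trans h1.symm))
  have htoC : ∀ {x y}, x ≠ y → ¬ adj x y → ∃ g : G, g • A = x ∧ g • C = y := by
    intro x y hne hn
    obtain ⟨u, hu⟩ := exists_smul_eq G A x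
    have hy : u⁻¹ • y ≠ A := fun e => hne (by rw [← hu, ← e, smul_inv_smul])
    rcases horb _ hy with ⟨w, hw1, hw2⟩ | ⟨w, hw1, hw2⟩
    · exact absurd ⟨u * w, by rw [mul_smul, hw1, hu], by rw [mul_smul, hw2, smul_inv_smul]⟩ hn
    · exact ⟨u * w, by rw [mul_smul, hw1, hu], by rw [mul_smul, hw2, smul_inv_smul]⟩
  have hnAC : ¬ adj A C := hBC
  obtain ⟨g₀, hg₀A, hg₀1, hg₀B⟩ := hfix
  -- primitivity
  have hAB : adj A B := ⟨1, one_smul G A, one_smul G B⟩
  have htwo : ∃ y z, adj A y ∧ adj y z ∧ A ≠ z ∧ ¬ adj A z := by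
    by_contra hn
    push Not at hn
    have hall : ∀ x y z, adj x y → adj y z → x = z ∨ adj x z := by
      intro x y z h1 h2
      obtain ⟨u, hu⟩ := exists_smul_eq G x A
      by_cases hxz : x = z
      · exact Or.inl hxz
      · refine Or.inr ?_
        have := hn (u • y) (u • z) (hu ▸ hsmul u h1) (hsmul u h2)
          (fun e => hxz (MulAction.injective u (hu.trans e)))
        simpa [← hu] using hsmul u⁻¹ this
    rcases class_trivial hprim (fun x y => x = y ∨ adj x y)
      (fun g x y h => h.elim (fun e => Or.inl (e ▸ rfl)) (fun h => Or.inr (hsmul g h)))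
      (fun x => Or.inl rfl) (fun x y h => h.elim (fun e => Or.inl e.symm) (fun h => Or.inr (hsymm h)))
      (fun x y z h1 h2 => by
        rcases h1 with rfl | h1
        · exact h2
        rcases h2 with rfl | h2
        · exact Or.inr h1
        exact hall x y z h1 h2) A with h | h
    · exact hBA (h B (Or.inr hAB))
    · rcases h C with h | h
      · exact hAC h
      · exact hnAC h
  have hfar : ∀ P, ∃ R R', P ≠ R ∧ ¬ adj P R ∧ adj R R' ∧ P ≠ R' ∧ ¬ adj P R' := by
    by_contra hn
    push Not at hn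
    obtain ⟨P, hP⟩ := hn
    have hall : ∀ x y z, x ≠ y → ¬ adj x y → y ≠ z → ¬ adj y z → x ≠ z → ¬ adj x z := by
      intro x y z h1 h2 h3 h4 h5 h6
      -- `z` is a neighbour of `x`; it must be a neighbour of `y`
      obtain ⟨u, hu⟩ := exists_smul_eq G y P
      have hzP : ¬ adj (u • z) P := fun h => h4 (hsymm (by simpa [← hu] using hsmul u⁻¹ h))
      have h7 := hP (u • x) (u • z) (fun e => h1 (MulAction.injective u (hu.trans e)).symm)
        (fun h => h2 (hsymm (by simpa [← hu] using hsmul u⁻¹ h))) (hsmul u h6)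
        (fun e => h3 (MulAction.injective u (hu.trans e)))
      exact hzP (hsymm h7)
    rcases class_trivial hprim (fun x y => x = y ∨ (x ≠ y ∧ ¬ adj x y))
      (fun g x y h => h.elim (fun e => Or.inl (e ▸ rfl)) (fun h => Or.inr
        ⟨fun e => h.1 (MulAction.injective g e),
         fun e => h.2 (by simpa using hsmul g⁻¹ e)⟩))
      (fun x => Or.inl rfl)
      (fun x y h => h.elim (fun e => Or.inl e.symm)
        (fun h => Or.inr ⟨h.1.symm, fun e => h.2 (hsymm e)⟩))
      (fun x y z h1 h2 => by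
        rcases h1 with rfl | h1
        · exact h2
        rcases h2 with rfl | h2
        · exact Or.inr h1
        by_cases h5 : x = z
        · exact Or.inl h5
        exact Or.inr ⟨h5, hall x y z h1.1 h1.2 h2.1 h2.2 h5⟩) A with h | h
    · exact hAC (h C (Or.inr ⟨hAC, hnAC⟩)).symm
    · rcases h B with h | h
      · exact hBA h.symm
      · exact h.2 hAB
  refine ⟨{
    adj := adj
    symm := hsymm
    irrefl := hirr
    smul_adj := hsmul
    edge_trans := ?_
    far_trans := ?_
    trans := fun x y => exists_smul_eq G x y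
    frob := ?_
    edge_fix := ?_
    two_step := ?_
    far_edge := hfar
    even := heven
    a := A
    b := B
    c := C
    hab := hAB
    hac := hAC
    nac := hnAC }⟩
  · rintro x y x' y' ⟨u, rfl, rfl⟩ ⟨v, rfl, rfl⟩
    exact ⟨v * u⁻¹, by rw [mul_smul, inv_smul_smul], by rw [mul_smul, inv_smul_smul]⟩
  · intro x y x' y' h1 h2 h1' h2'
    obtain ⟨u, rfl, rfl⟩ := htoC h1 h2
    obtain ⟨v, rfl, rfl⟩ := htoC h1' h2'
    exact ⟨v * u⁻¹, by rw [mul_smul, inv_smul_smul], by rw [mul_smul, inv_smul_smul]⟩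
  · rintro g P Q R ⟨u, rfl, rfl⟩ ⟨v, hv1, rfl⟩ hne hP hQ hR
    have hw : (u⁻¹ * v) • A = A := by rw [mul_smul, hv1, inv_smul_smul]
    have h1 : u⁻¹ * g * u = 1 := by
      refine hfrob _ ?_ (u⁻¹ * v) hw ?_ ?_ ?_
      · rw [mem_stabilizer_iff, mul_smul, mul_smul, hP, inv_smul_smul]
      · rw [mul_smul, mul_smul, hQ, inv_smul_smul]
      · rw [mul_smul, mul_smul, mul_smul, smul_inv_smul, hR]
      · rw [mul_smul]
        exact fun e => hne (inv_smul_eq_iff.1 e).symm
    calc g = u * (u⁻¹ * g * u) * u⁻¹ := by group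
      _ = 1 := by rw [h1]; group
  · rintro P Q ⟨u, rfl, rfl⟩
    refine ⟨u * g₀ * u⁻¹, fun e => hg₀1 (conj_eq_one_iff.1 e), ?_, ?_⟩
    · rw [mul_smul, mul_smul, inv_smul_smul, hg₀A]
    · rw [mul_smul, mul_smul, inv_smul_smul, hg₀B]
  · intro P
    obtain ⟨y, z, h1, h2, h4, h5⟩ := htwo
    obtain ⟨u, rfl⟩ := exists_smul_eq G A P
    exact ⟨u • y, u • z, hsmul u h1, hsmul u h2, fun e => h4 (MulAction.injective u e),
      fun e => h5 (by simpa using hsmul u⁻¹ e)⟩

end Cfsg.Agent.Tsuzuku
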